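import Cfsg.Agent.Transfer.Residual

/-!
# Groups with a normal `p`-complement
-/

namespace CfsgLib.Transfer

open Subgroup
open Cfsg (pResidual HasNormalPComplement)

variable {G : Type*} [Group G] {H : Type*} [Group H] {p : ℕ}

/-- A complement to a Sylow `p`-subgroup has order prime to `p`. -/
theorem not_dvd_card_of_isComplement' [Finite G] [Fact p.Prime] {P : Sylow p G} {N : Subgroup G}
    (h : N.IsComplement' (P : Subgroup G)) : ¬ p ∣ Nat.card N := by
  rw [← h.index_eq_card]; exact P.not_dvd_index

/-- A normal complement to a Sylow `p`-subgroup is `O^p(G)`. -/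
theorem eq_pResidual_of_isComplement' [Finite G] [Fact p.Prime] {P : Sylow p G} {N : Subgroup G}
    [N.Normal] (h : N.IsComplement' (P : Subgroup G)) : N = pResidual p G := by
  refine le_antisymm (fun g hg => mem_pResidual_of_coprime
    (coprime_orderOf_of_mem (not_dvd_card_of_isComplement' h) hg)) ?_
  obtain ⟨k, hk⟩ := IsPGroup.iff_card.1 P.isPGroup'
  exact pResidual_le_of_index_eq_pow N (k := k) (by rw [h.symm.index_eq_card, hk])

/-- A normal subgroup of order prime to `p` with `p`-group quotient is a complement to every
Sylow `p`-subgroup. -/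
theorem isComplement'_of_isPGroup_quotient [Finite G] [Fact p.Prime] (P : Sylow p G)
    {N : Subgroup G} [N.Normal] (hN : ¬ p ∣ Nat.card N) (hq : IsPGroup p (G ⧸ N)) :
    N.IsComplement' (P : Subgroup G) := by
  refine isComplement'_of_disjoint_and_mul_eq_univ
    (disjoint_iff.2 (inf_eq_bot_of_not_dvd_card hN P.isPGroup')) ?_
  rw [← normal_mul, sup_comm]
  have : (P : Subgroup G) ⊔ N = ⊤ := top_le_iff.1 <| (sylow_sup_pResidual P).ge.trans <|
    sup_le_sup_left (pResidual_le_of_isPGroup_quotient N hq) _
  rw [this, coe_top]

/-- `G` has a normal `p`-complement iff `O^p(G)` has order prime to `p`. -/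
theorem hasNormalPComplement_iff [Finite G] [Fact p.Prime] :
    HasNormalPComplement p G ↔ ¬ p ∣ Nat.card (pResidual p G) := by
  constructor
  · rintro ⟨P, N, hN, hc⟩
    rw [← eq_pResidual_of_isComplement' hc]
    exact not_dvd_card_of_isComplement' hc
  · intro h
    exact ⟨default, pResidual p G, inferInstance,
      isComplement'_of_isPGroup_quotient _ h isPGroup_quotient_pResidual⟩

/-- `G` has a normal `p`-complement iff `O^p(G)` meets a Sylow `p`-subgroup trivially. -/
theorem hasNormalPComplement_iff_sylow_inf [Finite G] [Fact p.Prime] (P : Sylow p G) :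
    HasNormalPComplement p G ↔ (P : Subgroup G) ⊓ pResidual p G = ⊥ := by
  rw [hasNormalPComplement_iff]
  refine ⟨fun h => inf_comm _ (pResidual p G) ▸ inf_eq_bot_of_not_dvd_card h P.isPGroup',
    not_dvd_card_of_sylow_inf_eq_bot P _⟩

/-- Criterion: a normal subgroup of order prime to `p` with `p`-group quotient. -/
theorem hasNormalPComplement_of_normal [Finite G] [Fact p.Prime] (N : Subgroup G) [N.Normal]
    (hN : ¬ p ∣ Nat.card N) (hq : IsPGroup p (G ⧸ N)) : HasNormalPComplement p G :=
  ⟨default, N, inferInstance, isComplement'_of_isPGroup_quotient _ hN hq⟩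

/-- With a normal `p`-complement, every Sylow `p`-subgroup has a normal complement. -/
theorem exists_isComplement' [Finite G] [Fact p.Prime] (h : HasNormalPComplement p G)
    (P : Sylow p G) : ∃ N : Subgroup G, N.Normal ∧ N.IsComplement' (P : Subgroup G) :=
  ⟨pResidual p G, inferInstance, isComplement'_of_isPGroup_quotient P
    (hasNormalPComplement_iff.1 h) isPGroup_quotient_pResidual⟩

/-- In a group with normal `p`-complement, `O^p(G)` consists of the elements of order prime
to `p`. -/
theorem mem_pResidual_iff [Finite G] [Fact p.Prime] (h : HasNormalPComplement p G) {g : G} :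
    g ∈ pResidual p G ↔ Nat.Coprime (orderOf g) p :=
  ⟨coprime_orderOf_of_mem (hasNormalPComplement_iff.1 h), mem_pResidual_of_coprime⟩

/-- Having a normal `p`-complement passes to groups embedded in `G`. -/
theorem hasNormalPComplement_of_injective [Finite G] [Fact p.Prime]
    (h : HasNormalPComplement p G) (f : H →* G) (hf : Function.Injective f) :
    HasNormalPComplement p H := by
  haveI : Finite H := Finite.of_injective f hf
  rw [hasNormalPComplement_iff] at h ⊢
  intro hd
  apply h
  rw [← card_map_of_injective hf] at hd
  exact hd.trans (card_dvd_of_le (map_pResidual_le f))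

/-- Having a normal `p`-complement passes to subgroups. -/
theorem hasNormalPComplement_subgroup [Finite G] [Fact p.Prime]
    (h : HasNormalPComplement p G) (K : Subgroup G) : HasNormalPComplement p K :=
  hasNormalPComplement_of_injective h K.subtype K.subtype_injective

/-- Having a normal `p`-complement passes down along inclusions. -/
theorem hasNormalPComplement_of_le [Finite G] [Fact p.Prime] {K L : Subgroup G} (hKL : K ≤ L)
    (h : HasNormalPComplement p L) : HasNormalPComplement p K :=
  hasNormalPComplement_of_injective h (inclusion hKL) (inclusion_injective hKL)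

/-- Having a normal `p`-complement passes to images. -/
theorem hasNormalPComplement_of_surjective [Finite G] [Fact p.Prime]
    (h : HasNormalPComplement p G) (f : G →* H) (hf : Function.Surjective f) :
    HasNormalPComplement p H := by
  haveI : Finite H := Finite.of_surjective f hf
  rw [hasNormalPComplement_iff] at h ⊢
  rw [← map_pResidual_of_surjective f hf]
  exact fun hd => h (hd.trans (card_map_dvd _ f))

/-- Having a normal `p`-complement is invariant under isomorphisms. -/
theorem hasNormalPComplement_congr [Finite G] [Fact p.Prime] (e : G ≃* H) :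
    HasNormalPComplement p G ↔ HasNormalPComplement p H :=
  haveI : Finite H := Finite.of_equiv _ e.toEquiv
  ⟨fun h => hasNormalPComplement_of_injective h e.symm.toMonoidHom e.symm.injective,
    fun h => hasNormalPComplement_of_injective h e.toMonoidHom e.injective⟩

/-- A `p`-group has a normal `p`-complement. -/
theorem hasNormalPComplement_of_isPGroup [Finite G] [Fact p.Prime] (hG : IsPGroup p G) :
    HasNormalPComplement p G :=
  hasNormalPComplement_iff.2 <| by
    rw [pResidual_eq_bot_of_isPGroup hG]
    simpa using (Fact.out : p.Prime).ne_one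

/-- A group of order prime to `p` has a normal `p`-complement. -/
theorem hasNormalPComplement_of_not_dvd_card [Finite G] [Fact p.Prime] (h : ¬ p ∣ Nat.card G) :
    HasNormalPComplement p G :=
  hasNormalPComplement_iff.2 fun hd => h (hd.trans (card_subgroup_dvd_card _))

/-- Extension of a `p'`-group by a group with normal `p`-complement. -/
theorem hasNormalPComplement_of_quotient [Finite G] [Fact p.Prime] (N : Subgroup G) [N.Normal]
    (hN : ¬ p ∣ Nat.card N) (h : HasNormalPComplement p (G ⧸ N)) :
    HasNormalPComplement p G := by
  rw [hasNormalPComplement_iff] at h ⊢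
  rw [← map_pResidual_of_surjective _ (QuotientGroup.mk'_surjective N)] at h
  rw [← relIndex_ker, QuotientGroup.ker_mk'] at h
  rw [← card_sylow_inf_mul_relIndex N (pResidual p G),
    (Fact.out : p.Prime).dvd_mul]
  exact fun hd => hd.elim (fun hd => hN (hd.trans (card_dvd_of_le inf_le_left))) h

/-- If all Sylow subgroups for primes other than `p` are normal, there is a normal
`p`-complement; in particular for nilpotent groups. -/
theorem hasNormalPComplement_of_isNilpotent [Finite G] [Fact p.Prime] [Group.IsNilpotent G] :
    HasNormalPComplement p G := by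
  classical
  have key : ∀ s : Finset ℕ, (∀ q ∈ s, q.Prime ∧ q ≠ p) →
      ∃ N : Subgroup G, N.Normal ∧ ¬ p ∣ Nat.card N ∧ ∀ q ∈ s, ¬ q ∣ N.index := by
    intro s
    induction s using Finset.induction_on with
    | empty => exact fun _ => ⟨⊥, inferInstance, by simpa using (Fact.out : p.Prime).ne_one,
        by simp⟩
    | insert q s hqs ih =>
      intro hs
      obtain ⟨N, hN, hNp, hNs⟩ := ih fun r hr => hs r (Finset.mem_insert_of_mem hr)
      obtain ⟨hq, hqp⟩ := hs q (Finset.mem_insert_self q s)
      haveI : Fact q.Prime := ⟨hq⟩
      let Q : Sylow q G := default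
      haveI : (Q : Subgroup G).Normal :=
        Q.normal_of_normalizerCondition (Group.normalizerCondition_of_isNilpotent (G := G))
      refine ⟨(Q : Subgroup G) ⊔ N, inferInstance, fun hd => ?_, fun r hr => ?_⟩
      · have h1 := relIndex_mul_relIndex ⊥ N ((Q : Subgroup G) ⊔ N) bot_le le_sup_right
        rw [relIndex_bot_left, relIndex_bot_left, relIndex_sup_right] at h1
        rw [← h1] at hd
        rcases (Fact.out : p.Prime).dvd_mul.1 hd with hd | hd
        · exact hNp hd
        · obtain ⟨k, hk⟩ := IsPGroup.iff_card.1 Q.isPGroup'
          have hd' := hd.trans (relIndex_dvd_card _ _)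
          rw [hk] at hd'
          exact hqp ((Nat.prime_dvd_prime_iff_eq Fact.out hq).1
            ((Fact.out : p.Prime).dvd_of_dvd_pow hd')).symm
      · rcases Finset.mem_insert.1 hr with rfl | hr
        · exact fun hd => Q.not_dvd_index (hd.trans (index_dvd_of_le le_sup_left))
        · exact fun hd => hNs r hr (hd.trans (index_dvd_of_le le_sup_right))
  obtain ⟨N, hN, hNp, hNs⟩ := key ((Nat.card G).primeFactors.erase p) fun q hq => by
    exact ⟨(Nat.mem_primeFactors.1 (Finset.mem_of_mem_erase hq)).1, (Finset.mem_erase.1 hq).1⟩
  have hu : ∀ {q : ℕ}, q.Prime → q ∣ N.index → q = p := fun {q} hq hd => ?_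
  · exact hasNormalPComplement_of_normal N hNp (IsPGroup.of_card
      (by rw [← index_eq_card]
          exact Nat.eq_prime_pow_of_unique_prime_dvd index_ne_zero_of_finite hu))
  by_contra hqp
  exact hNs q (Finset.mem_erase.2 ⟨hqp, Nat.mem_primeFactors.2
    ⟨hq, hd.trans (index_dvd_card _), Nat.card_pos.ne'⟩⟩) hd

end CfsgLib.Transfer
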