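import Cfsg.Agent.Transfer.Residual
import Mathlib.GroupTheory.Focal

/-!
# Control of fusion, Burnside's and Grün's fusion lemmas, and focal subgroups
-/

namespace CfsgLib.Transfer

open Subgroup

open scoped commutatorElement

variable {G : Type*} [Group G] {p : ℕ}

/-- `N` controls the fusion of elements of `P` with respect to `G`. -/
def ControlsFusion (N P : Subgroup G) : Prop :=
  ∀ x ∈ P, ∀ g : G, g * x * g⁻¹ ∈ P → ∃ n ∈ N, n * x * n⁻¹ = g * x * g⁻¹

theorem mem_map_conj_iff {g x : G} {K : Subgroup G} :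
    x ∈ K.map (MulAut.conj g).toMonoidHom ↔ g⁻¹ * x * g ∈ K := by
  constructor
  · rintro ⟨k, hk, rfl⟩
    simpa [mul_assoc] using hk
  · intro h
    exact ⟨g⁻¹ * x * g, h, by simp [mul_assoc]⟩

theorem mem_normalizer_of_map_conj_eq {g : G} {K : Subgroup G}
    (h : K.map (MulAut.conj g).toMonoidHom = K) : g ∈ normalizer (K : Set G) :=
  mem_normalizer_iff_map_conj_eq.2 h

theorem map_conj_eq_of_mem_normalizer {g : G} {K : Subgroup G}
    (h : g ∈ normalizer (K : Set G)) : K.map (MulAut.conj g).toMonoidHom = K :=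
  mem_normalizer_iff_map_conj_eq.1 h

theorem map_conj_map_conj (K : Subgroup G) (a b : G) :
    (K.map (MulAut.conj b).toMonoidHom).map (MulAut.conj a).toMonoidHom =
      K.map (MulAut.conj (a * b)).toMonoidHom := by
  rw [map_map]
  congr 1
  ext x
  simp [mul_assoc]

/-- A subgroup is weakly closed in itself. -/
theorem isWeaklyClosed_self [Finite G] (P : Subgroup G) : Cfsg.IsWeaklyClosed P P :=
  ⟨le_rfl, fun g hg => eq_of_le_of_card_ge hg
    (card_map_of_injective (MulAut.conj g).injective).ge⟩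

/-- The fusion lemma of Burnside and Grün: if `Z` is weakly closed in `P` and centralises both
`X` and `g X g⁻¹`, then conjugation by `g` on `X` is realised by an element normalising `Z`. -/
theorem exists_mem_normalizer_conj_of_weaklyClosed [Finite G] [Fact p.Prime] (P : Sylow p G)
    {Z : Subgroup G} (hW : Cfsg.IsWeaklyClosed Z (P : Subgroup G)) {X : Set G} {g : G}
    (hX : Z ≤ centralizer X) (hY : Z ≤ centralizer ((fun x => g * x * g⁻¹) '' X)) :
    ∃ n ∈ normalizer (Z : Set G), ∀ x ∈ X, n * x * n⁻¹ = g * x * g⁻¹ := by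
  classical
  set Y := (fun x => g * x * g⁻¹) '' X with hYdef
  set C := centralizer Y with hC
  have hZg : Z.map (MulAut.conj g).toMonoidHom ≤ C := by
    rintro _ ⟨z, hz, rfl⟩ _ ⟨x, hx, rfl⟩
    have := hX hz x hx
    simp only [MulEquiv.coe_toMonoidHom, MulAut.conj_apply]
    calc g * x * g⁻¹ * (g * z * g⁻¹) = g * (x * z) * g⁻¹ := by group
      _ = g * (z * x) * g⁻¹ := by rw [this]
      _ = g * z * g⁻¹ * (g * x * g⁻¹) := by group
  have hZp : IsPGroup p Z := P.isPGroup'.to_le hW.1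
  obtain ⟨S, hS⟩ := (hZp.comap_subtype (K := C)).exists_le_sylow
  obtain ⟨T, hT⟩ := ((hZp.map (MulAut.conj g).toMonoidHom).comap_subtype (K := C)).exists_le_sylow
  obtain ⟨c, hc⟩ := MulAction.exists_smul_eq C T S
  obtain ⟨R, hR⟩ := (S.isPGroup'.map C.subtype).exists_le_sylow
  obtain ⟨h, hh⟩ := MulAction.exists_smul_eq G P R
  have hRP : ∀ r ∈ R, h⁻¹ * r * h ∈ (P : Subgroup G) := by
    intro r hr
    rw [← hh] at hr
    change r ∈ ((h • P : Sylow p G) : Subgroup G) at hr
    rw [Sylow.coe_subgroup_smul, Subgroup.mem_pointwise_smul_iff_inv_smul_mem] at hr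
    simpa [MulAut.smul_def] using hr
  have h1 : Z.map (MulAut.conj h⁻¹).toMonoidHom = Z := hW.2 _ <| by
    rintro _ ⟨z, hz, rfl⟩
    have : z ∈ R := hR ⟨⟨z, hY hz⟩, hS (mem_subgroupOf.2 hz), rfl⟩
    simpa using hRP z this
  have h2 : Z.map (MulAut.conj (h⁻¹ * (c * g))).toMonoidHom = Z := hW.2 _ <| by
    rintro _ ⟨z, hz, rfl⟩
    have hzT : (⟨g * z * g⁻¹, hZg ⟨z, hz, rfl⟩⟩ : C) ∈ (T : Subgroup C) :=
      hT (mem_subgroupOf.2 ⟨z, hz, rfl⟩)
    have hzS : c * ⟨g * z * g⁻¹, hZg ⟨z, hz, rfl⟩⟩ * c⁻¹ ∈ (S : Subgroup C) := by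
      rw [← hc, Sylow.coe_subgroup_smul]
      exact ⟨_, hzT, rfl⟩
    simpa [mul_assoc] using hRP _ (hR ⟨_, hzS, rfl⟩)
  refine ⟨c * g, ?_, fun x hx => ?_⟩
  · have : (c : G) * g = h⁻¹⁻¹ * (h⁻¹ * (c * g)) := by group
    rw [this]
    exact mul_mem (inv_mem (mem_normalizer_of_map_conj_eq h1))
      (mem_normalizer_of_map_conj_eq h2)
  · have : g * x * g⁻¹ * c = c * (g * x * g⁻¹) := c.2 _ ⟨x, hx, rfl⟩
    calc (c : G) * g * x * ((c : G) * g)⁻¹ = c * (g * x * g⁻¹) * (c : G)⁻¹ := by group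
      _ = g * x * g⁻¹ := by rw [← this]; group

/-- If the centre of `P` contains a weakly closed subgroup `Z`, then `N_G(Z)` controls the fusion
of elements of `P`. -/
theorem controlsFusion_normalizer_of_weaklyClosed [Finite G] [Fact p.Prime] (P : Sylow p G)
    {Z : Subgroup G} (hW : Cfsg.IsWeaklyClosed Z (P : Subgroup G))
    (hZ : Z ≤ centralizer (P : Set G)) :
    ControlsFusion (normalizer (Z : Set G)) (P : Subgroup G) := by
  intro x hx g hgx
  obtain ⟨n, hn, h⟩ := exists_mem_normalizer_conj_of_weaklyClosed P hW (X := {x}) (g := g)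
    (hZ.trans (centralizer_le (Set.singleton_subset_iff.2 hx)))
    (hZ.trans (centralizer_le (by rw [Set.image_singleton]; exact Set.singleton_subset_iff.2 hgx)))
  exact ⟨n, hn, h x rfl⟩

/-- Burnside: the normalizer of an abelian Sylow subgroup controls its fusion. -/
theorem controlsFusion_normalizer_of_isMulCommutative [Finite G] [Fact p.Prime] (P : Sylow p G)
    (hP : IsMulCommutative P) :
    ControlsFusion (normalizer (P : Set G)) (P : Subgroup G) :=
  controlsFusion_normalizer_of_weaklyClosed P (isWeaklyClosed_self _)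
    (fun x hx y hy => congrArg Subtype.val (mul_comm' (⟨y, hy⟩ : P) ⟨x, hx⟩))

theorem ControlsFusion.mono {N N' P : Subgroup G} (h : ControlsFusion N P) (hN : N ≤ N') :
    ControlsFusion N' P := fun x hx g hg =>
  let ⟨n, hn, e⟩ := h x hx g hg
  ⟨n, hN hn, e⟩

/-- If `N` controls the fusion in `P ≤ N`, the focal subgroup of `P` lies in `[N, N]`. -/
theorem focalSubgroup_le_commutator_of_controlsFusion {N P : Subgroup G} (hPN : P ≤ N)
    (h : ControlsFusion N P) : P.focalSubgroup ≤ ⁅N, N⁆ := by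
  rw [focalSubgroup_def, closure_le]
  rintro _ ⟨hgP, x, hx, u, rfl⟩
  have hu : u * x⁻¹ * u⁻¹ ∈ P := by
    have := P.mul_mem (P.inv_mem hx) hgP
    simpa [commutatorElement_def, mul_assoc] using this
  obtain ⟨n, hn, e⟩ := h x⁻¹ (P.inv_mem hx) u hu
  have : ⁅x, u⁆ = ⁅x, n⁆ := by
    simp only [commutatorElement_def]
    calc x * u * x⁻¹ * u⁻¹ = x * (u * x⁻¹ * u⁻¹) := by group
      _ = x * (n * x⁻¹ * n⁻¹) := by rw [e]
      _ = x * n * x⁻¹ * n⁻¹ := by group
  rw [this]
  exact commutator_mem_commutator (hPN hx) hn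

/-- The focal subgroup theorem with control of fusion: `G' ∩ P = N' ∩ P`. -/
theorem commutator_inf_eq_of_controlsFusion [Finite G] [Fact p.Prime] (P : Sylow p G)
    {N : Subgroup G} (hPN : (P : Subgroup G) ≤ N) (h : ControlsFusion N (P : Subgroup G)) :
    commutator G ⊓ (P : Subgroup G) = ⁅N, N⁆ ⊓ (P : Subgroup G) := by
  refine le_antisymm (le_inf ?_ inf_le_right)
    (inf_le_inf_right _ (commutator_mono le_top le_top))
  rw [commutator_inf_eq_focalSubgroup P]
  exact focalSubgroup_le_commutator_of_controlsFusion hPN h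

/-- A Sylow subgroup controlling its own fusion satisfies `G' ∩ P = P'`. -/
theorem commutator_inf_eq_commutator_of_controlsFusion_self [Finite G] [Fact p.Prime]
    (P : Sylow p G) (h : ControlsFusion (P : Subgroup G) (P : Subgroup G)) :
    commutator G ⊓ (P : Subgroup G) = ⁅(P : Subgroup G), (P : Subgroup G)⁆ := by
  rw [commutator_inf_eq_of_controlsFusion P le_rfl h, inf_eq_left]
  exact commutator_le_self _

end CfsgLib.Transfer
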