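import Cfsg.Agent.Transfer.Fusion

/-!
# Alperin's fusion theorem
-/

namespace CfsgLib.Transfer

open Subgroup

variable {G : Type*} [Group G] {p : ℕ}

/-- `P ⊓ Q` is a tame intersection: its normalizer meets both `P` and `Q` in Sylow subgroups. -/
def IsTameInf (P Q : Sylow p G) : Prop :=
  ¬ p ∣ ((P : Subgroup G) ⊓ normalizer ((((P : Subgroup G) ⊓ (Q : Subgroup G)) : Subgroup G) :
      Set G)).relIndex (normalizer ((((P : Subgroup G) ⊓ (Q : Subgroup G)) : Subgroup G) : Set G)) ∧
  ¬ p ∣ ((Q : Subgroup G) ⊓ normalizer ((((P : Subgroup G) ⊓ (Q : Subgroup G)) : Subgroup G) :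
      Set G)).relIndex (normalizer ((((P : Subgroup G) ⊓ (Q : Subgroup G)) : Subgroup G) : Set G))

/-- A chain of conjugations through normalizers of tame intersections carrying `A` along. -/
inductive FusionChain (P : Sylow p G) : Set G → G → Prop
  | nil (A : Set G) : FusionChain P A 1
  | cons (A : Set G) (Q : Sylow p G) (x g : G)
      (hA : A ⊆ (((P : Subgroup G) ⊓ (Q : Subgroup G) : Subgroup G) : Set G))
      (htame : IsTameInf P Q)
      (hx : x ∈ normalizer ((((P : Subgroup G) ⊓ (Q : Subgroup G)) : Subgroup G) : Set G))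
      (h : FusionChain P ((fun a => x⁻¹ * a * x) '' A) g) : FusionChain P A (x * g)

theorem FusionChain.mono {P : Sylow p G} {A : Set G} {g : G} (h : FusionChain P A g) :
    ∀ {B : Set G}, B ⊆ A → FusionChain P B g := by
  induction h with
  | nil A => intro B _; exact .nil B
  | cons A Q x g hA ht hx _ ih =>
    intro B hB
    exact .cons B Q x g (hB.trans hA) ht hx (ih (Set.image_mono hB))

theorem FusionChain.trans {P : Sylow p G} {A : Set G} {g h : G} (h1 : FusionChain P A g)
    (h2 : FusionChain P ((fun a => g⁻¹ * a * g) '' A) h) : FusionChain P A (g * h) := by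
  induction h1 with
  | nil A => simpa using h2
  | cons A Q x g hA ht hx _ ih =>
    rw [mul_assoc]
    refine .cons A Q x (g * h) hA ht hx (ih (cast ?_ h2))
    congr 1
    rw [Set.image_image]
    exact Set.image_congr fun a _ => by group

theorem isTameInf_self [Finite G] [Fact p.Prime] (P : Sylow p G) : IsTameInf P P := by
  have : ¬ p ∣ (P : Subgroup G).relIndex (normalizer (P : Set G)) :=
    fun h => P.not_dvd_index (h.trans (relIndex_dvd_index_of_le le_normalizer))
  refine ⟨?_, ?_⟩ <;>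
  · rwa [inf_idem, inf_eq_left.2 (le_normalizer (H := (P : Subgroup G)))]

/-- A step inside `N_G(P)`. -/
theorem FusionChain.of_mem_normalizer [Finite G] [Fact p.Prime] {P : Sylow p G} {A : Set G}
    {x : G} (hA : A ⊆ (P : Set G)) (hx : x ∈ normalizer (P : Set G)) : FusionChain P A x := by
  have := FusionChain.cons A P x 1 (by simpa using hA) (isTameInf_self P)
    (by simpa using hx) (.nil _)
  simpa using this

theorem mem_smul_iff {P : Sylow p G} {g x : G} :
    x ∈ ((g • P : Sylow p G) : Subgroup G) ↔ g⁻¹ * x * g ∈ (P : Subgroup G) := by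
  rw [Sylow.coe_subgroup_smul]
  exact mem_map_conj_iff

theorem conj_mem_smul {P : Sylow p G} (g : G) {a : G} (ha : a ∈ (P : Subgroup G)) :
    (MulAut.conj g).toMonoidHom a ∈ ((g • P : Sylow p G) : Subgroup G) := by
  rw [Sylow.coe_subgroup_smul]
  exact ⟨a, ha, rfl⟩

/-- The normalizer condition inside a `p`-subgroup. -/
theorem lt_inf_normalizer [Finite G] [Fact p.Prime] {P D : Subgroup G} (hP : IsPGroup p P)
    (hD : D < P) : D < P ⊓ normalizer (D : Set G) := by
  refine lt_of_le_of_ne (le_inf hD.le le_normalizer) fun hEq => ?_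
  haveI := hP.isNilpotent
  have hlt : D.subgroupOf P < ⊤ := lt_top_iff_ne_top.2 fun h => hD.not_ge (subgroupOf_eq_top.1 h)
  have hn := (Group.normalizerCondition_of_isNilpotent (G := P)) _ hlt
  rw [← subgroupOf_normalizer_eq hD.le] at hn
  apply hn.ne
  conv_lhs => rw [hEq]
  rw [inf_subgroupOf_left]

/-- A Sylow subgroup containing a given `p`-subgroup of `N` and a Sylow subgroup of `N`. -/
theorem exists_sylow_ge_inf_sylow [Finite G] [Fact p.Prime] {D N : Subgroup G}
    (hD : IsPGroup p D) (hDN : D ≤ N) :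
    ∃ R : Sylow p G, D ≤ (R : Subgroup G) ∧ ¬ p ∣ ((R : Subgroup G) ⊓ N).relIndex N := by
  obtain ⟨S, hS⟩ := (hD.comap_subtype (K := N)).exists_le_sylow
  obtain ⟨R, hR⟩ := (S.isPGroup'.map N.subtype).exists_le_sylow
  refine ⟨R, fun x hx => hR ⟨⟨x, hDN hx⟩, hS (mem_subgroupOf.2 hx), rfl⟩, fun hd => ?_⟩
  rw [inf_relIndex_right] at hd
  refine S.not_dvd_index (hd.trans ?_)
  have hle : (S : Subgroup N) ≤ (R : Subgroup G).subgroupOf N :=
    fun x hx => mem_subgroupOf.2 (hR ⟨x, hx, rfl⟩)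
  exact index_dvd_of_le hle

theorem card_lt_card_of_lt [Finite G] {H K : Subgroup G} (h : H < K) :
    Nat.card H < Nat.card K :=
  Nat.lt_of_not_le fun hle => h.ne (eq_of_le_of_card_ge h.le hle)

/-- The Sylow subgroup `P ⊓ N` of `N`. -/
theorem card_subgroupOf_eq [Finite G] [Fact p.Prime] {N : Subgroup G} (P : Sylow p G)
    (h : ¬ p ∣ ((P : Subgroup G) ⊓ N).relIndex N) :
    Nat.card ((P : Subgroup G).subgroupOf N) = p ^ (Nat.card N).factorization p := by
  obtain ⟨k, hk⟩ := IsPGroup.iff_card.1 (P.isPGroup'.comap_subtype (K := N))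
  rw [inf_relIndex_right] at h
  change Nat.card ((P : Subgroup G).subgroupOf N) = _ at hk
  have hi : ¬ p ∣ ((P : Subgroup G).subgroupOf N).index := h
  rw [← card_mul_index ((P : Subgroup G).subgroupOf N), hk,
    Nat.factorization_mul (pow_ne_zero _ (Fact.out : p.Prime).ne_zero) index_ne_zero_of_finite,
    Nat.Prime.factorization_pow Fact.out]
  simp [Nat.factorization_eq_zero_of_not_dvd hi]

/-- Conjugation moves a tame intersection. -/
theorem not_dvd_relIndex_conj {P R : Sylow p G} {D : Subgroup G} {x : G} (hxR : x⁻¹ • R = P)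
    (h : ¬ p ∣ ((R : Subgroup G) ⊓ normalizer (D : Set G)).relIndex (normalizer (D : Set G))) :
    ¬ p ∣ ((P : Subgroup G) ⊓ normalizer ((D.map (MulAut.conj x⁻¹).toMonoidHom : Subgroup G) :
      Set G)).relIndex (normalizer ((D.map (MulAut.conj x⁻¹).toMonoidHom : Subgroup G) : Set G)) := by
  have e : normalizer ((D.map (MulAut.conj x⁻¹).toMonoidHom : Subgroup G) : Set G) =
      (normalizer (D : Set G)).map (MulAut.conj x⁻¹).toMonoidHom :=
    (map_equiv_normalizer_eq D (MulAut.conj x⁻¹)).symm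
  rw [e, ← hxR, Sylow.coe_subgroup_smul]
  change ¬ p ∣ ((R : Subgroup G).map (MulAut.conj x⁻¹).toMonoidHom ⊓ _).relIndex _
  rw [← map_inf _ _ _ (MulAut.conj x⁻¹).injective,
    relIndex_map_map_of_injective _ _ (MulAut.conj x⁻¹).injective]
  exact h

/-- For every Sylow subgroup `Q` some chain through tame intersections moves `Q` to `P`,
starting at `P ⊓ Q`. -/
theorem exists_fusionChain_smul [Finite G] [Fact p.Prime] (P : Sylow p G) (Q : Sylow p G) :
    ∃ g : G, FusionChain P (((P : Subgroup G) ⊓ (Q : Subgroup G) : Subgroup G) : Set G) g ∧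
      g⁻¹ • Q = P := by
  induction hk : Nat.card G - Nat.card ((P : Subgroup G) ⊓ (Q : Subgroup G) : Subgroup G)
    using Nat.strong_induction_on generalizing Q with
  | _ k ih =>
  set D := (P : Subgroup G) ⊓ (Q : Subgroup G) with hDdef
  have hrec : ∀ R : Sylow p G,
      Nat.card D < Nat.card ((P : Subgroup G) ⊓ (R : Subgroup G) : Subgroup G) →
      ∃ g : G, FusionChain P (((P : Subgroup G) ⊓ (R : Subgroup G) : Subgroup G) : Set G) g ∧
        g⁻¹ • R = P := by
    intro R hR
    refine ih _ ?_ R rfl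
    have h2 := Nat.card_le_card_of_injective _
      ((P : Subgroup G) ⊓ (R : Subgroup G) : Subgroup G).subtype_injective
    omega
  by_cases hQP : Q = P
  · subst hQP
    exact ⟨1, .nil _, by simp⟩
  have hDP : D < (P : Subgroup G) := lt_of_le_of_ne inf_le_left fun h =>
    hQP (Sylow.ext ((P.3 Q.isPGroup' (inf_eq_left.1 h))).symm).symm
  have hDQ : D < (Q : Subgroup G) := lt_of_le_of_ne inf_le_right fun h =>
    hQP (Sylow.ext (Q.3 P.isPGroup' (inf_eq_right.1 h))).symm
  -- reduce to the case that `P ⊓ N(D)` is a Sylow subgroup of `N(D)`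
  have main : ∀ (Q : Sylow p G),
      (∀ R : Sylow p G, Nat.card ((P : Subgroup G) ⊓ (Q : Subgroup G) : Subgroup G) <
          Nat.card ((P : Subgroup G) ⊓ (R : Subgroup G) : Subgroup G) →
        ∃ g : G, FusionChain P (((P : Subgroup G) ⊓ (R : Subgroup G) : Subgroup G) : Set G) g ∧
          g⁻¹ • R = P) →
      (P : Subgroup G) ⊓ (Q : Subgroup G) < (Q : Subgroup G) →
      ¬ p ∣ ((P : Subgroup G) ⊓ normalizer ((((P : Subgroup G) ⊓ (Q : Subgroup G)) : Subgroup G) :
          Set G)).relIndex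
          (normalizer ((((P : Subgroup G) ⊓ (Q : Subgroup G)) : Subgroup G) : Set G)) →
      ∃ g : G, FusionChain P (((P : Subgroup G) ⊓ (Q : Subgroup G) : Subgroup G) : Set G) g ∧
        g⁻¹ • Q = P := by
    intro Q hrec hDQ htame
    set D := (P : Subgroup G) ⊓ (Q : Subgroup G) with hDdef
    set N := normalizer (D : Set G) with hN
    have hDN : D ≤ N := le_normalizer
    have hQN := lt_inf_normalizer Q.isPGroup' hDQ
    obtain ⟨S, hS, hStame⟩ := exists_sylow_ge_inf_sylow (D := (Q : Subgroup G) ⊓ N) (N := N)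
      (Q.isPGroup'.to_inf_left) inf_le_right
    have hDS : D ≤ (P : Subgroup G) ⊓ (S : Subgroup G) :=
      le_inf inf_le_left (hQN.le.trans hS)
    rcases lt_or_eq_of_le hDS with hlt | heq
    · obtain ⟨z, hz, hzS⟩ := hrec S (card_lt_card_of_lt hlt)
      -- `z⁻¹ • (Q ⊓ N)` lies in `P ⊓ z⁻¹ • Q`
      have hsub : ((Q : Subgroup G) ⊓ N).map (MulAut.conj z⁻¹).toMonoidHom ≤
          (P : Subgroup G) ⊓ ((z⁻¹ • Q : Sylow p G) : Subgroup G) := by
        rintro _ ⟨a, ha, rfl⟩
        refine ⟨?_, conj_mem_smul _ ha.1⟩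
        rw [← hzS]
        exact conj_mem_smul _ (hS ha)
      obtain ⟨z', hz', hzQ⟩ := hrec (z⁻¹ • Q) ((card_lt_card_of_lt hQN).trans_le
        ((card_map_of_injective (MulAut.conj z⁻¹).injective).ge.trans (card_le_of_le hsub)))
      refine ⟨z * z', (hz.mono (SetLike.coe_subset_coe.2 hDS)).trans (hz'.mono ?_), ?_⟩
      · rintro _ ⟨a, ha, rfl⟩
        refine hsub ⟨a, hQN.le ha, by simp [mul_assoc]⟩
      · rw [mul_inv_rev, mul_smul, hzQ]
    · -- `P ⊓ S = D` is a tame intersection
      have ht : IsTameInf P S := by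
        unfold IsTameInf
        rw [← heq]
        exact ⟨htame, hStame⟩
      -- `P ⊓ N` and `S ⊓ N` are Sylow subgroups of `N`
      let PN : Sylow p N := Sylow.ofCard _ (card_subgroupOf_eq P htame)
      let SN : Sylow p N := Sylow.ofCard _ (card_subgroupOf_eq S hStame)
      obtain ⟨y, hy⟩ := MulAction.exists_smul_eq N SN PN
      have hyS : ∀ a ∈ (S : Subgroup G) ⊓ N, (y : G) * a * (y : G)⁻¹ ∈ (P : Subgroup G) := by
        intro a ha
        have : (⟨a, ha.2⟩ : N) ∈ (SN : Subgroup N) := by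
          exact mem_subgroupOf.2 ha.1
        have h2 : y * ⟨a, ha.2⟩ * y⁻¹ ∈ (PN : Subgroup N) := by
          rw [← hy, Sylow.coe_subgroup_smul]
          exact ⟨_, this, rfl⟩
        exact mem_subgroupOf.1 h2
      set x : G := (y : G)⁻¹ with hx
      have hxN : x ∈ N := inv_mem y.2
      have hlt : D < (P : Subgroup G) ⊓ ((x⁻¹ • Q : Sylow p G) : Subgroup G) := by
        have hsub : ((Q : Subgroup G) ⊓ N).map (MulAut.conj (y : G)).toMonoidHom ≤
            (P : Subgroup G) ⊓ ((x⁻¹ • Q : Sylow p G) : Subgroup G) := by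
          rintro _ ⟨a, ha, rfl⟩
          exact ⟨hyS a ⟨hS ha, ha.2⟩,
            by rw [hx, inv_inv]; exact conj_mem_smul _ ha.1⟩
        refine lt_of_lt_of_le ?_ hsub
        rw [← map_conj_eq_of_mem_normalizer (g := (y : G)) (K := D) y.2]
        exact (map_lt_map_iff_of_injective (MulAut.conj (y : G)).injective).2 hQN
      obtain ⟨z, hz, hzQ⟩ := hrec (x⁻¹ • Q) (card_lt_card_of_lt hlt)
      refine ⟨x * z, .cons _ S x z (by rw [← heq]) ht (by rw [← heq]; exact hxN)
        (hz.mono ?_), by rw [mul_inv_rev, mul_smul, hzQ]⟩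
      rintro _ ⟨a, ha, rfl⟩
      refine hlt.le ?_
      exact (mem_normalizer_iff''.1 hxN a).1 ha
  have hN := lt_inf_normalizer P.isPGroup' hDP
  obtain ⟨R, hR, hRtame⟩ := exists_sylow_ge_inf_sylow
    (D := (P : Subgroup G) ⊓ normalizer (D : Set G)) (N := normalizer (D : Set G))
    P.isPGroup'.to_inf_left inf_le_right
  obtain ⟨x, hx, hxR⟩ := hrec R (card_lt_card_of_lt (hN.trans_le (le_inf inf_le_left hR)))
  set Q' := x⁻¹ • Q with hQ'
  have hDR : D ≤ (P : Subgroup G) ⊓ (R : Subgroup G) :=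
    le_inf inf_le_left (hN.le.trans hR)
  have hD' : D.map (MulAut.conj x⁻¹).toMonoidHom ≤ (P : Subgroup G) ⊓ (Q' : Subgroup G) := by
    rintro _ ⟨a, ha, rfl⟩
    refine ⟨?_, conj_mem_smul _ ha.2⟩
    rw [← hxR]
    exact conj_mem_smul _ (hDR ha).2
  suffices h : ∃ g, FusionChain P ((D.map (MulAut.conj x⁻¹).toMonoidHom : Subgroup G) : Set G) g ∧
      g⁻¹ • Q' = P by
    obtain ⟨g, hg, hgQ⟩ := h
    refine ⟨x * g, (hx.mono (SetLike.coe_subset_coe.2 hDR)).trans (hg.mono ?_), by
      rw [mul_inv_rev, mul_smul, ← hQ', hgQ]⟩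
    rintro _ ⟨a, ha, rfl⟩
    exact ⟨a, ha, by simp [mul_assoc]⟩
  rcases lt_or_eq_of_le hD' with hlt | heq
  · obtain ⟨g, hg, hgQ⟩ := hrec Q'
      ((card_map_of_injective (K := D) (f := (MulAut.conj x⁻¹).toMonoidHom)
        (MulAut.conj x⁻¹).injective).ge.trans_lt
        (card_lt_card_of_lt hlt))
    exact ⟨g, hg.mono (SetLike.coe_subset_coe.2 hD'), hgQ⟩
  · rw [heq]
    refine main Q' (fun R' hR' => hrec R' ?_) ?_ ?_
    · rwa [← heq, card_map_of_injective (f := (MulAut.conj x⁻¹).toMonoidHom)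
        (MulAut.conj x⁻¹).injective] at hR'
    · rw [← heq, hQ', Sylow.coe_subgroup_smul]
      exact (map_lt_map_iff_of_injective (MulAut.conj x⁻¹).injective).2 hDQ
    · rw [← heq]
      exact not_dvd_relIndex_conj (P := P) (R := R) (D := D) hxR hRtame

end CfsgLib.Transfer
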