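import Cfsg.Agent.Solvable.Frattini
import Cfsg.Agent.OddOrder.BG4.Basic

/-!
# Critical subgroups of `p`-groups (Thompson)
-/

namespace CfsgLib.Transfer

open Subgroup
open scoped commutatorElement

variable {R : Type*} [Group R] {p : ℕ}

/-- **Thompson**: every finite `p`-group has a critical subgroup. -/
theorem exists_critical [Finite R] [hp : Fact p.Prime] (hR : IsPGroup p R) :
    ∃ H : Subgroup R, H.Characteristic ∧
      (frattini H).map H.subtype ≤ centralizer (H : Set R) ∧
      ⁅H, (⊤ : Subgroup R)⁆ ≤ H ⊓ centralizer (H : Set R) ∧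
      centralizer (H : Set R) ≤ H := by
  obtain ⟨D, ⟨hDc, hDab⟩, hDmax⟩ := Set.Finite.exists_maximal
    (s := {D : Subgroup R | D.Characteristic ∧ IsMulCommutative D})
    (Set.toFinite _) ⟨center R, inferInstance, inferInstance⟩
  haveI : D.Characteristic := hDc
  set q := QuotientGroup.mk' D with hq
  let W : Subgroup (R ⧸ D) :=
    { carrier := {y | y ∈ center (R ⧸ D) ∧ y ^ p = 1}
      one_mem' := ⟨one_mem _, one_pow p⟩
      mul_mem' := fun {a b} ha hb => ⟨mul_mem ha.1 hb.1, by
        rw [(Commute.mul_pow (mem_center_iff.1 hb.1 a) p), ha.2, hb.2, one_mul]⟩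
      inv_mem' := fun {a} ha => ⟨inv_mem ha.1, by rw [inv_pow, ha.2, inv_one]⟩ }
  have hW : W.Characteristic := by
    refine characteristic_iff_le_comap.2 fun φ y hy => ?_
    exact ⟨characteristic_iff_le_comap.1 centerCharacteristic φ hy.1,
      by rw [← map_pow]; simp [hy.2]⟩
  set H := centralizer (D : Set R) ⊓ W.comap q with hH
  haveI : (W.comap q).Characteristic := Characteristic.comap_quotient_mk hW
  haveI hHc : H.Characteristic := characteristic_inf
  have hDH : D ≤ H := le_inf (le_centralizer_iff_isMulCommutative.mpr hDab) fun d hd => by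
    rw [mem_comap, hq, QuotientGroup.mk'_apply, (QuotientGroup.eq_one_iff d).mpr hd]
    exact one_mem W
  have hDC : D ≤ centralizer (H : Set R) := fun d hd h hh => (hh.1 d hd).symm
  have hcomm : ∀ x ∈ H, ∀ y : R, ⁅x, y⁆ ∈ D := by
    intro x hx y
    rw [← QuotientGroup.eq_one_iff, ← QuotientGroup.mk'_apply, map_commutatorElement,
      commutatorElement_eq_one_iff_mul_comm]
    exact (mem_center_iff.mp hx.2.1 _).symm
  have hpow : ∀ x ∈ H, x ^ p ∈ D := by
    intro x hx
    rw [← QuotientGroup.eq_one_iff, ← QuotientGroup.mk'_apply, map_pow]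
    exact hx.2.2
  refine ⟨H, hHc, ?_, ?_, ?_⟩
  · refine le_trans (map_mono (CfsgLib.Solvable.frattini_le_of_elementary (p := p)
      (N := D.subgroupOf H) ?_ fun x => mem_subgroupOf.2 ?_)) ?_
    · rw [_root_.commutator_def, commutator_le]
      exact fun a _ b _ => mem_subgroupOf.2 (hcomm a a.2 b)
    · exact hpow x x.2
    · rw [subgroupOf_map_subtype]
      exact inf_le_left.trans hDC
  · rw [commutator_le]
    exact fun x hx y _ => ⟨hDH (hcomm x hx y), hDC (hcomm x hx y)⟩
  · refine le_trans ?_ hDH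
    by_contra hnot
    set N := centralizer (H : Set R)
    haveI : (N.map q).Normal := (inferInstance : N.Normal).map _ (QuotientGroup.mk'_surjective D)
    have hne : N.map q ≠ ⊥ := by
      rw [Ne, Subgroup.map_eq_bot_iff, hq, QuotientGroup.ker_mk']
      exact hnot
    obtain ⟨w, hwN, hwc, hwo⟩ :=
      CfsgLib.OddOrder.BG4.exists_central_orderOf_prime (hR.to_quotient D) hne
    obtain ⟨g, hg, rfl⟩ := hwN
    have hgH : g ∈ H := ⟨fun d hd => hg d (hDH hd), hwc, by rw [← hwo]; exact pow_orderOf_eq_one _⟩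
    have hZ : (H ⊓ N).Characteristic ∧ IsMulCommutative (H ⊓ N : Subgroup R) :=
      ⟨characteristic_inf, ⟨⟨fun a b => Subtype.ext (b.2.2 a a.2.1)⟩⟩⟩
    have := hDmax hZ (le_inf hDH hDC) ⟨hgH, hg⟩
    rw [hq, QuotientGroup.mk'_apply, (QuotientGroup.eq_one_iff g).mpr this, orderOf_one] at hwo
    exact hp.out.one_lt.ne' hwo.symm

end CfsgLib.Transfer
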