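import Cfsg.Agent.Transfer.Tate

/-!
# Transfer into abelian Hall subgroups
-/

namespace CfsgLib.Transfer

open Subgroup
open Cfsg (pResidual HasNormalPComplement)
open scoped commutatorElement

variable {G : Type*} [Group G] {p : ℕ}

open scoped IsMulCommutative in
/-- An abelian subgroup with order prime to its index meets `G' ∩ Z(G)` trivially. -/
theorem inf_commutator_inf_center_eq_bot [Finite G] (H : Subgroup G) (hc : IsMulCommutative H)
    (hH : Nat.Coprime (Nat.card H) H.index) : H ⊓ commutator G ⊓ center G = ⊥ := by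
  refine (eq_bot_iff_forall _).2 fun x ⟨⟨hxH, hxG⟩, hxZ⟩ => ?_
  have key : ∀ (k : ℕ) (g₀ : G), g₀⁻¹ * x ^ k * g₀ ∈ H → g₀⁻¹ * x ^ k * g₀ = x ^ k :=
    fun k g₀ _ => by
      rw [mul_assoc, ← mem_center_iff.1 (pow_mem hxZ k) g₀, inv_mul_cancel_left]
  have h1 := MonoidHom.transfer_eq_pow (MonoidHom.id H) x key
  rw [Abelianization.commutator_subset_ker (MonoidHom.transfer (MonoidHom.id H)) hxG] at h1
  have h2 : x ^ H.index = 1 := (congrArg Subtype.val h1).symm
  have h3 : x ^ Nat.card H = 1 := congrArg Subtype.val (pow_card_eq_one' (x := (⟨x, hxH⟩ : H)))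
  simpa [hH] using pow_gcd_eq_one.2 ⟨h3, h2⟩

open scoped IsMulCommutative in
/-- An abelian normal Hall subgroup `A` is `[A,G]` times its central part, `[A,G] = G' ∩ A`. -/
theorem abelian_normal_hall [Finite G] (A : Subgroup G) [A.Normal] (hc : IsMulCommutative A)
    (hH : Nat.Coprime (Nat.card A) A.index) :
    ⁅A, (⊤ : Subgroup G)⁆ = commutator G ⊓ A ∧
      (commutator G ⊓ A) ⊓ (center G ⊓ A) = ⊥ ∧
      (commutator G ⊓ A) ⊔ (center G ⊓ A) = A := by
  classical
  haveI : Fintype (G ⧸ A) := Fintype.ofFinite _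
  set C := ⁅A, (⊤ : Subgroup G)⁆ with hC
  have hCle : C ≤ commutator G ⊓ A :=
    le_inf (commutator_mono le_top le_rfl) (commutator_le_left _ _)
  have hbot : (commutator G ⊓ A) ⊓ (center G ⊓ A) = ⊥ := by
    refine le_bot_iff.1 (le_trans ?_ (inf_commutator_inf_center_eq_bot A hc hH).le)
    exact fun x hx => ⟨⟨hx.1.2, hx.1.1⟩, hx.2.1⟩
  have hdec : A ≤ C ⊔ (center G ⊓ A) := by
    intro a ha
    obtain ⟨b, hb⟩ := (powCoprime hH).surjective ⟨a, ha⟩
    let c : G ⧸ A → A := fun q => MulAut.conjNormal q.out b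
    let N : A := ∏ q, c q
    have hcomp : ∀ g q, MulAut.conjNormal g (c q) = c (g • q) := by
      intro g q
      have he : (QuotientGroup.mk (g * q.out) : G ⧸ A) = g • q := by
        conv_rhs => rw [← q.out_eq]
        rfl
      obtain ⟨h, hh⟩ := QuotientGroup.mk_out_eq_mul A (g * q.out)
      rw [he] at hh
      simp only [c, hh, map_mul, MulAut.mul_apply]
      have : MulAut.conjNormal (h : G) b = b := by
        ext
        rw [MulAut.conjNormal_apply, show (h : G) * b = b * h from congrArg Subtype.val (mul_comm h b)]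
        group
      rw [this]
    have hN : (N : G) ∈ center G := by
      rw [mem_center_iff]
      intro g
      have : MulAut.conjNormal g N = N := by
        rw [map_prod]
        exact Fintype.prod_equiv (MulAction.toPerm g) _ _ fun q => hcomp g q
      have := congrArg Subtype.val this
      rwa [MulAut.conjNormal_apply, mul_inv_eq_iff_eq_mul] at this
    have hq : ∀ q, QuotientGroup.mk' (C.subgroupOf A) (c q) = QuotientGroup.mk' (C.subgroupOf A) b := by
      intro q
      refine QuotientGroup.eq.2 (mem_subgroupOf.2 ?_)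
      have : ((c q : G))⁻¹ * b = (⁅(b : G)⁻¹, q.out⁆)⁻¹ := by
        simp [c, commutatorElement_def, mul_assoc, MulAut.conjNormal_apply]
      rw [Subgroup.coe_mul, Subgroup.coe_inv, this]
      exact inv_mem (commutator_mem_commutator (inv_mem b.2) (mem_top _))
    have h2 : QuotientGroup.mk' (C.subgroupOf A) N = QuotientGroup.mk' (C.subgroupOf A) ⟨a, ha⟩ := by
      rw [← hb, powCoprime_apply, map_pow, map_prod, Finset.prod_congr rfl fun q _ => hq q,
        Finset.prod_const, Finset.card_univ, ← Nat.card_eq_fintype_card, ← index_eq_card]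
    have h3 : (N : G)⁻¹ * a ∈ C := mem_subgroupOf.1 (QuotientGroup.eq.1 h2)
    rw [show a = (N : G) * ((N : G)⁻¹ * a) by group]
    exact mul_mem (mem_sup_right ⟨hN, N.2⟩) (mem_sup_left h3)
  refine ⟨le_antisymm hCle fun x hx => ?_, hbot,
    le_antisymm (sup_le inf_le_right inf_le_right) (hdec.trans (sup_le_sup_right hCle _))⟩
  have hx' := hdec hx.2
  rw [← SetLike.mem_coe, normal_mul] at hx'
  obtain ⟨u, hu, v, hv, rfl⟩ := hx'
  have hv1 : v ∈ commutator G := by simpa using mul_mem (inv_mem (mem_inf.1 (hCle hu)).1) (mem_inf.1 hx).1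
  have : v = 1 := by
    rw [← mem_bot, ← hbot]
    exact ⟨⟨hv1, hv.2⟩, hv⟩
  simpa [this] using hu

/-- The order of a Sylow subgroup is prime to its index, stated for the normalizer. -/
theorem coprime_card_index_subtype [Finite G] [Fact p.Prime] {K : Subgroup G} (P : Sylow p G)
    (h : (P : Subgroup G) ≤ K) :
    Nat.Coprime (Nat.card ((P.subtype h : Sylow p K) : Subgroup K))
      ((P.subtype h : Sylow p K) : Subgroup K).index :=
  Sylow.card_coprime_index _

/-- For a normal abelian Sylow subgroup, `P ∩ O^p(G) = [P, G]`. -/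
theorem inf_pResidual_eq_commutator_of_normal [Finite G] [Fact p.Prime] (P : Sylow p G)
    [(P : Subgroup G).Normal] (hc : IsMulCommutative (P : Subgroup G)) :
    (P : Subgroup G) ⊓ pResidual p G = ⁅(P : Subgroup G), (⊤ : Subgroup G)⁆ := by
  have hA := abelian_normal_hall (P : Subgroup G) hc P.card_coprime_index
  refine le_antisymm ?_ (le_inf (commutator_le_left _ _) ?_)
  · set C := ⁅(P : Subgroup G), (⊤ : Subgroup G)⁆ with hC
    let f := QuotientGroup.mk' C
    let P' : Sylow p (G ⧸ C) := P.mapSurjective (QuotientGroup.mk'_surjective C)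
    have hP' : normalizer ((P' : Subgroup (G ⧸ C)) : Set (G ⧸ C)) ≤
        centralizer ((P' : Subgroup (G ⧸ C)) : Set (G ⧸ C)) := by
      intro y _ z hz
      rw [SetLike.mem_coe, Sylow.coe_mapSurjective] at hz
      obtain ⟨x, hx, rfl⟩ := hz
      obtain ⟨g, rfl⟩ := QuotientGroup.mk'_surjective C y
      rw [← map_mul, ← map_mul]
      refine ((QuotientGroup.eq (s := C)).2 ?_).symm
      have : (g * x)⁻¹ * (x * g) = ⁅x⁻¹, g⁻¹⁆ := by simp [commutatorElement_def, mul_assoc]
      rw [this]
      exact commutator_mem_commutator (inv_mem hx) (mem_top _)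
    have h := (hasNormalPComplement_iff_sylow_inf P').1
      ⟨P', _, inferInstance, MonoidHom.ker_transferSylow_isComplement' P' hP'⟩
    rintro x ⟨hxP, hxK⟩
    rw [← QuotientGroup.eq_one_iff (N := C), ← mem_bot, ← h]
    exact ⟨by rw [Sylow.coe_mapSurjective]; exact ⟨x, hxP, rfl⟩, map_pResidual_le f ⟨x, hxK, rfl⟩⟩
  · refine le_trans (commutator_mono le_top le_rfl) ?_
    haveI : IsMulCommutative (G ⧸ pResidual p G) := by
      refine ⟨⟨fun a b => ?_⟩⟩
      have hs : ∀ y : G ⧸ pResidual p G, ∃ x : (P : Subgroup G),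
          QuotientGroup.mk' _ (x : G) = y := fun y => by
        obtain ⟨g, rfl⟩ := QuotientGroup.mk'_surjective _ y
        have hg : g ∈ (P : Subgroup G) ⊔ pResidual p G := by
          rw [sylow_sup_pResidual]; exact mem_top g
        rw [← SetLike.mem_coe, mul_normal] at hg
        obtain ⟨a, ha, b, hb, rfl⟩ := hg
        exact ⟨⟨a, ha⟩, by rw [map_mul]; simp [(QuotientGroup.eq_one_iff b).2 hb]⟩
      obtain ⟨x, rfl⟩ := hs a
      obtain ⟨y, rfl⟩ := hs b
      rw [← map_mul, ← map_mul, ← Subgroup.coe_mul, ← Subgroup.coe_mul, mul_comm']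
    exact Normal.quotient_commutative_iff_commutator_le.1 inferInstance

/-- For an abelian Sylow subgroup, `P ∩ O^p(G) = [P, N_G(P)]`. -/
theorem inf_pResidual_eq_commutator_normalizer [Finite G] [Fact p.Prime] (P : Sylow p G)
    (hc : IsMulCommutative (P : Subgroup G)) :
    (P : Subgroup G) ⊓ pResidual p G = ⁅(P : Subgroup G), normalizer (P : Set G)⁆ := by
  set N := normalizer (P : Set G) with hN
  have hPN : (P : Subgroup G) ≤ N := le_normalizer
  let P' : Sylow p N := P.subtype hPN
  haveI : (P' : Subgroup N).Normal := normal_in_normalizer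
  have hc' : IsMulCommutative (P' : Subgroup N) :=
    ⟨⟨fun a b => Subtype.ext (Subtype.ext (congrArg (Subtype.val (p := fun x => x ∈ (P : Subgroup G)))
      (mul_comm' (⟨_, mem_subgroupOf.1 a.2⟩ : (P : Subgroup G)) ⟨_, mem_subgroupOf.1 b.2⟩)))⟩⟩
  have h := congrArg (Subgroup.map N.subtype) (inf_pResidual_eq_commutator_of_normal P' hc')
  rw [map_inf _ _ _ N.subtype_injective, map_commutator] at h
  simp only [P', Sylow.coe_subtype, map_subgroupOf_eq_of_le hPN, ← MonoidHom.range_eq_map,
    range_subtype] at h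
  rw [sylow_inf_pResidual_of_controlsFusion P hPN
    (controlsFusion_normalizer_of_isMulCommutative P hc), h]

/-- For an abelian Sylow subgroup, `G' ∩ P = [P, N_G(P)]`. -/
theorem commutator_inf_eq_commutator_normalizer [Finite G] [Fact p.Prime] (P : Sylow p G)
    (hc : IsMulCommutative (P : Subgroup G)) :
    commutator G ⊓ (P : Subgroup G) = ⁅(P : Subgroup G), normalizer (P : Set G)⁆ := by
  set N := normalizer (P : Set G) with hN
  have hPN : (P : Subgroup G) ≤ N := le_normalizer
  let P' : Sylow p N := P.subtype hPN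
  haveI : (P' : Subgroup N).Normal := normal_in_normalizer
  have hc' : IsMulCommutative (P' : Subgroup N) :=
    ⟨⟨fun a b => Subtype.ext (Subtype.ext (congrArg (Subtype.val (p := fun x => x ∈ (P : Subgroup G)))
      (mul_comm' (⟨_, mem_subgroupOf.1 a.2⟩ : (P : Subgroup G)) ⟨_, mem_subgroupOf.1 b.2⟩)))⟩⟩
  have h := congrArg (Subgroup.map N.subtype)
    (abelian_normal_hall (P' : Subgroup N) hc' P'.card_coprime_index).1
  rw [map_commutator, map_inf _ _ _ N.subtype_injective, map_subtype_commutator] at h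
  simp only [P', Sylow.coe_subtype, map_subgroupOf_eq_of_le hPN, ← MonoidHom.range_eq_map,
    range_subtype] at h
  rw [commutator_inf_eq_of_controlsFusion P hPN
    (controlsFusion_normalizer_of_isMulCommutative P hc), h]

end CfsgLib.Transfer
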