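import Cfsg.Agent.Transfer.Fusion
import Cfsg.Agent.Transfer.NormalPComplement
import Mathlib.GroupTheory.Nilpotent

/-!
# Tate's transfer theorem

If a subgroup `H` containing a Sylow `p`-subgroup `P` has the same elementary abelian (or just the
same focal) `p`-transfer as `G`, then `P ∩ O^p(G) = P ∩ O^p(H)`. The proof is elementary: a map
from `H` into a central extension lifts to `G` by transfer.
-/

namespace CfsgLib.Transfer

open Subgroup
open Cfsg (pResidual HasNormalPComplement)

open scoped commutatorElement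

variable {G : Type*} [Group G] {p : ℕ}

/-- The smallest normal subgroup with elementary abelian `p`-quotient. -/
def elemResidual (p : ℕ) (G : Type*) [Group G] : Subgroup G :=
  commutator G ⊔ closure (Set.range fun g : G => g ^ p)

theorem elemResidual_le_ker {A : Type*} [Group A] (f : G →* A) (hc : ∀ a b : A, a * b = b * a)
    (he : ∀ a : A, a ^ p = 1) : elemResidual p G ≤ f.ker := by
  refine sup_le ?_ ((closure_le _).2 ?_)
  · rw [_root_.commutator_def, commutator_le]
    intro a _ b _
    rw [MonoidHom.mem_ker, commutatorElement_def, map_mul, map_mul, map_mul, map_inv, map_inv,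
      hc (f a)]
    group
  · rintro _ ⟨g, rfl⟩
    simp [MonoidHom.mem_ker, he]

theorem map_elemResidual_le {A : Type*} [Group A] (f : G →* A) :
    (elemResidual p G).map f ≤ elemResidual p A := by
  rw [elemResidual, Subgroup.map_sup, MonoidHom.map_closure]
  refine sup_le_sup ?_ (closure_mono ?_)
  · rw [_root_.commutator_def, _root_.commutator_def, map_commutator]
    exact commutator_mono le_top le_top
  · rintro _ ⟨_, ⟨g, rfl⟩, rfl⟩
    exact ⟨f g, (map_pow f g p).symm⟩

theorem pResidual_le_elemResidual [Fact p.Prime] : pResidual p G ≤ elemResidual p G := by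
  rw [pResidual, closure_le]
  intro g hg
  obtain ⟨m, hm⟩ := exists_pow_eq_self_of_coprime (Nat.Coprime.symm hg)
  exact le_sup_right (a := commutator G) (subset_closure ⟨g ^ m, by
    dsimp only; rw [← pow_mul, mul_comm, pow_mul, hm]⟩)

/-- In a `p`-group every proper subgroup lies in a normal subgroup containing the elementary
residual. -/
theorem exists_proper_ge_of_ne_top {E : Type*} [Group E] [Finite E] [Fact p.Prime]
    (hE : IsPGroup p E) {S : Subgroup E} (hS : S ≠ ⊤) :
    ∃ N : Subgroup E, S ≤ N ∧ N ≠ ⊤ ∧ elemResidual p E ≤ N := by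
  obtain ⟨N, hN, hSN⟩ := (eq_top_or_exists_le_coatom S).resolve_left hS
  haveI := hE.isNilpotent
  haveI : N.Normal := NormalizerCondition.normal_of_coatom N
    (Group.normalizerCondition_of_isNilpotent (G := E)) hN
  refine ⟨N, hSN, hN.1, ?_⟩
  obtain ⟨k, hk⟩ := hE.index N
  have hk1 : N.index = p := by
    have hne : N.index ≠ 1 := fun h => hN.1 (index_eq_one.1 h)
    have hcard : Nat.card (E ⧸ N) = p ^ k := by rw [← index_eq_card, hk]
    obtain ⟨Q, hQ⟩ := Sylow.exists_subgroup_card_pow_prime p (n := 1) (G := E ⧸ N) (by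
      rw [hcard]; exact pow_dvd_pow p (Nat.one_le_iff_ne_zero.2 fun h0 => hne (by simp [hk, h0])))
    rw [pow_one] at hQ
    have hle : N ≤ Q.comap (QuotientGroup.mk' N) :=
      (QuotientGroup.ker_mk' N).ge.trans (Subgroup.ker_le_comap _ _)
    rcases eq_or_lt_of_le hle with h | h
    · exfalso
      have : Q = ⊥ := comap_injective (QuotientGroup.mk'_surjective N)
        (by rw [MonoidHom.comap_bot, QuotientGroup.ker_mk']; exact h.symm)
      rw [this, Subgroup.card_bot] at hQ
      exact (Fact.out : p.Prime).one_lt.ne hQ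
    · have : Q = ⊤ := comap_injective (QuotientGroup.mk'_surjective N)
        (by rw [hN.2 _ h, comap_top])
      rw [this, card_top] at hQ
      rw [index_eq_card, hQ]
  have hcard : Nat.card (E ⧸ N) = p := by rw [← index_eq_card, hk1]
  haveI : IsCyclic (E ⧸ N) := isCyclic_of_prime_card hcard
  simpa using elemResidual_le_ker (p := p) (QuotientGroup.mk' N) (fun a b => mul_comm' a b)
    (fun a => by rw [← hcard]; exact pow_card_eq_one')

open scoped IsMulCommutative in
/-- A homomorphism into a central extension by a `p`-group, given on a subgroup of index prime to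
`p`, can be replaced by one on the whole group. -/
theorem exists_lift_of_central [Finite G] [Fact p.Prime] {H : Subgroup G} (hH : ¬ p ∣ H.index)
    {E Q : Type*} [Group E] [Finite E] [Group Q] (π : E →* Q) (hπ : Function.Surjective π)
    (hcen : π.ker ≤ center E) (hker : IsPGroup p π.ker) (ψ : G →* Q) (φ : H →* E)
    (hφ : ∀ h : H, π (φ h) = ψ h) : ∃ f : G →* E, ∀ g, π (f g) = ψ g := by
  let Gh : Subgroup (E × G) :=
    { carrier := {x | π x.1 = ψ x.2}
      mul_mem' := fun {a b} ha hb => by simp_all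
      one_mem' := by simp
      inv_mem' := fun {a} ha => by simp_all }
  let snd : Gh →* G := (MonoidHom.snd E G).comp Gh.subtype
  let fst : Gh →* E := (MonoidHom.fst E G).comp Gh.subtype
  have hsnd : Function.Surjective snd := fun g =>
    let ⟨e, he⟩ := hπ (ψ g)
    ⟨⟨(e, g), he⟩, rfl⟩
  let Hh : Subgroup Gh := H.comap snd
  haveI : IsMulCommutative π.ker :=
    ⟨⟨fun a b => Subtype.ext (mem_center_iff.1 (hcen b.2) a)⟩⟩
  have hmem : ∀ x : Hh, fst x.1 * (φ ⟨snd x.1, x.2⟩)⁻¹ ∈ π.ker := fun x => by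
    rw [MonoidHom.mem_ker, map_mul, map_inv, hφ, mul_inv_eq_one]
    exact x.1.2
  let r : Hh →* π.ker := MonoidHom.mk' (fun x => ⟨_, hmem x⟩) fun a b => by
    ext
    have hc := fun y => mem_center_iff.1 (hcen (hmem b)) y
    have : φ ⟨snd (a * b : Hh).1, (a * b).2⟩ = φ ⟨snd a.1, a.2⟩ * φ ⟨snd b.1, b.2⟩ := by
      rw [← map_mul]; congr
    change fst (a.1 * b.1) * (φ ⟨snd (a * b : Hh).1, (a * b).2⟩)⁻¹ =
      fst a.1 * (φ ⟨snd a.1, a.2⟩)⁻¹ * (fst b.1 * (φ ⟨snd b.1, b.2⟩)⁻¹)
    rw [map_mul, this, mul_inv_rev]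
    calc fst a.1 * fst b.1 * ((φ ⟨snd b.1, b.2⟩)⁻¹ * (φ ⟨snd a.1, a.2⟩)⁻¹)
        = fst a.1 * (fst b.1 * (φ ⟨snd b.1, b.2⟩)⁻¹) * (φ ⟨snd a.1, a.2⟩)⁻¹ := by group
      _ = fst a.1 * ((φ ⟨snd a.1, a.2⟩)⁻¹ * (fst b.1 * (φ ⟨snd b.1, b.2⟩)⁻¹)) := by
          rw [mul_assoc, hc]
      _ = _ := by group
  have hidx : Hh.index = H.index := index_comap_of_surjective _ hsnd
  have hco : p.Coprime Hh.index := hidx ▸ (Nat.Prime.coprime_iff_not_dvd Fact.out).2 hH
  let W : Gh →* π.ker := MonoidHom.mk'
    (fun x => (hker.powEquiv hco).symm (r.transfer x)) fun a b => by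
      apply (hker.powEquiv hco).injective
      rw [IsPGroup.powEquiv_apply hker hco (_ * _), mul_pow, ← IsPGroup.powEquiv_apply hker hco,
        ← IsPGroup.powEquiv_apply hker hco, Equiv.apply_symm_apply, Equiv.apply_symm_apply,
        Equiv.apply_symm_apply, map_mul]
  let F : Gh →* E := MonoidHom.mk' (fun x => fst x * (W x : E)⁻¹) fun a b => by
    have hc := fun y => mem_center_iff.1 (hcen (inv_mem (W a).2)) y
    calc fst (a * b) * (W (a * b) : E)⁻¹
        = fst a * fst b * ((W b : E)⁻¹ * (W a : E)⁻¹) := by simp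
      _ = fst a * ((fst b * (W b : E)⁻¹) * (W a : E)⁻¹) := by group
      _ = fst a * ((W a : E)⁻¹ * (fst b * (W b : E)⁻¹)) := by rw [hc]
      _ = _ := by group
  have hF : ∀ x : Gh, π (F x) = ψ (snd x) := fun x => by
    have : π (W x : E) = 1 := (W x).2
    simp only [F, MonoidHom.mk'_apply, map_mul, map_inv, this, inv_one, mul_one]
    exact x.2
  have hFker : snd.ker ≤ F.ker := by
    intro x hx
    have hx1 : snd x = 1 := hx
    have hxz : fst x ∈ π.ker := by
      rw [MonoidHom.mem_ker]; exact (x.2).trans (by rw [← map_one ψ, ← hx1]; rfl)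
    have hxH : x ∈ Hh := by simp [Hh, mem_comap, hx1]
    have hcen' : ∀ g₀ : Gh, g₀ * x = x * g₀ := fun g₀ => by
      apply Subtype.ext
      refine Prod.ext (mem_center_iff.1 (hcen hxz) _) ?_
      change (g₀ : E × G).2 * snd x = snd x * (g₀ : E × G).2
      simp [hx1]
    have htr : r.transfer x = r ⟨x ^ Hh.index, pow_mem hxH _⟩ := by
      refine MonoidHom.transfer_eq_pow r x fun k g₀ _ => ?_
      rw [mul_assoc, ← (Commute.pow_right (hcen' g₀) k).eq, inv_mul_cancel_left]
    have hr : r ⟨x ^ Hh.index, pow_mem hxH _⟩ = ⟨fst x, hxz⟩ ^ Hh.index := by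
      apply Subtype.ext
      have : φ ⟨snd (x ^ Hh.index), by rw [map_pow, hx1, one_pow]; exact one_mem H⟩ = 1 := by
        rw [← map_one φ]; congr; rw [map_pow, hx1, one_pow]
      change fst (x ^ Hh.index) * (φ ⟨snd (x ^ Hh.index), _⟩)⁻¹ = _
      rw [this, inv_one, mul_one, map_pow]
      rfl
    have hW : W x = ⟨fst x, hxz⟩ := by
      change (hker.powEquiv hco).symm (r.transfer x) = _
      rw [Equiv.symm_apply_eq, htr, hr, IsPGroup.powEquiv_apply]
    rw [MonoidHom.mem_ker]
    simp [F, hW]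
  refine ⟨MonoidHom.liftOfSurjective snd hsnd ⟨F, hFker⟩, fun g => ?_⟩
  obtain ⟨x, rfl⟩ := hsnd g
  rw [MonoidHom.liftOfRightInverse_comp_apply]
  exact hF x

/-- A normal subgroup of a nilpotent group with `N ≤ [N, G]` is trivial. -/
theorem eq_bot_of_le_commutator_top {R : Type*} [Group R] [Group.IsNilpotent R]
    {N : Subgroup R} (h : N ≤ ⁅N, (⊤ : Subgroup R)⁆) : N = ⊥ := by
  obtain ⟨n, hn⟩ := Subgroup.nilpotent_iff_lowerCentralSeries.1 (inferInstance : Group.IsNilpotent R)
  have key : ∀ i, N ≤ (⊤ : Subgroup R).lowerCentralSeries i := by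
    intro i
    induction i with
    | zero => simp
    | succ i ih => exact h.trans (commutator_mono ih le_rfl)
  exact le_bot_iff.1 (hn ▸ key n)

/-- **Tate's theorem**, elementary abelian form. -/
theorem tate_of_elemResidual [Finite G] [Fact p.Prime] (P : Sylow p G) {H : Subgroup G}
    (hPH : (P : Subgroup G) ≤ H)
    (h : (P : Subgroup G) ⊓ elemResidual p G ≤ (elemResidual p H).map H.subtype) :
    H ⊓ pResidual p G = (pResidual p H).map H.subtype := by
  refine le_antisymm ?_ (le_inf (map_subtype_le _) (map_subtype_pResidual_le H))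
  let K := pResidual p G
  let L := pResidual p H
  let KH : Subgroup H := K.subgroupOf H
  suffices hKL : KH ≤ L by
    rintro x ⟨hxH, hxK⟩
    exact ⟨⟨x, hxH⟩, hKL (mem_subgroupOf.2 hxK), rfl⟩
  let M : Subgroup H := L ⊔ ⁅KH, (⊤ : Subgroup H)⁆
  have hLK : L ≤ KH := fun x hx => mem_subgroupOf.2 (map_subtype_pResidual_le H ⟨x, hx, rfl⟩)
  have hMK : M ≤ KH := sup_le hLK (commutator_le_left _ _)
  -- the sufficient claim
  suffices hKM : KH ≤ M by
    have hN : (KH.map (QuotientGroup.mk' L)) = ⊥ := by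
      haveI := (isPGroup_quotient_pResidual (p := p) (G := H)).isNilpotent
      apply eq_bot_of_le_commutator_top
      rw [← map_top_of_surjective _ (QuotientGroup.mk'_surjective L), ← map_commutator]
      calc KH.map (QuotientGroup.mk' L) ≤ M.map (QuotientGroup.mk' L) := map_mono hKM
        _ = _ := by rw [Subgroup.map_sup, QuotientGroup.map_mk'_self, bot_sup_eq]
    rwa [Subgroup.map_eq_bot_iff, QuotientGroup.ker_mk'] at hN
  let π : H ⧸ M →* G ⧸ K := QuotientGroup.lift M ((QuotientGroup.mk' K).comp H.subtype)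
    fun x hx => by
      simpa [MonoidHom.mem_ker] using mem_subgroupOf.1 (hMK hx)
  have hHK : H ⊔ K = ⊤ :=
    top_le_iff.1 ((sylow_sup_pResidual P).ge.trans (sup_le_sup_right hPH _))
  have hπ : Function.Surjective π := by
    intro y
    obtain ⟨g, rfl⟩ := QuotientGroup.mk'_surjective K y
    have hg : g ∈ H ⊔ K := hHK ▸ mem_top g
    rw [← SetLike.mem_coe, mul_normal] at hg
    obtain ⟨a, ha, b, hb, rfl⟩ := hg
    refine ⟨QuotientGroup.mk' M ⟨a, ha⟩, ?_⟩
    change QuotientGroup.mk (s := K) a = QuotientGroup.mk (a * b)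
    rw [QuotientGroup.eq, inv_mul_cancel_left]
    exact hb
  have hker : π.ker = KH.map (QuotientGroup.mk' M) := by
    rw [QuotientGroup.ker_lift, ← MonoidHom.comap_ker, QuotientGroup.ker_mk']
    rfl
  have hE : IsPGroup p (H ⧸ M) :=
    (isPGroup_quotient_pResidual (p := p) (G := H)).of_surjective
      (QuotientGroup.map L M (MonoidHom.id H) (fun x hx => mem_sup_left (T := ⁅KH, (⊤ : Subgroup H)⁆) hx))
      (fun y => let ⟨x, hx⟩ := QuotientGroup.mk'_surjective M y; ⟨QuotientGroup.mk' L x, hx⟩)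
  have hcen : π.ker ≤ center (H ⧸ M) := by
    rw [hker]
    rintro _ ⟨k, hk, rfl⟩
    rw [mem_center_iff]
    intro y
    obtain ⟨x, rfl⟩ := QuotientGroup.mk'_surjective M y
    rw [← map_mul, ← map_mul]
    refine ((QuotientGroup.eq (s := M)).2 ?_).symm
    have : (k * x)⁻¹ * (x * k) = ⁅x⁻¹, k⁻¹⁆ := by simp [commutatorElement_def, mul_assoc]
    rw [this, ← commutatorElement_inv]
    exact inv_mem (le_sup_right (a := L) (commutator_mem_commutator (inv_mem hk) (mem_top _)))
  obtain ⟨f, hf⟩ := exists_lift_of_central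
    (fun hd => P.not_dvd_index (hd.trans (index_dvd_of_le hPH))) π hπ hcen (hE.to_subgroup _)
    (QuotientGroup.mk' K) (QuotientGroup.mk' M) (fun x => by simp [π])
  have hsurj : f.range = ⊤ := by
    by_contra hne
    obtain ⟨N, hSN, hN, hNe⟩ := exists_proper_ge_of_ne_top hE hne
    apply hN
    have hker' : π.ker ≤ N := by
      rw [hker]
      rintro _ ⟨k, hk, rfl⟩
      have hk' : k ∈ ((P.subtype hPH : Sylow p H) : Subgroup H) ⊔ L := by
        rw [sylow_sup_pResidual]; exact mem_top k
      rw [← SetLike.mem_coe, mul_normal] at hk'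
      obtain ⟨a, ha, b, hb, rfl⟩ := hk'
      have haP : (a : G) ∈ P := ha
      have haK : (a : G) ∈ elemResidual p G := by
        have haK' : a ∈ KH := (mul_mem_cancel_right (hLK hb)).1 hk
        exact pResidual_le_elemResidual (mem_subgroupOf.1 haK')
      have ha' : a ∈ elemResidual p H := by
        obtain ⟨a', ha', e⟩ := h ⟨haP, haK⟩
        exact (Subtype.ext e : a' = a) ▸ ha'
      have hmap : (elemResidual p H).map (QuotientGroup.mk' M) ≤ N :=
        (map_elemResidual_le _).trans hNe
      rw [map_mul]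
      refine mul_mem (hmap ⟨a, ha', rfl⟩) ?_
      have : QuotientGroup.mk' M b = 1 := (QuotientGroup.eq_one_iff b).2 (mem_sup_left hb)
      rw [this]; exact one_mem N
    rw [eq_top_iff]
    intro e _
    obtain ⟨g, hg⟩ := QuotientGroup.mk'_surjective K (π e)
    have : (f g)⁻¹ * e ∈ N := hker' (by rw [MonoidHom.mem_ker, map_mul, map_inv, hf, hg, inv_mul_cancel])
    simpa using mul_mem (hSN ⟨g, rfl⟩) this
  have hfK : K ≤ f.ker := pResidual_le_ker f hE
  intro k hk
  have hz : QuotientGroup.mk' M k ∈ π.ker := hker ▸ ⟨k, hk, rfl⟩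
  obtain ⟨g, hg⟩ := (hsurj ▸ mem_top _ : QuotientGroup.mk' M k ∈ f.range)
  have hgK : g ∈ K := by
    rw [← QuotientGroup.eq_one_iff]
    have := hf g
    rw [hg, MonoidHom.mem_ker.1 hz] at this
    exact this.symm
  rw [← QuotientGroup.eq_one_iff]
  exact hg.symm.trans (hfK hgK)

/-- The trace of the elementary residual on a Sylow subgroup. -/
theorem sylow_inf_elemResidual_le [Finite G] [Fact p.Prime] (P : Sylow p G) :
    (P : Subgroup G) ⊓ elemResidual p G ≤
      (P : Subgroup G).focalSubgroup ⊔ closure ((fun x => x ^ p) '' (P : Set G)) := by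
  open scoped IsMulCommutative in
  rintro x ⟨hxP, hxE⟩
  let τ := (P : Subgroup G).transferFocal
  let A := (P : Subgroup G) ⧸ (P : Subgroup G).focalSubgroupOf
  let U : Subgroup A := (powMonoidHom p : A →* A).range
  let θ : G →* A ⧸ U := (QuotientGroup.mk' U).comp τ
  have hpow : ∀ a : A ⧸ U, a ^ p = 1 := fun a => by
    obtain ⟨b, rfl⟩ := QuotientGroup.mk'_surjective U a
    rw [← map_pow]
    exact (QuotientGroup.eq_one_iff _).2 ⟨b, rfl⟩
  have h1 : θ x = 1 := elemResidual_le_ker θ (fun a b => mul_comm a b) hpow hxE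
  set a : A := QuotientGroup.mk (⟨x, hxP⟩ : (P : Subgroup G)) with ha
  have h2 : (QuotientGroup.mk' U a) ^ (P : Subgroup G).index = 1 := by
    rw [← map_pow]
    rw [show a ^ (P : Subgroup G).index = τ x from
      ((P : Subgroup G).transferFocal_eq_pow ⟨x, hxP⟩).symm]
    exact h1
  have h3 : QuotientGroup.mk' U a = 1 := by
    have hd := Nat.dvd_gcd (orderOf_dvd_of_pow_eq_one h2) (orderOf_dvd_of_pow_eq_one (hpow _))
    rw [Nat.gcd_comm, (Nat.Prime.coprime_iff_not_dvd Fact.out).2 P.not_dvd_index] at hd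
    exact orderOf_eq_one_iff.1 (Nat.dvd_one.1 hd)
  obtain ⟨b, hb⟩ := (QuotientGroup.eq_one_iff _).1 h3
  obtain ⟨y, rfl⟩ := QuotientGroup.mk'_surjective _ b
  have hb' : (y ^ p)⁻¹ * ⟨x, hxP⟩ ∈ (P : Subgroup G).focalSubgroupOf := QuotientGroup.eq.1 hb
  have hx' : x = ((y : G) ^ p) * (((y : G) ^ p)⁻¹ * x) := by group
  rw [hx']
  exact mul_mem (mem_sup_right (subset_closure ⟨y, y.2, rfl⟩))
    (mem_sup_left (mem_subgroupOf.1 hb'))

/-- **Tate's theorem**, focal subgroup form. -/
theorem tate_of_focal [Finite G] [Fact p.Prime] (P : Sylow p G) {H : Subgroup G}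
    (hPH : (P : Subgroup G) ≤ H)
    (h : commutator G ⊓ (P : Subgroup G) ≤ ⁅H, H⁆) :
    H ⊓ pResidual p G = (pResidual p H).map H.subtype := by
  refine tate_of_elemResidual P hPH ((sylow_inf_elemResidual_le P).trans (sup_le ?_ ?_))
  · refine (le_inf (focalSubgroup_le_commutator _) (focalSubgroup_le _)).trans (h.trans ?_)
    rw [← map_subtype_commutator]
    exact map_mono le_sup_left
  · rw [closure_le]
    rintro _ ⟨x, hx, rfl⟩
    exact ⟨⟨x, hPH hx⟩ ^ p, le_sup_right (a := commutator H) (subset_closure ⟨_, rfl⟩), rfl⟩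

/-- Tate's theorem on the Sylow subgroup. -/
theorem sylow_inf_pResidual_of_focal [Finite G] [Fact p.Prime] (P : Sylow p G) {H : Subgroup G}
    (hPH : (P : Subgroup G) ≤ H) (h : commutator G ⊓ (P : Subgroup G) ≤ ⁅H, H⁆) :
    (P : Subgroup G) ⊓ pResidual p G = (P : Subgroup G) ⊓ (pResidual p H).map H.subtype := by
  rw [← tate_of_focal P hPH h, ← inf_assoc, inf_of_le_left hPH]

/-- Control of fusion gives control of the `p`-residual. -/
theorem sylow_inf_pResidual_of_controlsFusion [Finite G] [Fact p.Prime] (P : Sylow p G)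
    {H : Subgroup G} (hPH : (P : Subgroup G) ≤ H) (h : ControlsFusion H (P : Subgroup G)) :
    (P : Subgroup G) ⊓ pResidual p G = (P : Subgroup G) ⊓ (pResidual p H).map H.subtype :=
  sylow_inf_pResidual_of_focal P hPH
    ((commutator_inf_eq_of_controlsFusion P hPH h).le.trans inf_le_left)

/-- If the focal subgroup of `P` is `P'`, then `G` has a normal `p`-complement. -/
theorem hasNormalPComplement_of_commutator_inf_le [Finite G] [Fact p.Prime] (P : Sylow p G)
    (h : commutator G ⊓ (P : Subgroup G) ≤ ⁅(P : Subgroup G), (P : Subgroup G)⁆) :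
    HasNormalPComplement p G := by
  rw [hasNormalPComplement_iff_sylow_inf P, sylow_inf_pResidual_of_focal P le_rfl h,
    pResidual_eq_bot_of_isPGroup P.isPGroup', Subgroup.map_bot, inf_bot_eq]

/-- A Sylow `p`-subgroup controlling its own fusion has a normal complement. -/
theorem hasNormalPComplement_of_controlsFusion_self [Finite G] [Fact p.Prime] (P : Sylow p G)
    (h : ControlsFusion (P : Subgroup G) (P : Subgroup G)) : HasNormalPComplement p G :=
  hasNormalPComplement_of_commutator_inf_le P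
    (commutator_inf_eq_commutator_of_controlsFusion_self P h).le

end CfsgLib.Transfer
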