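import Cfsg.Agent.Transfer.Alperin
import Cfsg.Agent.Transfer.Tate

/-!
# Frobenius' normal `p`-complement theorem
-/

namespace CfsgLib.Transfer

open Subgroup
open Cfsg (pResidual HasNormalPComplement)

variable {G : Type*} [Group G] {p : ℕ}

/-- Alperin's theorem: every conjugation inside `P` comes from a chain. -/
theorem exists_fusionChain [Finite G] [Fact p.Prime] (P : Sylow p G) {A : Set G} {g : G}
    (hA : A ⊆ (P : Set G)) (hAg : (fun a => g⁻¹ * a * g) '' A ⊆ (P : Set G)) :
    FusionChain P A g := by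
  obtain ⟨x, hx, hxQ⟩ := exists_fusionChain_smul P (g • P)
  have hsub : A ⊆ (((P : Subgroup G) ⊓ ((g • P : Sylow p G) : Subgroup G) : Subgroup G) : Set G) :=
    fun a ha => ⟨hA ha, mem_smul_iff.2 (hAg ⟨a, ha, rfl⟩)⟩
  have hn : x⁻¹ * g ∈ normalizer (P : Set G) :=
    Sylow.smul_eq_iff_mem_normalizer.1 (by rw [mul_smul, hxQ])
  have h2 : (fun a => x⁻¹ * a * x) '' A ⊆ (P : Set G) := by
    rintro _ ⟨a, ha, rfl⟩
    have := conj_mem_smul (P := g • P) x⁻¹ (hsub ha).2
    rw [hxQ] at this
    show x⁻¹ * a * x ∈ (P : Subgroup G)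
    simpa using this
  simpa using (hx.mono hsub).trans (FusionChain.of_mem_normalizer h2 hn)

/-- If in every normalizer of a `p`-subgroup the elements of order prime to `p` centralise it,
then conjugation between subsets of `P` is realised inside `P`. -/
theorem exists_mem_sylow_conj_of_local [Finite G] [Fact p.Prime] (P : Sylow p G)
    (h : ∀ Q : Subgroup G, Q ≤ (P : Subgroup G) → ∀ g ∈ normalizer (Q : Set G),
      Nat.Coprime (orderOf g) p → g ∈ centralizer (Q : Set G))
    {A : Set G} {g : G} (hc : FusionChain P A g) :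
    ∃ z ∈ (P : Subgroup G), ∀ a ∈ A, z⁻¹ * a * z = g⁻¹ * a * g := by
  induction hc with
  | nil A => exact ⟨1, one_mem _, fun a _ => rfl⟩
  | cons A Q x g hA ht hx _ ih =>
    set D := (P : Subgroup G) ⊓ (Q : Subgroup G) with hD
    set N := normalizer (D : Set G) with hN
    let PN : Sylow p N := Sylow.ofCard _ (card_subgroupOf_eq P ht.1)
    have hx' : (⟨x, hx⟩ : N) ∈ ((PN : Subgroup N) ⊔ pResidual p N) := by
      rw [sylow_sup_pResidual]; exact mem_top _
    rw [← SetLike.mem_coe, mul_normal] at hx'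
    obtain ⟨y, hy, c, hc, hyc⟩ := hx'
    have hcC : (c : G) ∈ centralizer (D : Set G) := by
      refine (show (pResidual p N).map N.subtype ≤ centralizer (D : Set G) from ?_) ⟨c, hc, rfl⟩
      rw [map_subtype_pResidual, closure_le]
      exact fun a ha => h D inf_le_left a ha.1 ha.2
    obtain ⟨z, hz, hzA⟩ := ih
    refine ⟨(y : G) * z, mul_mem hy hz, fun a ha => ?_⟩
    have hx : x = y * c := congrArg Subtype.val hyc.symm
    have hd : (y : G)⁻¹ * a * y ∈ D := (mem_normalizer_iff''.1 y.2 a).1 (hA ha)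
    have he : x⁻¹ * a * x = (y : G)⁻¹ * a * y := by
      have := hcC _ hd
      calc x⁻¹ * a * x = (c : G)⁻¹ * (((y : G)⁻¹ * a * y) * c) := by rw [hx]; group
        _ = (y : G)⁻¹ * a * y := by rw [this]; group
    have := hzA _ ⟨a, ha, rfl⟩
    simp only [he] at this
    calc ((y : G) * z)⁻¹ * a * ((y : G) * z) = z⁻¹ * ((y : G)⁻¹ * a * y) * z := by group
      _ = g⁻¹ * ((y : G)⁻¹ * a * y) * g := this
      _ = g⁻¹ * (x⁻¹ * a * x) * g := by rw [he]
      _ = (x * g)⁻¹ * a * (x * g) := by group

/-- Frobenius' criterion, sufficiency. -/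
theorem hasNormalPComplement_of_local [Finite G] [Fact p.Prime] (P : Sylow p G)
    (h : ∀ Q : Subgroup G, Q ≤ (P : Subgroup G) → ∀ g ∈ normalizer (Q : Set G),
      Nat.Coprime (orderOf g) p → g ∈ centralizer (Q : Set G)) :
    HasNormalPComplement p G := by
  refine hasNormalPComplement_of_controlsFusion_self P fun x hx g hg => ?_
  obtain ⟨z, hz, he⟩ := exists_mem_sylow_conj_of_local P h
    (exists_fusionChain P (A := {x}) (g := g⁻¹) (Set.singleton_subset_iff.2 hx)
      (by rw [Set.image_singleton, inv_inv]; exact Set.singleton_subset_iff.2 hg))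
  exact ⟨z⁻¹, inv_mem hz, by simpa using he x rfl⟩

/-- In a group with a normal `p`-complement, elements of order prime to `p` normalising a
`p`-subgroup centralise it. -/
theorem mem_centralizer_of_hasNormalPComplement [Finite G] [Fact p.Prime]
    (h : HasNormalPComplement p G) {Q : Subgroup G} (hQ : IsPGroup p Q) {g : G}
    (hg : g ∈ normalizer (Q : Set G)) (hgp : Nat.Coprime (orderOf g) p) :
    g ∈ centralizer (Q : Set G) := by
  intro q hq
  have hgK := mem_pResidual_of_coprime hgp
  have h1 : q * g * q⁻¹ * g⁻¹ ∈ Q := by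
    rw [mul_assoc, mul_assoc]
    exact mul_mem hq (by simpa [mul_assoc] using
      (mem_normalizer_iff.1 hg q⁻¹).1 (inv_mem hq))
  have h2 : q * g * q⁻¹ * g⁻¹ ∈ pResidual p G :=
    mul_mem ((inferInstance : (pResidual p G).Normal).conj_mem g hgK q) (inv_mem hgK)
  have h3 : q * g * q⁻¹ * g⁻¹ = 1 := by
    rw [← mem_bot, ← inf_eq_bot_of_not_dvd_card (hasNormalPComplement_iff.1 h) hQ]
    exact ⟨h2, h1⟩
  simpa [mul_inv_eq_iff_eq_mul] using h3

/-- In a group with a normal `p`-complement a Sylow `p`-subgroup controls its fusion. -/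
theorem controlsFusion_self_of_hasNormalPComplement [Finite G] [Fact p.Prime]
    (h : HasNormalPComplement p G) (P : Sylow p G) :
    ControlsFusion (P : Subgroup G) (P : Subgroup G) := by
  intro x hx g hg
  obtain ⟨z, hz, he⟩ := exists_mem_sylow_conj_of_local P
    (fun Q hQ a ha hap => mem_centralizer_of_hasNormalPComplement h (P.isPGroup'.to_le hQ) ha hap)
    (exists_fusionChain P (A := {x}) (g := g⁻¹) (Set.singleton_subset_iff.2 hx)
      (by rw [Set.image_singleton, inv_inv]; exact Set.singleton_subset_iff.2 hg))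
  exact ⟨z⁻¹, inv_mem hz, by simpa using he x rfl⟩

/-- If the normalizer of every nontrivial `p`-subgroup has a normal `p`-complement, so has `G`. -/
theorem hasNormalPComplement_of_normalizers [Finite G] [Fact p.Prime]
    (h : ∀ Q : Subgroup G, IsPGroup p Q → Q ≠ ⊥ →
      HasNormalPComplement p (normalizer (Q : Set G))) : HasNormalPComplement p G := by
  refine hasNormalPComplement_of_local default fun Q hQ g hg hgp => ?_
  have hQp := (default : Sylow p G).isPGroup'.to_le hQ
  rcases eq_or_ne Q ⊥ with rfl | hne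
  · intro q hq
    rw [SetLike.mem_coe, mem_bot] at hq
    simp [hq]
  have := mem_centralizer_of_hasNormalPComplement (h Q hQp hne)
    (Q := Q.subgroupOf (normalizer (Q : Set G))) (hQp.comap_subtype) (g := ⟨g, hg⟩)
    (mem_normalizer_iff.2 fun a => by simpa [mem_subgroupOf] using mem_normalizer_iff.1 hg a)
    (by rwa [Subgroup.orderOf_mk])
  intro q hq
  exact congrArg Subtype.val (this ⟨q, le_normalizer hq⟩ (mem_subgroupOf.2 hq))

end CfsgLib.Transfer
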