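import Cfsg.Prelude.Def_Transfer
import Mathlib.GroupTheory.Abelianization.Defs
import Mathlib.GroupTheory.Nilpotent

/-!
# The residual `O^p(G)` and normal `p`-complements

API for `Cfsg.pResidual` and `Cfsg.HasNormalPComplement`.
-/

namespace CfsgLib.Transfer

open Subgroup
open Cfsg (pResidual HasNormalPComplement)

variable {G : Type*} [Group G] {H : Type*} [Group H] {p : ℕ}

/-- Coprimality with a prime is non-divisibility. -/
theorem coprime_prime_iff [Fact p.Prime] {n : ℕ} : Nat.Coprime n p ↔ ¬ p ∣ n :=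
  Nat.coprime_comm.trans (Nat.Prime.coprime_iff_not_dvd Fact.out)

/-- Elements of order prime to `p` lie in `O^p(G)`. -/
theorem mem_pResidual_of_coprime {g : G} (hg : Nat.Coprime (orderOf g) p) :
    g ∈ pResidual p G :=
  subset_closure hg

/-- `O^p` is functorial. -/
theorem map_pResidual_le (f : G →* H) : (pResidual p G).map f ≤ pResidual p H := by
  rw [pResidual, MonoidHom.map_closure, closure_le]
  rintro _ ⟨x, hx, rfl⟩
  exact mem_pResidual_of_coprime (Nat.Coprime.coprime_dvd_left (orderOf_map_dvd f x) hx)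

instance pResidual_characteristic : (pResidual p G).Characteristic :=
  characteristic_iff_map_le.2 fun φ => map_pResidual_le φ.toMonoidHom

/-- Every element has a `p`-power in `O^p(G)`. -/
theorem exists_pow_pow_mem_pResidual [Finite G] [Fact p.Prime] (g : G) :
    ∃ k, g ^ p ^ k ∈ pResidual p G := by
  obtain ⟨k, m, hm, hk⟩ := Nat.exists_eq_pow_mul_and_not_dvd (orderOf_pos g).ne' p
    (Fact.out : p.Prime).ne_one
  refine ⟨k, mem_pResidual_of_coprime (coprime_prime_iff.2 ?_)⟩
  rwa [orderOf_pow_of_dvd (pow_ne_zero _ (Fact.out : p.Prime).ne_zero) (hk ▸ dvd_mul_right _ _),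
    hk, Nat.mul_div_cancel_left _ (pow_pos (Fact.out : p.Prime).pos k)]

/-- `G / O^p(G)` is a `p`-group. -/
theorem isPGroup_quotient_pResidual [Finite G] [Fact p.Prime] :
    IsPGroup p (G ⧸ pResidual p G) := by
  refine isPGroup_iff_pow_pow_eq_one.2 fun x => ?_
  obtain ⟨g, rfl⟩ := QuotientGroup.mk'_surjective (pResidual p G) x
  obtain ⟨k, hk⟩ := exists_pow_pow_mem_pResidual (p := p) g
  exact ⟨k, by rw [← map_pow]; exact (QuotientGroup.eq_one_iff _).2 hk⟩

/-- `O^p(G)` lies in the kernel of every map into a `p`-group. -/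
theorem pResidual_le_ker [Fact p.Prime] (f : G →* H) (hH : IsPGroup p H) :
    pResidual p G ≤ f.ker := by
  rw [pResidual, closure_le]
  intro g hg
  rw [SetLike.mem_coe, MonoidHom.mem_ker]
  by_contra hne
  exact coprime_prime_iff.1 (Nat.Coprime.coprime_dvd_left (orderOf_map_dvd f g) hg)
    (hH.dvd_orderOf hne)

/-- Minimality of `O^p(G)`. -/
theorem pResidual_le_of_isPGroup_quotient [Fact p.Prime] (N : Subgroup G) [N.Normal]
    (h : IsPGroup p (G ⧸ N)) : pResidual p G ≤ N := by
  simpa using pResidual_le_ker (QuotientGroup.mk' N) h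

/-- Minimality of `O^p(G)`, with the hypothesis on the index. -/
theorem pResidual_le_of_index_eq_pow [Fact p.Prime] (N : Subgroup G) [N.Normal] {k : ℕ}
    (h : N.index = p ^ k) : pResidual p G ≤ N :=
  pResidual_le_of_isPGroup_quotient N (IsPGroup.of_card (n := k) (by rw [← index_eq_card, h]))

/-- The index of `O^p(G)` is a power of `p`. -/
theorem exists_index_pResidual_eq_pow [Finite G] [Fact p.Prime] :
    ∃ k, (pResidual p G).index = p ^ k := by
  simpa [index_eq_card] using IsPGroup.iff_card.1 (isPGroup_quotient_pResidual (p := p) (G := G))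

/-- A finite group surjects on `O^p`. -/
theorem map_pResidual_of_surjective [Finite G] [Fact p.Prime] (f : G →* H)
    (hf : Function.Surjective f) : (pResidual p G).map f = pResidual p H := by
  haveI : Finite H := Finite.of_surjective f hf
  haveI : ((pResidual p G).map f).Normal := Normal.map inferInstance f hf
  refine le_antisymm (map_pResidual_le f) (pResidual_le_of_isPGroup_quotient _ ?_)
  refine isPGroup_iff_pow_pow_eq_one.2 fun x => ?_
  obtain ⟨y, rfl⟩ := QuotientGroup.mk'_surjective ((pResidual p G).map f) x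
  obtain ⟨g, rfl⟩ := hf y
  obtain ⟨k, hk⟩ := exists_pow_pow_mem_pResidual (p := p) g
  exact ⟨k, by rw [← map_pow, ← map_pow]; exact (QuotientGroup.eq_one_iff _).2 ⟨_, hk, rfl⟩⟩

/-- `O^p` of a subgroup, inside the ambient group. -/
theorem map_subtype_pResidual (K : Subgroup G) :
    (pResidual p K).map K.subtype =
      closure {g : G | g ∈ K ∧ Nat.Coprime (orderOf g) p} := by
  rw [pResidual, MonoidHom.map_closure]
  congr 1
  ext g
  constructor
  · rintro ⟨x, hx, rfl⟩
    exact ⟨x.2, by simpa using hx⟩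
  · rintro ⟨hgK, hg⟩
    exact ⟨⟨g, hgK⟩, by simpa [Subgroup.orderOf_mk] using hg, rfl⟩

/-- `O^p` is monotone on subgroups. -/
theorem map_subtype_pResidual_mono {K L : Subgroup G} (h : K ≤ L) :
    (pResidual p K).map K.subtype ≤ (pResidual p L).map L.subtype := by
  rw [map_subtype_pResidual, map_subtype_pResidual]
  exact closure_mono fun g hg => ⟨h hg.1, hg.2⟩

/-- `O^p` of a subgroup is contained in `O^p` of the group. -/
theorem map_subtype_pResidual_le (K : Subgroup G) :
    (pResidual p K).map K.subtype ≤ pResidual p G :=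
  map_pResidual_le K.subtype

/-- `O^p(O^p(G)) = O^p(G)`. -/
theorem pResidual_pResidual : pResidual p (pResidual p G) = ⊤ := by
  rw [← map_subtype_inj, map_subtype_pResidual, ← MonoidHom.range_eq_map, range_subtype]
  refine le_antisymm ((closure_le _).2 fun g hg => hg.1) ?_
  rw [pResidual, closure_le]
  exact fun g hg => subset_closure ⟨mem_pResidual_of_coprime hg, hg⟩

/-- `O^p` of a group isomorphism. -/
theorem map_pResidual_equiv (e : G ≃* H) :
    (pResidual p G).map e.toMonoidHom = pResidual p H := by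
  refine le_antisymm (map_pResidual_le _) fun x hx => ⟨e.symm x, ?_, e.apply_symm_apply x⟩
  exact map_pResidual_le e.symm.toMonoidHom ⟨x, hx, rfl⟩

/-- `O^p` of a `p`-group is trivial. -/
theorem pResidual_eq_bot_of_isPGroup [Fact p.Prime] (hG : IsPGroup p G) :
    pResidual p G = ⊥ :=
  le_bot_iff.1 <| by simpa using pResidual_le_ker (MonoidHom.id G) hG

/-- A group without elements of order `p` equals its `O^p`. -/
theorem pResidual_eq_top_of_not_dvd_card [Finite G] [Fact p.Prime] (h : ¬ p ∣ Nat.card G) :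
    pResidual p G = ⊤ :=
  eq_top_iff.2 fun g _ => mem_pResidual_of_coprime <|
    coprime_prime_iff.2 fun hd => h (hd.trans (orderOf_dvd_natCard g))

/-- An element of a subgroup of order prime to `p` has order prime to `p`. -/
theorem coprime_orderOf_of_mem [Fact p.Prime] {N : Subgroup G} (hN : ¬ p ∣ Nat.card N) {g : G}
    (hg : g ∈ N) : Nat.Coprime (orderOf g) p :=
  coprime_prime_iff.2 fun hd => hN (hd.trans (N.orderOf_dvd_natCard hg))

/-- A subgroup of order prime to `p` meets a `p`-subgroup trivially. -/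
theorem inf_eq_bot_of_not_dvd_card [Fact p.Prime] {N Q : Subgroup G} (hN : ¬ p ∣ Nat.card N)
    (hQ : IsPGroup p Q) : N ⊓ Q = ⊥ := by
  refine (eq_bot_iff_forall _).2 fun x hx => ?_
  by_contra hne
  refine coprime_prime_iff.1 (coprime_orderOf_of_mem hN hx.1) ?_
  simpa using hQ.dvd_orderOf (g := ⟨x, hx.2⟩) (by simpa using hne)

/-- A subgroup containing a Sylow `p`-subgroup and all elements of order prime to `p` is
everything. -/
theorem sylow_sup_pResidual [Finite G] [Fact p.Prime] (P : Sylow p G) :
    (P : Subgroup G) ⊔ pResidual p G = ⊤ := by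
  obtain ⟨k, hk⟩ := exists_index_pResidual_eq_pow (p := p) (G := G)
  rw [← index_eq_one]
  refine Nat.eq_one_of_dvd_coprimes ((Nat.Prime.coprime_iff_not_dvd Fact.out).2
    P.not_dvd_index |>.pow_left k) ?_ (index_dvd_of_le le_sup_left)
  exact hk ▸ index_dvd_of_le le_sup_right

/-- Sylow subgroups meet normal subgroups in Sylow subgroups. -/
theorem card_sylow_inf_mul_relIndex [Finite G] (P : Subgroup G) (K : Subgroup G) :
    Nat.card (P ⊓ K : Subgroup G) * P.relIndex K = Nat.card K := by
  rw [← inf_relIndex_right, ← relIndex_bot_left, ← relIndex_bot_left,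
    relIndex_mul_relIndex _ _ _ bot_le inf_le_right]

/-- The index of `P ⊓ K` in a normal subgroup `K` divides the index of `P`. -/
theorem relIndex_dvd_index_of_normal_right [Finite G] (P K : Subgroup G) [K.Normal] :
    P.relIndex K ∣ P.index := by
  refine dvd_trans ?_ (relIndex_dvd_index_of_le (le_sup_left : P ≤ P ⊔ K))
  have h1 := relIndex_mul_relIndex ⊥ K (P ⊔ K) bot_le le_sup_right
  have h2 := relIndex_mul_relIndex ⊥ P (P ⊔ K) bot_le le_sup_left
  have h3 := relIndex_mul_relIndex ⊥ (P ⊓ K) P bot_le inf_le_left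
  have h4 := card_sylow_inf_mul_relIndex P K
  simp only [relIndex_bot_left] at h1 h2 h3
  rw [inf_relIndex_left] at h3
  rw [relIndex_sup_right, ← h4] at h1
  have : Nat.card (P ⊓ K : Subgroup G) * K.relIndex P * P.relIndex (P ⊔ K) =
      Nat.card (P ⊓ K : Subgroup G) * K.relIndex P * P.relIndex K := by
    rw [h3, h2, ← h1, ← h3]; ring
  exact dvd_of_eq (mul_left_cancel₀ (by rw [h3]; exact Nat.card_pos.ne') this).symm

/-- `P ⊓ K` is a Sylow `p`-subgroup of a normal subgroup `K`. -/
theorem not_dvd_relIndex_of_normal [Finite G] [Fact p.Prime] (P : Sylow p G) (K : Subgroup G)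
    [K.Normal] : ¬ p ∣ (P : Subgroup G).relIndex K :=
  fun h => P.not_dvd_index (h.trans (relIndex_dvd_index_of_normal_right _ K))

/-- A normal subgroup meeting a Sylow `p`-subgroup trivially has order prime to `p`. -/
theorem not_dvd_card_of_sylow_inf_eq_bot [Finite G] [Fact p.Prime] (P : Sylow p G)
    (K : Subgroup G) [K.Normal] (h : (P : Subgroup G) ⊓ K = ⊥) : ¬ p ∣ Nat.card K := by
  rw [← card_sylow_inf_mul_relIndex (P : Subgroup G) K, h]
  simpa using not_dvd_relIndex_of_normal P K

end CfsgLib.Transfer
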