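import Cfsg.Agent.OddOrder.BG4.Basic
import Cfsg.Agent.IsolatedP.RankOne

/-!
# Normal elementary abelian subgroups of order `p²`
-/

namespace CfsgLib.Transfer

open Subgroup

variable {R : Type*} [Group R] {p : ℕ}

/-- For odd `p` a noncyclic `p`-group has a normal elementary abelian subgroup of order `p²`. -/
theorem exists_normal_elem_card_sq [Finite R] [hp : Fact p.Prime] (hp2 : p ≠ 2) (hR : IsPGroup p R)
    (hnc : ¬ IsCyclic R) :
    ∃ A : Subgroup R, A.Normal ∧ Cfsg.IsElementaryAbelian p A ∧ Nat.card A = p ^ 2 := by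
  obtain ⟨B, -, hBn, hB, hmax⟩ := CfsgLib.OddOrder.BG4.exists_maximalNormalElem (R := R) (B₀ := ⊥)
    (CfsgLib.OddOrder.BG4.isElementaryAbelian_bot (p := p))
  obtain ⟨m, hm⟩ := CfsgLib.OddOrder.BG4.card_elementary_eq_pow (A := B) hB.2
  by_cases h2 : 2 ≤ m
  · obtain ⟨A, hA, hAB, hcard⟩ := CfsgLib.OddOrder.BG4.exists_normal_card_le hR B 2
      (hm ▸ Nat.pow_le_pow_right hp.out.pos h2)
    exact ⟨A, hA, ⟨⟨⟨fun a b => Subtype.ext (congrArg (Subtype.val (p := fun x => x ∈ B))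
      (hB.1.is_comm.comm (⟨a, hAB a.2⟩ : B) ⟨b, hAB b.2⟩))⟩⟩, fun a ha => hB.2 a (hAB ha)⟩, hcard⟩
  exfalso
  apply hnc
  have hBc : B ≤ center R := by
    rcases (by omega : m = 0 ∨ m = 1) with rfl | rfl
    · exact (card_eq_one.1 (by simpa using hm)).le.trans bot_le
    · exact CfsgLib.OddOrder.BG4.le_center_of_normal_card_prime hR (by simpa using hm)
  refine CfsgLib.IsolatedP.isCyclic_of_card_pow_eq_one_le_prime p hp2 _ R rfl hR ?_
  refine le_trans (Nat.card_le_card_of_injective (β := B) (fun y => ⟨y.1,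
    CfsgLib.OddOrder.BG4.mem_of_commute_maximalNormalElem hp2 hR hB hmax
      (fun b hb => (mem_center_iff.1 (hBc hb) y.1).symm) y.2⟩)
    fun y z h => Subtype.ext (congrArg (fun t : B => (t : R)) h)) ?_
  rw [hm]
  calc p ^ m ≤ p ^ 1 := Nat.pow_le_pow_right hp.out.pos (by omega)
    _ = p := pow_one p

end CfsgLib.Transfer
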