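import Cfsg.Agent.Transfer.ComplementSkeleton
import Cfsg.Agent.OddOrder.ZJ.Main
import Cfsg.Agent.SolvCrit.ZJBasic
import Cfsg.Agent.PLocal.Constraint
import Cfsg.Agent.PLocal.Stability

/-!
# The normal `p`-complement theorems of Glauberman–Thompson and of Thompson

Both for odd `p` and the Thompson subgroup generated by elementary abelian subgroups.
-/

set_option autoImplicit false

namespace CfsgLib.Transfer.GlaubermanThompson

open Subgroup Cfsg

universe u

variable {p : ℕ}

theorem inj_of_coprime {G : Type u} [Group G] [Finite G] [Fact p.Prime] (S : Sylow p G)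
    (N : Subgroup G) [N.Normal] (hN : (Nat.card N).Coprime p) :
    Function.Injective ((QuotientGroup.mk' N).comp (S : Subgroup G).subtype) :=
  PLocal.injective_comp_subtype_of_coprime S.isPGroup' (by rwa [QuotientGroup.ker_mk'])

theorem pnil_normalizer_of_map {G H : Type u} [Group G] [Group H] [Finite G] [Fact p.Prime]
    (f : H →* G) (hf : Function.Injective f) {W : Subgroup H}
    (h : HasNormalPComplement p ((normalizer ((W.map f : Subgroup G) : Set G)).comap f)) :
    HasNormalPComplement p (normalizer (W : Set H)) :=
  haveI : Finite H := Finite.of_injective f hf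
  hasNormalPComplement_of_le (map_le_iff_le_comap.1 (le_normalizer_map f)) h

theorem pnil_normalizer_image {G : Type u} [Group G] [Finite G] [Fact p.Prime] (N : Subgroup G)
    [N.Normal] (hN : (Nat.card N).Coprime p) {W : Subgroup G} (hW : IsPGroup p W)
    (h : HasNormalPComplement p (normalizer (W : Set G))) :
    HasNormalPComplement p (normalizer ((W.map (QuotientGroup.mk' N) : Subgroup _) : Set (G ⧸ N))) := by
  rw [PLocal.normalizer_map_mk'_eq N hN hW]
  exact hasNormalPComplement_of_surjective h _ (MonoidHom.subgroupMap_surjective _ _)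

theorem map_centralizer_le {G H : Type u} [Group G] [Group H] (f : H →* G) (W : Subgroup H) :
    centralizer (W : Set H) ≤ (centralizer ((W.map f : Subgroup G) : Set G)).comap f := by
  rintro c hc _ ⟨w, hw, rfl⟩
  rw [← map_mul, ← map_mul, hc w hw]

theorem map_self_inf {G H : Type u} [Group G] [Group H] {f : H →* G} (hf : Function.Injective f)
    (R : Subgroup H) : (R ⊓ centralizer (R : Set H)).map f =
      R.map f ⊓ centralizer ((R.map f : Subgroup G) : Set G) :=
  PLocal.map_inf_centralizer hf R R

theorem normalizer_le_normalizer_self_inf {G : Type u} [Group G] (R : Subgroup G) :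
    normalizer (R : Set G) ≤ normalizer ((R ⊓ centralizer (R : Set G) : Subgroup G) : Set G) := by
  have key : ∀ g ∈ normalizer (R : Set G), ∀ z ∈ R ⊓ centralizer (R : Set G),
      g * z * g⁻¹ ∈ R ⊓ centralizer (R : Set G) := by
    rintro g hg z ⟨hzR, hzC⟩
    refine ⟨(mem_normalizer_iff.1 hg z).1 hzR, fun r hr => ?_⟩
    have h1 : g⁻¹ * r * g ∈ R := by
      simpa using (mem_normalizer_iff.1 (inv_mem hg) r).1 hr
    calc r * (g * z * g⁻¹) = g * ((g⁻¹ * r * g) * z) * g⁻¹ := by group
      _ = g * (z * (g⁻¹ * r * g)) * g⁻¹ := by rw [hzC _ h1]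
      _ = g * z * g⁻¹ * r := by group
  intro g hg
  refine mem_normalizer_iff.2 fun z => ⟨key g hg z, fun h => ?_⟩
  have := key g⁻¹ (inv_mem hg) _ h
  simpa [mul_assoc] using this

theorem thompson_ne_bot {G : Type u} [Group G] [Finite G] [Fact p.Prime] {R : Subgroup G}
    (hR : IsPGroup p R) (h : R ≠ ⊥) : thompsonSubgroupOf p R ≠ ⊥ := fun h' =>
  SolvCrit.centerThompson_ne_bot hR h (le_bot_iff.1 (h' ▸ inf_le_left))

/-- The condition of the Glauberman–Thompson theorem. -/
def CondZJ (p : ℕ) (G : Type u) [Group G] (S : Subgroup G) : Prop :=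
  HasNormalPComplement p (normalizer (centerThompsonOf p S : Set G))

/-- The condition of Thompson's theorem. -/
def CondT (p : ℕ) (G : Type u) [Group G] (S : Subgroup G) : Prop :=
  HasNormalPComplement p (normalizer (thompsonSubgroupOf p S : Set G)) ∧
    HasNormalPComplement p (centralizer ((S ⊓ centralizer (S : Set G) : Subgroup G) : Set G))

variable [Fact p.Prime]

theorem functorZJ : Skeleton.Functor.{u} p (CondZJ p) where
  sub G _ _ S H h hSH := by
    refine pnil_normalizer_of_map H.subtype H.subtype_injective ?_
    rw [SolvCrit.map_centerThompson H.subtype H.subtype_injective p, map_subgroupOf_eq_of_le hSH]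
    exact hasNormalPComplement_of_injective h (H.subtype.subgroupComap _)
      fun a b hab => Subtype.ext (H.subtype_injective (congrArg Subtype.val hab :))
  quot G _ _ S N _ hN h := by
    show HasNormalPComplement p _
    rw [← OddOrder.ZJ.map_centerThompsonOf (fun x hx y hy hxy => congrArg Subtype.val
      (inj_of_coprime S N hN (a₁ := ⟨x, hx⟩) (a₂ := ⟨y, hy⟩) hxy))]
    exact pnil_normalizer_image N hN (S.isPGroup'.to_le (SolvCrit.centerThompson_le p _)) h
  norm G _ _ S h :=
    hasNormalPComplement_of_le (SolvCrit.normalizer_le_normalizer_centerThompson p _) h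
  witness G H _ _ _ _ f hf R hR hc := by
    refine ⟨centerThompsonOf p ((R : Subgroup H).map f), SolvCrit.centerThompson_le p _,
      SolvCrit.centerThompson_ne_bot (R.isPGroup'.map f) ?_,
      SolvCrit.normalizer_le_normalizer_centerThompson p _, fun h => hc ?_⟩
    · rwa [ne_eq, Subgroup.map_eq_bot_iff_of_injective _ hf]
    · refine pnil_normalizer_of_map f hf ?_
      rw [SolvCrit.map_centerThompson f hf p]
      exact h

theorem functorT : Skeleton.Functor.{u} p (CondT p) where
  sub G _ _ S H h hSH := by
    constructor
    · refine pnil_normalizer_of_map H.subtype H.subtype_injective ?_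
      rw [PLocal.map_thompsonSubgroupOf H.subtype_injective, map_subgroupOf_eq_of_le hSH]
      exact hasNormalPComplement_of_injective h.1 (H.subtype.subgroupComap _)
        fun a b hab => Subtype.ext (H.subtype_injective (congrArg Subtype.val hab :))
    · refine hasNormalPComplement_of_le (map_centralizer_le H.subtype _) ?_
      rw [map_self_inf H.subtype_injective, map_subgroupOf_eq_of_le hSH]
      exact hasNormalPComplement_of_injective h.2 (H.subtype.subgroupComap _)
        fun a b hab => Subtype.ext (H.subtype_injective (congrArg Subtype.val hab :))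
  quot G _ _ S N _ hN h := by
    constructor
    · rw [← PLocal.map_thompsonSubgroupOf_of_injOn (inj_of_coprime S N hN)]
      exact pnil_normalizer_image N hN (S.isPGroup'.to_le (PLocal.thompsonSubgroupOf_le p _)) h.1
    · rw [← PLocal.map_inf_centralizer_self_of_injOn le_rfl (inj_of_coprime S N hN),
        PLocal.centralizer_map_mk'_eq N hN (S.isPGroup'.to_le inf_le_left)]
      exact hasNormalPComplement_of_surjective h.2 _ (MonoidHom.subgroupMap_surjective _ _)
  norm G _ _ S h :=
    hasNormalPComplement_of_le (PLocal.normalizer_le_normalizer_thompsonSubgroupOf p _) h.1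
  witness G H _ _ _ _ f hf R hR hc := by
    have hR' : (R : Subgroup H).map f ≠ ⊥ := by
      rwa [ne_eq, Subgroup.map_eq_bot_iff_of_injective _ hf]
    by_cases hJ : HasNormalPComplement p
        ((normalizer ((thompsonSubgroupOf p ((R : Subgroup H).map f)) : Set G)).comap f)
    · refine ⟨(R : Subgroup H).map f ⊓ centralizer (((R : Subgroup H).map f : Subgroup G) : Set G),
        inf_le_left, ?_, normalizer_le_normalizer_self_inf _, fun h => hc ⟨?_, ?_⟩⟩
      · intro h
        haveI := (nontrivial_iff_ne_bot _).2 hR'
        haveI := (R.isPGroup'.map f).center_nontrivial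
        obtain ⟨c, hc'⟩ := exists_ne (1 : center ((R : Subgroup H).map f : Subgroup G))
        refine hc' (Subtype.ext (Subtype.ext ?_))
        show ((c : ((R : Subgroup H).map f : Subgroup G)) : G) = 1
        rw [← mem_bot (G := G), ← h]
        exact ⟨(c : ((R : Subgroup H).map f : Subgroup G)).2, fun r hr =>
          congrArg Subtype.val (mem_center_iff.1 c.2 ⟨r, hr⟩)⟩
      · refine pnil_normalizer_of_map f hf ?_
        rw [PLocal.map_thompsonSubgroupOf hf]
        exact hJ
      · refine hasNormalPComplement_of_le ((map_centralizer_le f _).trans ?_) h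
        rw [map_self_inf hf]
        exact comap_mono (centralizer_le_normalizer _)
    · exact ⟨thompsonSubgroupOf p ((R : Subgroup H).map f), PLocal.thompsonSubgroupOf_le p _,
        thompson_ne_bot (R.isPGroup'.map f) hR',
        PLocal.normalizer_le_normalizer_thompsonSubgroupOf p _, hJ⟩

/-- Central elements of order `p` of `S` lie in `Z(J(S))`. -/
theorem mem_centerThompsonOf {G : Type u} [Group G] [Finite G] {S : Subgroup G} {z : G}
    (hzS : z ∈ S) (hzc : z ∈ centralizer (S : Set G)) (hzp : z ^ p = 1) :
    z ∈ centerThompsonOf p S := by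
  have hz : ∀ A ∈ PLocal.maxEAIn p S, z ∈ A := by
    intro A hA
    have hsup : IsElementaryAbelian p (A ⊔ zpowers z) :=
      PLocal.isElementaryAbelian_sup hA.2.1 (PLocal.isElementaryAbelian_zpowers hzp) (by
        intro a ha w hw
        obtain ⟨i, rfl⟩ := mem_zpowers_iff.1 hw
        exact ((show Commute a z from hzc a (hA.1 ha)).zpow_right i).symm.eq)
    have h1 := hA.2.2 _ (sup_le hA.1 (zpowers_le.2 hzS)) hsup
    rw [eq_of_le_of_card_ge le_sup_left h1]
    exact mem_sup_right (mem_zpowers z)
  obtain ⟨A, hA⟩ := PLocal.maxEAIn_nonempty p S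
  exact ⟨PLocal.le_thompsonSubgroupOf hA (hz A hA), fun j hj =>
    hzc j (PLocal.thompsonSubgroupOf_le p S hj)⟩

theorem criticalZJ (hp2 : p ≠ 2) (G : Type u) [Group G] [Finite G] (S : Sylow p G)
    (h : Skeleton.Critical p (CondZJ p) G S) : False := by
  haveI := OddOrder.ZJ.centerThompsonOf_normal hp2 h.stable h.constrained S
  have h1 := h.cond
  rw [CondZJ, normalizer_eq_top] at h1
  exact h.not_pnil ((hasNormalPComplement_congr Subgroup.topEquiv).1 h1)

theorem criticalT (hp2 : p ≠ 2) (G : Type u) [Group G] [Finite G] (S : Sylow p G)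
    (h : Skeleton.Critical p (CondT p) G S) : False := by
  haveI hWn := OddOrder.ZJ.centerThompsonOf_normal hp2 h.stable h.constrained S
  set W := centerThompsonOf p (S : Subgroup G) with hW
  set C := centralizer (W : Set G) with hC
  have hJC : thompsonSubgroupOf p (S : Subgroup G) ≤ C := fun j hj w hw => (hw.2 j hj).symm
  by_cases hCn : HasNormalPComplement p C
  · have hN : (pResidual p C).map C.subtype ≤ pPrimeCore p G := by
      haveI : (pResidual p C).Characteristic := inferInstance
      haveI : ((pResidual p C).map C.subtype).Normal := ConjAct.normal_of_characteristic_of_normal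
      refine PLocal.le_pPrimeCore ?_
      rw [card_map_of_injective C.subtype_injective]
      exact Nat.Coprime.symm
        ((Fact.out : p.Prime).coprime_iff_not_dvd.2 (hasNormalPComplement_iff.1 hCn))
    rw [h.core, le_bot_iff, Subgroup.map_eq_bot_iff_of_injective _ C.subtype_injective] at hN
    have hCp : IsPGroup p C := by
      intro c
      obtain ⟨k, hk⟩ := isPGroup_quotient_pResidual (p := p) (QuotientGroup.mk' (pResidual p C) c)
      rw [← map_pow] at hk
      have h2 : c ^ p ^ k ∈ pResidual p C := (QuotientGroup.eq_one_iff _).1 hk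
      rw [hN, mem_bot] at h2
      exact ⟨k, h2⟩
    have hCS : C ≤ S := (PLocal.le_pCore hCp).trans (PLocal.pCore_le_sylow S)
    have hJ := PLocal.thompsonSubgroupOf_eq_of_le hCS hJC
    have h3 := h.cond.1
    have htop : normalizer (thompsonSubgroupOf p (S : Subgroup G) : Set G) = ⊤ := by
      refine top_le_iff.1 ?_
      rw [← hJ]
      exact le_trans (normalizer_eq_top (H := C)).ge
        (PLocal.normalizer_le_normalizer_thompsonSubgroupOf p C)
    rw [htop] at h3
    exact h.not_pnil ((hasNormalPComplement_congr Subgroup.topEquiv).1 h3)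
  · have hsup : C ⊔ (S : Subgroup G) = ⊤ := by
      by_contra hne
      exact hCn (hasNormalPComplement_of_le le_sup_left (h.proper _ le_sup_right hne))
    set Q := pCore p G with hQ
    set V := Q ⊓ centralizer (Q : Set G) with hV
    haveI : V.Normal := inferInstance
    letI : CommGroup V :=
      { (inferInstance : Group V) with mul_comm := fun a b => Subtype.ext (b.2.2 a a.2.1) }
    haveI : Fintype (G ⧸ (S : Subgroup G)) := Fintype.ofFinite _
    set Zs := (S : Subgroup G) ⊓ centralizer ((S : Subgroup G) : Set G) with hZs
    have hZV : Zs ≤ V := fun z hz => by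
      have hzQ : z ∈ centralizer (Q : Set G) := fun q hq => hz.2 q (PLocal.pCore_le_sylow S hq)
      exact ⟨h.constrained hzQ, hzQ⟩
    let av : V → V := fun v => ∏ q : G ⧸ (S : Subgroup G), MulAut.conjNormal q.out v
    have hfix : ∀ v : V, (v : G) ∈ centralizer ((S : Subgroup G) : Set G) →
        ∀ g : G, MulAut.conjNormal g (av v) = av v := by
      intro v hv g
      show MulAut.conjNormal g (∏ q : G ⧸ (S : Subgroup G), MulAut.conjNormal q.out v) = _
      rw [map_prod]
      refine Fintype.prod_equiv (MulAction.toPerm g) _ _ fun q => Subtype.ext ?_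
      obtain ⟨s, hs⟩ := QuotientGroup.mk_out_eq_mul (S : Subgroup G) (g * q.out)
      have he : (MulAction.toPerm g q : G ⧸ (S : Subgroup G)) = ((g * q.out : G) : G ⧸ _) := by
        show g • q = _
        conv_lhs => rw [← QuotientGroup.out_eq' q]
        rfl
      rw [he, MulAut.conjNormal_apply, MulAut.conjNormal_apply, MulAut.conjNormal_apply, hs]
      calc g * (q.out * (v : G) * q.out⁻¹) * g⁻¹ = g * q.out * ((v : G) * s) * (s : G)⁻¹ * (g * q.out)⁻¹ := by
            group
        _ = g * q.out * ((s : G) * v) * (s : G)⁻¹ * (g * q.out)⁻¹ := by rw [hv s s.2]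
        _ = _ := by group
    have hcen : ∀ v : V, (v : G) ∈ centralizer ((S : Subgroup G) : Set G) →
        (∀ g : G, MulAut.conjNormal g v = v) →
        av v = v ^ (S : Subgroup G).index := by
      intro v _ hg
      show (∏ q : G ⧸ (S : Subgroup G), MulAut.conjNormal q.out v) = _
      rw [Finset.prod_congr rfl fun q _ => hg q.out, Finset.prod_const, Finset.card_univ,
        index_eq_card, Nat.card_eq_fintype_card]
    have hn : Nat.Coprime (S : Subgroup G).index p :=
      Nat.Coprime.symm ((Fact.out : p.Prime).coprime_iff_not_dvd.2 S.not_dvd_index)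
    have hmain : ∀ z ∈ Zs, z ∈ center G := by
      intro z hz
      let v : V := ⟨z, hZV hz⟩
      set d := v ^ (S : Subgroup G).index * (av v)⁻¹ with hd
      have havS : ∀ g : G, MulAut.conjNormal g (av v) = av v := hfix v hz.2
      have hdS : (d : G) ∈ centralizer ((S : Subgroup G) : Set G) := by
        have h1 : ((av v : V) : G) ∈ centralizer ((S : Subgroup G) : Set G) := by
          intro s _
          have := congrArg Subtype.val (havS s)
          rw [MulAut.conjNormal_apply] at this
          exact mul_inv_eq_iff_eq_mul.1 this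
        rw [hd, Subgroup.coe_mul, Subgroup.coe_inv, Subgroup.coe_pow]
        exact mul_mem (pow_mem hz.2 _) (inv_mem h1)
      have havd : av d = 1 := by
        have hmul : ∀ a b : V, av (a * b) = av a * av b := fun a b => by
          simp only [av, map_mul, Finset.prod_mul_distrib]
        let avH : V →* V := MonoidHom.mk' av hmul
        show avH (v ^ (S : Subgroup G).index * (av v)⁻¹) = 1
        rw [map_mul, map_pow, map_inv]
        show av v ^ _ * (av (av v))⁻¹ = 1
        rw [hcen (av v) (fun s _ => by
          have := congrArg Subtype.val (havS s)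
          rw [MulAut.conjNormal_apply] at this
          exact mul_inv_eq_iff_eq_mul.1 this) havS, mul_inv_cancel]
      have hd1 : d = 1 := by
        by_contra hne
        have hdp : IsPGroup p V := (PLocal.isPGroup_pCore p G).to_le inf_le_left
        obtain ⟨k, hk⟩ := IsPGroup.iff_orderOf.1 hdp d
        obtain ⟨j, rfl⟩ : ∃ j, k = j + 1 := ⟨k - 1, by
          have : k ≠ 0 := fun h0 => hne (orderOf_eq_one_iff.1 (by rw [hk, h0, pow_zero]))
          omega⟩
        set e := d ^ p ^ j with he
        have heo : orderOf e = p := by
          rw [he, orderOf_pow' d (pow_ne_zero _ (Fact.out : p.Prime).ne_zero), hk,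
            Nat.gcd_eq_right (pow_dvd_pow p (Nat.le_succ j)), pow_succ,
            Nat.mul_div_cancel_left _ (pow_pos (Fact.out : p.Prime).pos j)]
        have hep : (e : G) ^ p = 1 := by
          rw [← Subgroup.coe_pow, ← heo, pow_orderOf_eq_one]; rfl
        have heS : (e : G) ∈ centralizer ((S : Subgroup G) : Set G) := by
          rw [he, Subgroup.coe_pow]; exact pow_mem hdS _
        have heW : (e : G) ∈ W :=
          mem_centerThompsonOf (PLocal.pCore_le_sylow S e.2.1) heS hep
        have hec : ∀ g : G, MulAut.conjNormal g e = e := by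
          intro g
          have hg : g ∈ C ⊔ (S : Subgroup G) := hsup ▸ mem_top g
          have hle : C ⊔ (S : Subgroup G) ≤ centralizer {(e : G)} := sup_le
            (fun c hc w hw => by rw [Set.mem_singleton_iff] at hw; subst hw; exact hc _ heW)
            (fun s hs w hw => by rw [Set.mem_singleton_iff] at hw; subst hw; exact (heS s hs).symm)
          refine Subtype.ext ?_
          rw [MulAut.conjNormal_apply, ← hle hg (e : G) rfl, mul_inv_cancel_right]
        have h1 : e ^ (S : Subgroup G).index = 1 := by
          rw [← hcen e heS hec, he]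
          have hmul : ∀ a b : V, av (a * b) = av a * av b := fun a b => by
            simp only [av, map_mul, Finset.prod_mul_distrib]
          let avH : V →* V := MonoidHom.mk' av hmul
          show avH (d ^ p ^ j) = 1
          rw [map_pow]
          show av d ^ _ = 1
          rw [havd, one_pow]
        have := Nat.eq_one_of_dvd_coprimes hn (orderOf_dvd_of_pow_eq_one h1) (heo ▸ dvd_rfl)
        rw [heo] at this
        exact (Fact.out : p.Prime).ne_one this
      have hpow : z ^ (S : Subgroup G).index ∈ center G := by
        rw [mem_center_iff]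
        intro g
        have h1 : v ^ (S : Subgroup G).index = av v := mul_inv_eq_one.1 hd1
        have h2 := congrArg Subtype.val (havS g)
        rw [← h1, MulAut.conjNormal_apply, Subgroup.coe_pow] at h2
        exact mul_inv_eq_iff_eq_mul.1 h2
      obtain ⟨k, hk⟩ := S.isPGroup' ⟨z, hz.1⟩
      have hb := Nat.Coprime.pow_right k hn
      have hzk : z ^ p ^ k = 1 := congrArg Subtype.val hk
      have := Nat.gcd_eq_gcd_ab (S : Subgroup G).index (p ^ k)
      rw [hb] at this
      rw [← zpow_one z, ← Nat.cast_one, this, zpow_add, zpow_mul, zpow_mul, zpow_natCast,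
        zpow_natCast, hzk, one_zpow, mul_one]
      exact zpow_mem hpow _
    have h2 := h.cond.2
    have htop : centralizer (Zs : Set G) = ⊤ := by
      rw [eq_top_iff]
      intro g _ z hz
      exact (mem_center_iff.1 (hmain z hz) g).symm
    rw [← hZs, htop] at h2
    exact h.not_pnil ((hasNormalPComplement_congr Subgroup.topEquiv).1 h2)

/-- The Glauberman–Thompson normal `p`-complement theorem. -/
theorem glauberman_thompson (hp2 : p ≠ 2) {G : Type u} [Group G] [Finite G] (S : Sylow p G)
    (h : HasNormalPComplement p (normalizer (centerThompsonOf p (S : Subgroup G) : Set G))) :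
    HasNormalPComplement p G :=
  Skeleton.hasNormalPComplement_of_critical hp2 functorZJ (criticalZJ hp2) _ G le_rfl S h

/-- Thompson's normal `p`-complement theorem. -/
theorem thompson (hp2 : p ≠ 2) {G : Type u} [Group G] [Finite G] (S : Sylow p G)
    (hJ : HasNormalPComplement p (normalizer (thompsonSubgroupOf p (S : Subgroup G) : Set G)))
    (hZ : HasNormalPComplement p
      (centralizer (((S : Subgroup G) ⊓ centralizer ((S : Subgroup G) : Set G) : Subgroup G) : Set G))) :
    HasNormalPComplement p G :=
  Skeleton.hasNormalPComplement_of_critical hp2 functorT (criticalT hp2) _ G le_rfl S ⟨hJ, hZ⟩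

end CfsgLib.Transfer.GlaubermanThompson
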