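import Cfsg.Agent.PLocal.Cores
import Cfsg.Agent.OddOrder.ZJ.Glauberman
import Cfsg.Agent.OddOrder.BG4.Basic
import Mathlib.Algebra.CharP.Lemmas
import Mathlib.FieldTheory.Finite.Basic
import Mathlib.Tactic.NoncommRing

/-!
# Quadratic action and abelian groups of order prime to `p`

For odd `p` an element acting quadratically and normalising an abelian `p'`-group of operators
centralises it; hence groups with a normal series `p`, abelian `p'`, `p` are stable.
-/

set_option autoImplicit false

namespace CfsgLib.Transfer.QuadAb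

open Subgroup
open scoped commutatorElement

/-- A quadratic unit normalising a commutative family with `r ^ (p ^ k) = r` commutes with it. -/
theorem commute_of_quadratic_ring {E : Type*} [Ring E] {p : ℕ} [hp : Fact p.Prime] [CharP E p]
    (hp2 : p ≠ 2) (S : Set E) (hcomm : ∀ r ∈ S, ∀ s ∈ S, Commute r s) {k : ℕ} (hk : 0 < k)
    (hS : ∀ r ∈ S, r ^ p ^ k = r) {n : E} (hn : n * n = 0)
    (hinv : ∀ r ∈ S, (1 + n) * r * (1 - n) ∈ Subring.closure S) :
    ∀ r ∈ S, Commute n r := by
  set R := Subring.closure S with hR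
  have hRc : ∀ r ∈ R, ∀ s ∈ R, Commute r s := by
    intro r hr s hs
    induction hr, hs using Subring.closure_induction₂ with
    | mem_mem x y hx hy => exact hcomm x hx y hy
    | zero_left y _ => exact Commute.zero_left y
    | zero_right x _ => exact Commute.zero_right x
    | one_left y _ => exact Commute.one_left y
    | one_right x _ => exact Commute.one_right x
    | neg_left x y _ _ h => exact h.neg_left
    | neg_right x y _ _ h => exact h.neg_right
    | add_left x y z _ _ _ h h' => exact h.add_left h'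
    | add_right x y z _ _ _ h h' => exact h.add_right h'
    | mul_left x y z _ _ _ h h' => exact h.mul_left h'
    | mul_right x y z _ _ _ h h' => exact h.mul_right h'
  have hodd : Odd (p ^ k) := (hp.out.odd_of_ne_two hp2).pow
  have hfrob : ∀ r ∈ R, r ^ p ^ k = r := by
    intro r hr
    induction hr using Subring.closure_induction with
    | mem x hx => exact hS x hx
    | zero => exact zero_pow (pow_ne_zero _ hp.out.ne_zero)
    | one => exact one_pow _
    | add x y hx hy h h' => rw [add_pow_char_pow_of_commute _ _ (hRc x hx y hy), h, h']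
    | neg x _ h => rw [hodd.neg_pow, h]
    | mul x y hx hy h h' => rw [(hRc x hx y hy).mul_pow, h, h']
  have hred : ∀ r ∈ R, r * r = 0 → r = 0 := by
    intro r hr h
    have h2 : 2 ≤ p ^ k := hp.out.two_le.trans (Nat.le_self_pow hk.ne' p)
    rw [← hfrob r hr, ← Nat.sub_add_cancel h2, pow_add, pow_two, h, mul_zero]
  have hinvR : ∀ r ∈ R, (1 + n) * r * (1 - n) ∈ R := by
    have h11 : (1 - n) * (1 + n) = 1 := by
      calc (1 - n) * (1 + n) = 1 - n * n := by noncomm_ring
        _ = 1 := by rw [hn, sub_zero]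
    intro r hr
    induction hr using Subring.closure_induction with
    | mem x hx => exact hinv x hx
    | zero => simp
    | one =>
      have : (1 + n) * 1 * (1 - n) = 1 - n * n := by noncomm_ring
      rw [this, hn, sub_zero]; exact one_mem _
    | add x y _ _ h h' => simpa [mul_add, add_mul] using add_mem h h'
    | neg x _ h =>
      have : (1 + n) * -x * (1 - n) = -((1 + n) * x * (1 - n)) := by noncomm_ring
      rw [this]; exact neg_mem h
    | mul x y _ _ h h' =>
      have : (1 + n) * (x * y) * (1 - n)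
          = ((1 + n) * x * (1 - n)) * ((1 + n) * y * (1 - n)) := by
        calc (1 + n) * (x * y) * (1 - n)
            = (1 + n) * x * ((1 - n) * (1 + n)) * (y * (1 - n)) := by rw [h11]; noncomm_ring
          _ = _ := by noncomm_ring
      rw [this]; exact mul_mem h h'
  have hD : ∀ r ∈ R, n * r - r * n - n * r * n ∈ R := by
    intro r hr
    have : n * r - r * n - n * r * n = (1 + n) * r * (1 - n) - r := by noncomm_ring
    rw [this]; exact sub_mem (hinvR r hr) hr
  have hsand : ∀ r ∈ R, n * r * n = 0 := by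
    intro r hr
    have h2 := hD _ (hD r hr)
    have hexp : n * (n * r - r * n - n * r * n) - (n * r - r * n - n * r * n) * n
        - n * (n * r - r * n - n * r * n) * n
        = (n * n) * r - 2 • (n * r * n) + r * (n * n) - 2 • ((n * n) * r * n) + 2 • (n * r * (n * n))
          + (n * n) * r * (n * n) := by noncomm_ring
    rw [hexp, hn] at h2
    simp only [zero_mul, mul_zero, smul_zero, add_zero, sub_zero, zero_sub] at h2
    have h2' : 2 • (n * r * n) ∈ R := by simpa using neg_mem h2
    have hmem : n * r * n ∈ R := by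
      obtain ⟨j, hj⟩ := hp.out.odd_of_ne_two hp2
      have h3 := nsmul_mem h2' (j + 1)
      rwa [← mul_smul, show (j + 1) * 2 = p + 1 by omega, add_smul, one_smul, nsmul_eq_mul,
        CharP.cast_eq_zero, zero_mul, zero_add] at h3
    refine hred _ hmem ?_
    calc n * r * n * (n * r * n) = n * r * (n * n) * (r * n) := by noncomm_ring
      _ = 0 := by rw [hn]; noncomm_ring
  intro r hr
  have hrR : r ∈ R := Subring.subset_closure hr
  have hdel : n * r - r * n ∈ R := by simpa [hsand r hrR] using hD r hrR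
  refine sub_eq_zero.1 (hred _ hdel ?_)
  calc (n * r - r * n) * (n * r - r * n)
      = (n * r * n) * r - n * (r * r) * n - r * (n * n) * r + r * (n * r * n) := by noncomm_ring
    _ = 0 := by rw [hsand r hrR, hsand _ (mul_mem hrR hrR), hn]; noncomm_ring

universe u

variable {p : ℕ} [Fact p.Prime]

/-- Conjugation on an abelian normal subgroup, as additive endomorphisms. -/
theorem commute_on_elementary {G : Type u} [Group G] (hp2 : p ≠ 2) {K V : Subgroup G} [K.Normal]
    [hVn : V.Normal] (hVc : IsMulCommutative V) (hVe : ∀ v ∈ V, v ^ p = 1)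
    (hab : ∀ a ∈ K, ∀ b ∈ K, ⁅a, b⁆ ∈ centralizer (V : Set G)) {k : ℕ} (hk : 0 < k)
    (hexp : ∀ a ∈ K, a⁻¹ * a ^ p ^ k ∈ centralizer (V : Set G)) {x : G}
    (hq : ∀ v ∈ V, Commute ⁅v, x⁆ x) :
    (∀ a ∈ K, ⁅a, x⁆ ∈ centralizer (V : Set G)) ∧ x ^ p ∈ centralizer (V : Set G) := by
  classical
  rcases eq_or_ne V ⊥ with rfl | hne
  · have htop : ∀ g : G, g ∈ centralizer ((⊥ : Subgroup G) : Set G) := fun g v hv => by
      rw [SetLike.mem_coe, mem_bot] at hv
      simp [hv]
    exact ⟨fun a _ => htop _, htop _⟩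
  letI : CommGroup V := { (inferInstance : Group V) with mul_comm := fun a b => mul_comm' a b }
  let ρ : G →* AddMonoid.End (Additive V) :=
    { toFun := fun g => MonoidHom.toAdditive
        (MulAut.conjNormal (H := V) g).toMonoidHom
      map_one' := AddMonoidHom.ext fun v => Additive.toMul.injective (Subtype.ext (by
        show ((MulAut.conjNormal (H := V) (1 : G) v.toMul : V) : G) = (v.toMul : V)
        simp [MulAut.conjNormal_apply]))
      map_mul' := fun g h => AddMonoidHom.ext fun v => Additive.toMul.injective (Subtype.ext (by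
        show ((MulAut.conjNormal (H := V) (g * h) v.toMul : V) : G) =
          ((MulAut.conjNormal (H := V) g (MulAut.conjNormal (H := V) h v.toMul) : V) : G)
        rw [map_mul]; rfl)) }
  have hρ : ∀ (g : G) (v : V), ((Additive.toMul (ρ g (Additive.ofMul v)) : V) : G) = g * v * g⁻¹ :=
    fun g v => MulAut.conjNormal_apply g v
  have hmem : ∀ g : G, ρ g = 1 → g ∈ centralizer (V : Set G) := by
    intro g hg v hv
    have h1 := hρ g ⟨v, hv⟩
    rw [hg] at h1
    exact (eq_mul_inv_iff_mul_eq.1 h1)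
  have hρ1 : ∀ g ∈ centralizer (V : Set G), ρ g = 1 := by
    intro g hg
    refine AddMonoidHom.ext fun v => Additive.toMul.injective (Subtype.ext ?_)
    obtain ⟨v, rfl⟩ := Additive.ofMul.surjective v
    refine (hρ g v).trans ?_
    show g * v * g⁻¹ = v
    rw [← hg v v.2, mul_inv_cancel_right]
  haveI : CharP (AddMonoid.End (Additive V)) p := by
    refine ⟨fun m => ⟨fun h => ?_, fun h => ?_⟩⟩
    · haveI := (nontrivial_iff_ne_bot V).2 hne
      obtain ⟨⟨v, hv⟩, hv1⟩ := exists_ne (1 : V)
      have h2 : ((m : AddMonoid.End (Additive V))) (Additive.ofMul (⟨v, hv⟩ : V)) = 0 := by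
        rw [h]; rfl
      rw [AddMonoid.End.natCast_apply, ← ofMul_pow, ofMul_eq_zero] at h2
      have h3 : orderOf v = p := orderOf_eq_prime (hVe v hv) fun h => hv1 (Subtype.ext h)
      rw [← h3, orderOf_dvd_iff_pow_eq_one]
      simpa using congrArg Subtype.val h2
    · refine AddMonoidHom.ext fun v => ?_
      obtain ⟨v, rfl⟩ := Additive.ofMul.surjective v
      obtain ⟨j, rfl⟩ := h
      show ((p * j : ℕ) : AddMonoid.End (Additive V)) (Additive.ofMul v) = 0
      rw [AddMonoid.End.natCast_apply, ← ofMul_pow, ofMul_eq_zero, pow_mul]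
      rw [show v ^ p = 1 from Subtype.ext (by simpa using hVe v v.2), one_pow]
  set n := ρ x - 1 with hn
  have hx1 : ρ x = 1 + n := by rw [hn]; abel
  have hnn : n * n = 0 := by
    refine AddMonoidHom.ext fun v => Additive.toMul.injective (Subtype.ext ?_)
    obtain ⟨v, rfl⟩ := Additive.ofMul.surjective v
    have hn1 : ∀ w : V, ((Additive.toMul (n (Additive.ofMul w)) : V) : G) = x * w * x⁻¹ * (w : G)⁻¹ := by
      intro w
      rw [hn]
      show ((Additive.toMul (ρ x (Additive.ofMul w) - Additive.ofMul w) : V) : G) = _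
      rw [toMul_sub, Subgroup.coe_div, hρ, div_eq_mul_inv]
      rfl
    show ((Additive.toMul (n (n (Additive.ofMul v))) : V) : G) = 1
    rw [← ofMul_toMul (n (Additive.ofMul v)), hn1, hn1]
    have hc := hq v v.2
    have h2 : x * (v : G) * x⁻¹ * (v : G)⁻¹ = ⁅(v : G), x⁆⁻¹ := by
      rw [commutatorElement_inv, commutatorElement_def]
    rw [h2, hc.symm.inv_right.eq, mul_inv_cancel_right, mul_inv_cancel]
  have hxinv : ρ x⁻¹ = 1 - n := by
    have h1 : ρ x * (1 - n) = 1 := by
      rw [hx1, mul_sub, mul_one, add_mul, one_mul, hnn, add_zero, add_sub_cancel_right]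
    calc ρ x⁻¹ = ρ x⁻¹ * (ρ x * (1 - n)) := by rw [h1, mul_one]
      _ = 1 - n := by rw [← mul_assoc, ← map_mul, inv_mul_cancel, map_one, one_mul]
  constructor
  · intro a ha
    have hS : ∀ r ∈ ρ '' (K : Set G), ∀ s ∈ ρ '' (K : Set G), Commute r s := by
      rintro _ ⟨b, hb, rfl⟩ _ ⟨c, hc, rfl⟩
      have h := hρ1 _ (hab b hb c hc)
      show ρ b * ρ c = ρ c * ρ b
      rw [← map_mul, ← map_mul, show b * c = ⁅b, c⁆ * (c * b) by rw [commutatorElement_def]; group,
        map_mul, h, one_mul]
    have hF : ∀ r ∈ ρ '' (K : Set G), r ^ p ^ k = r := by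
      rintro _ ⟨b, hb, rfl⟩
      rw [← map_pow, show b ^ p ^ k = b * (b⁻¹ * b ^ p ^ k) by group, map_mul,
        hρ1 _ (hexp b hb), mul_one]
    have hinv : ∀ r ∈ ρ '' (K : Set G), (1 + n) * r * (1 - n) ∈ Subring.closure (ρ '' (K : Set G)) := by
      rintro _ ⟨b, hb, rfl⟩
      rw [← hx1, ← hxinv, ← map_mul, ← map_mul]
      exact Subring.subset_closure ⟨_, (inferInstance : K.Normal).conj_mem b hb x, rfl⟩
    have hc : Commute (ρ x) (ρ a) := by
      rw [hx1]
      exact (Commute.one_left _).add_left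
        (commute_of_quadratic_ring hp2 _ hS hk hF hnn hinv _ ⟨a, ha, rfl⟩)
    refine hmem _ ?_
    rw [commutatorElement_def, map_mul, map_mul, map_mul, ← hc.eq, mul_assoc (ρ x), ← map_mul ρ a,
      mul_inv_cancel, map_one, mul_one, ← map_mul, mul_inv_cancel, map_one]
  · refine hmem _ ?_
    rw [map_pow, hx1, add_pow_char_of_commute _ (Commute.one_left n),
      one_pow, ← Nat.sub_add_cancel (Fact.out : p.Prime).two_le, pow_add, pow_two, hnn, mul_zero,
      add_zero]

/-- If a power of `c` centralises `V` and `B / V`, a higher power centralises `B`. -/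
theorem pow_mem_centralizer_of_series {G : Type u} [Group G] {B V : Subgroup G}
    (hVe : ∀ v ∈ V, v ^ p = 1) {c : G} (hcV : c ∈ centralizer (V : Set G))
    (hcB : ∀ b ∈ B, b⁻¹ * (c * b * c⁻¹) ∈ V) : c ^ p ∈ centralizer (B : Set G) := by
  intro b hb
  set v := b⁻¹ * (c * b * c⁻¹) with hv
  have hit : ∀ j : ℕ, c ^ j * b * (c ^ j)⁻¹ = b * v ^ j := by
    intro j
    induction j with
    | zero => simp
    | succ j ih =>
      have hcv : c * v ^ j = v ^ j * c := (hcV _ (pow_mem (hcB b hb) j)).symm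
      calc c ^ (j + 1) * b * (c ^ (j + 1))⁻¹ = c * (c ^ j * b * (c ^ j)⁻¹) * c⁻¹ := by
            rw [pow_succ']; group
        _ = (c * b * c⁻¹) * (c * v ^ j * c⁻¹) := by rw [ih]; group
        _ = b * v * v ^ j := by rw [hcv, hv]; group
        _ = b * v ^ (j + 1) := by rw [pow_succ', mul_assoc]
  have h := hit p
  rw [hVe v (hcB b hb), mul_one] at h
  exact (mul_inv_eq_iff_eq_mul.1 h).symm

/-- Quadratic elements centralise an abelian `p'`-factor modulo `p`-elements. -/
theorem exists_pow_mem_centralizer (hp2 : p ≠ 2) {m : ℕ} (hm : Nat.Coprime m p) : ∀ (n : ℕ)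
    {G : Type u} [Group G] [Finite G] (Q K B : Subgroup G), Q.Normal → K.Normal → B.Normal →
    IsPGroup p Q → IsPGroup p B → Nat.card B ≤ n →
    (∀ a ∈ K, ∀ b ∈ K, ⁅a, b⁆ ∈ Q) → (∀ a ∈ K, a ^ m ∈ Q) →
    ∀ x : G, (∀ w ∈ B, Commute ⁅w, x⁆ x) →
      (∀ a ∈ K, ∃ N, ⁅a, x⁆ ^ p ^ N ∈ centralizer (B : Set G)) ∧
      ∃ N, x ^ p ^ N ∈ centralizer (B : Set G) := by
  intro n
  induction n with
  | zero => intro G _ _ Q K B _ _ _ _ _ h; exact absurd h (Nat.not_le.2 Nat.card_pos)
  | succ n ih =>
    intro G _ _ Q K B hQn hKn hBn hQ hB hcard hab hexp x hq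
    haveI := hQn; haveI := hKn; haveI := hBn
    rcases eq_or_ne B ⊥ with rfl | hne
    · have htop : ∀ g : G, g ∈ centralizer ((⊥ : Subgroup G) : Set G) := fun g v hv => by
        rw [SetLike.mem_coe, mem_bot] at hv
        simp [hv]
      exact ⟨fun a _ => ⟨0, htop _⟩, 0, htop _⟩
    -- a layer `V`
    set Z := B ⊓ centralizer (B : Set G) ⊓ centralizer (Q : Set G) with hZ
    haveI : Z.Normal := inferInstance
    let V : Subgroup G :=
      { carrier := {v | v ∈ Z ∧ v ^ p = 1}
        one_mem' := ⟨one_mem _, one_pow p⟩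
        inv_mem' := fun h => ⟨inv_mem h.1, by rw [inv_pow, h.2, inv_one]⟩
        mul_mem' := fun {a b} ha hb => ⟨mul_mem ha.1 hb.1, by
          rw [(show Commute a b from (ha.1.1.2 b hb.1.1.1).symm).mul_pow, ha.2, hb.2, one_mul]⟩ }
    haveI hVn : V.Normal := ⟨fun v hv g => ⟨Normal.conj_mem inferInstance v hv.1 g, by
      rw [conj_pow, hv.2]; group⟩⟩
    have hVc : IsMulCommutative V :=
      ⟨⟨fun a b => Subtype.ext (a.2.1.1.2 b b.2.1.1.1).symm⟩⟩
    have hVne : V ≠ ⊥ := by
      have hBQ : IsPGroup p (B ⊔ Q : Subgroup G) := hB.to_sup_of_normal_right hQ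
      haveI : Nontrivial B := (nontrivial_iff_ne_bot B).2 hne
      haveI := hB.center_nontrivial
      obtain ⟨c, hc⟩ := exists_ne (1 : center B)
      have hN : (B ⊓ centralizer (B : Set G)).subgroupOf (B ⊔ Q) ≠ ⊥ := by
        intro h
        rw [subgroupOf_eq_bot, disjoint_iff, eq_bot_iff] at h
        have hmem : ((c : B) : G) ∈ (B ⊓ centralizer (B : Set G)) ⊓ (B ⊔ Q) :=
          ⟨⟨(c : B).2, fun b hb => congrArg Subtype.val (mem_center_iff.1 c.2 ⟨b, hb⟩)⟩,
            mem_sup_left (c : B).2⟩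
        exact hc (Subtype.ext (Subtype.ext (mem_bot.1 (h hmem))))
      obtain ⟨z, hzN, hzc, hzo⟩ := OddOrder.BG4.exists_central_orderOf_prime hBQ
        (N := (B ⊓ centralizer (B : Set G)).subgroupOf (B ⊔ Q)) hN
      intro hV
      have hzV : (z : G) ∈ V := ⟨⟨hzN, fun q hq' => congrArg Subtype.val
        (mem_center_iff.1 hzc ⟨q, mem_sup_right hq'⟩)⟩, by
          rw [← Subgroup.coe_pow, ← hzo, pow_orderOf_eq_one]; rfl⟩
      rw [hV, mem_bot] at hzV
      rw [show z = 1 from Subtype.ext hzV, orderOf_one] at hzo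
      exact (Fact.out : p.Prime).ne_one hzo.symm
    have hVB : V ≤ B := fun v hv => hv.1.1.1
    have hVQ : Q ≤ centralizer (V : Set G) := fun q hq' v hv => (hv.1.2 q hq').symm
    -- the bottom layer
    have hm0 : 0 < m := Nat.pos_of_ne_zero fun h => by
      rw [h, Nat.coprime_zero_left] at hm
      exact (Fact.out : p.Prime).ne_one hm
    have hk : 0 < m.totient := Nat.totient_pos.2 hm0
    have hexp' : ∀ a ∈ K, a⁻¹ * a ^ p ^ m.totient ∈ centralizer (V : Set G) := by
      intro a ha
      obtain ⟨j, hj⟩ := (Nat.modEq_iff_dvd' (Nat.one_le_pow _ _ (Fact.out : p.Prime).pos)).1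
        (Nat.ModEq.pow_totient hm.symm).symm
      rw [show p ^ m.totient = 1 + m * j by
        have := Nat.one_le_pow m.totient _ (Fact.out : p.Prime).pos; omega, pow_add, pow_one,
        inv_mul_cancel_left, pow_mul]
      exact pow_mem (hVQ (hexp a ha)) j
    obtain ⟨hV1, hV2⟩ := commute_on_elementary hp2 hVc (fun v hv => hv.2)
      (fun a ha b hb => hVQ (hab a ha b hb)) hk hexp' (fun v hv => hq v (hVB hv))
    -- the quotient
    set π := QuotientGroup.mk' V with hπ
    have hsurj : Function.Surjective π := QuotientGroup.mk'_surjective V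
    have hlt : Nat.card (B.map π) ≤ n := by
      have h1 := relIndex_ker B π
      rw [QuotientGroup.ker_mk'] at h1
      rw [← h1]
      have h2 := card_mul_index (V.subgroupOf B)
      rw [Nat.card_congr (subgroupOfEquivOfLe hVB).toEquiv] at h2
      have h3 : 1 < Nat.card V := one_lt_card_iff_ne_bot V |>.2 hVne
      have h4 : 0 < (V.subgroupOf B).index := Nat.pos_of_ne_zero index_ne_zero_of_finite
      unfold relIndex
      nlinarith
    obtain ⟨h1, N, h2⟩ := ih (Q.map π) (K.map π) (B.map π) (hQn.map π hsurj) (hKn.map π hsurj)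
      (hBn.map π hsurj) (hQ.map π) (hB.map π) hlt
      (by rintro _ ⟨a, ha, rfl⟩ _ ⟨b, hb, rfl⟩
          rw [← map_commutatorElement]; exact mem_map_of_mem π (hab a ha b hb))
      (by rintro _ ⟨a, ha, rfl⟩
          rw [← map_pow]; exact mem_map_of_mem π (hexp a ha))
      (π x) (by rintro _ ⟨w, hw, rfl⟩
                rw [← map_commutatorElement]; exact (hq w hw).map π)
    have hcomm : ∀ c : G, π c ∈ centralizer ((B.map π : Subgroup _) : Set (G ⧸ V)) →
        ∀ b ∈ B, b⁻¹ * (c * b * c⁻¹) ∈ V := by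
      intro c hc b hb
      rw [← QuotientGroup.eq_one_iff]
      show π (b⁻¹ * (c * b * c⁻¹)) = 1
      rw [map_mul, map_mul, map_mul, map_inv, map_inv, ← hc (π b) (mem_map_of_mem π hb),
        mul_inv_cancel_right, inv_mul_cancel]
    constructor
    · intro a ha
      obtain ⟨N', hN'⟩ := h1 (π a) (mem_map_of_mem π ha)
      refine ⟨N' + 1, ?_⟩
      rw [pow_succ, pow_mul]
      refine pow_mem_centralizer_of_series (V := V) (fun v hv => hv.2) (pow_mem (hV1 a ha) _)
        (hcomm _ ?_)
      rwa [← map_commutatorElement, ← map_pow] at hN'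
    · refine ⟨N + 1 + 1, ?_⟩
      rw [pow_succ, pow_mul]
      refine pow_mem_centralizer_of_series (V := V) (fun v hv => hv.2) ?_ (hcomm _ ?_)
      · rw [pow_succ', pow_mul]; exact pow_mem hV2 _
      · rw [map_pow, pow_succ, pow_mul, ← map_pow]
        rw [← map_pow] at h2
        simpa [map_pow] using pow_mem h2 p

/-- A normal series `p`-group, abelian `p'`-group, `p`-group gives stability. -/
theorem quadraticStable_of_series {G : Type u} [Group G] [Finite G] (hp2 : p ≠ 2)
    (Q K : Subgroup G) [Q.Normal] [K.Normal] (hQ : IsPGroup p Q)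
    (hab : ∀ a ∈ K, ∀ b ∈ K, ⁅a, b⁆ ∈ Q) {m : ℕ} (hm : Nat.Coprime m p)
    (hexp : ∀ a ∈ K, a ^ m ∈ Q) (hGK : IsPGroup p (G ⧸ K)) :
    OddOrder.ZJ.QuadraticStable p G := by
  intro B hBn hB x hq
  obtain ⟨h1, N, h2⟩ := exists_pow_mem_centralizer hp2 hm _ Q K B inferInstance inferInstance hBn
    hQ hB le_rfl hab hexp x hq
  set C := centralizer (B : Set G) with hC
  set U := Cfsg.pCore p (G ⧸ C) with hU
  set φ := (QuotientGroup.mk' U).comp (QuotientGroup.mk' C) with hφ
  have hsurj : Function.Surjective φ :=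
    (QuotientGroup.mk'_surjective U).comp (QuotientGroup.mk'_surjective C)
  have hC1 : ∀ c ∈ C, φ c = 1 := fun c hc => by
    show QuotientGroup.mk' U (QuotientGroup.mk' C c) = 1
    rw [show QuotientGroup.mk' C c = 1 from (QuotientGroup.eq_one_iff c).2 hc, map_one]
  have hQ1 : ∀ a ∈ Q, φ a = 1 := by
    intro a ha
    haveI : (Q.map (QuotientGroup.mk' C)).Normal :=
      Normal.map inferInstance _ (QuotientGroup.mk'_surjective C)
    exact (QuotientGroup.eq_one_iff _).2
      (PLocal.le_pCore (hQ.map (QuotientGroup.mk' C)) (mem_map_of_mem _ ha))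
  set L := K.map φ with hL
  haveI hLn : L.Normal := Normal.map inferInstance φ hsurj
  set w := φ x with hw
  have hwc : w ∈ centralizer (L : Set ((G ⧸ C) ⧸ U)) := by
    rintro _ ⟨a, ha, rfl⟩
    obtain ⟨N', hN'⟩ := h1 a ha
    have hc1 : φ ⁅a, x⁆ ^ p ^ N' = 1 := by rw [← map_pow]; exact hC1 _ hN'
    have hca : ⁅a, x⁆ ∈ K := by
      rw [commutatorElement_def, mul_assoc, mul_assoc, ← mul_assoc x]
      exact mul_mem ha ((inferInstance : K.Normal).conj_mem _ (inv_mem ha) x)
    have hc2 : φ ⁅a, x⁆ ^ m = 1 := by rw [← map_pow]; exact hQ1 _ (hexp _ hca)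
    have hc3 : φ ⁅a, x⁆ = 1 := orderOf_eq_one_iff.1 (Nat.eq_one_of_dvd_coprimes
      (Nat.Coprime.pow_right N' hm) (orderOf_dvd_of_pow_eq_one hc2) (orderOf_dvd_of_pow_eq_one hc1))
    rw [map_commutatorElement, commutatorElement_eq_one_iff_mul_comm] at hc3
    exact hc3
  have hwp : w ^ p ^ N = 1 := by rw [← map_pow]; exact hC1 _ h2
  set Cn := centralizer (L : Set ((G ⧸ C) ⧸ U)) with hCn
  -- `Cn` is nilpotent
  have hWL : IsPGroup p (((G ⧸ C) ⧸ U) ⧸ L) := by
    refine hGK.of_surjective (QuotientGroup.lift K ((QuotientGroup.mk' L).comp φ) fun a ha => ?_) ?_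
    · exact (QuotientGroup.eq_one_iff _).2 (mem_map_of_mem φ ha)
    · exact QuotientGroup.lift_surjective_of_surjective K _
        ((QuotientGroup.mk'_surjective L).comp hsurj) _
  haveI := hWL.isNilpotent
  haveI : Group.IsNilpotent Cn :=
    Subgroup.isNilpotent_of_ker_le_center ((QuotientGroup.mk' L).comp Cn.subtype) (by
      intro y hy
      have hyL : (y : (G ⧸ C) ⧸ U) ∈ L := (QuotientGroup.eq_one_iff _).1 hy
      rw [mem_center_iff]
      exact fun z => Subtype.ext (z.2 _ hyL).symm)
  -- its Sylow subgroup lies in the trivial `p`-core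
  have hz : IsPGroup p (zpowers (⟨w, hwc⟩ : Cn)) := by
    obtain ⟨i, -, hi⟩ := (Nat.dvd_prime_pow (Fact.out : p.Prime)).1
      (orderOf_dvd_of_pow_eq_one hwp)
    refine IsPGroup.of_card (n := i) ?_
    rw [Nat.card_zpowers, Subgroup.orderOf_mk, hi]
  obtain ⟨P, hP⟩ := hz.exists_le_sylow
  have hPn : (P : Subgroup Cn).Normal :=
    P.normal_of_normalizerCondition Group.normalizerCondition_of_isNilpotent
  haveI : (P : Subgroup Cn).Characteristic := P.characteristic_of_normal hPn
  haveI : ((P : Subgroup Cn).map Cn.subtype).Normal := ConjAct.normal_of_characteristic_of_normal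
  have hbot : (P : Subgroup Cn).map Cn.subtype = ⊥ := by
    rw [eq_bot_iff, ← PLocal.pCore_quotient_pCore_eq_bot p (G ⧸ C)]
    exact PLocal.le_pCore (P.isPGroup'.map Cn.subtype)
  have hw1 : w = 1 := by
    have h : w ∈ (P : Subgroup Cn).map Cn.subtype := ⟨⟨w, hwc⟩, hP (mem_zpowers _), rfl⟩
    rwa [hbot, mem_bot] at h
  exact (QuotientGroup.eq_one_iff _).1 hw1

end CfsgLib.Transfer.QuadAb
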