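import Cfsg.Agent.ConjFunctor.MainCor
import Cfsg.Agent.OddOrder.ZJ.Main
import Cfsg.Agent.SolvCrit.ZJBasic

/-!
# `N(Z(J(P)))` controls strong fusion when the constrained sections are stable
-/

set_option autoImplicit false

namespace CfsgLib.Transfer.ZJFusion

open Subgroup Cfsg CfsgLib.ConjFunctor

universe u

/-- `Z(J(Q))` as a functor on groups. -/
def zjFunctor (p : ℕ) : ∀ (Q : Type u) [Group Q], Subgroup Q :=
  fun Q _ => centerThompsonOf p (⊤ : Subgroup Q)

theorem isCharPFunctor_zjFunctor (p : ℕ) [Fact p.Prime] :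
    IsCharPFunctor.{u} p (zjFunctor.{u} p) := by
  refine ⟨fun Q _ _ hQ hne => ?_, fun Q R _ _ _ _ φ => ?_⟩
  · exact SolvCrit.centerThompson_ne_bot (hQ.to_subgroup ⊤) top_ne_bot
  · show (centerThompsonOf p (⊤ : Subgroup Q)).map φ.toMonoidHom = _
    rw [SolvCrit.map_centerThompson _ φ.injective p, map_top_of_surjective _ φ.surjective]
    rfl

theorem inducedFunctor_zjFunctor {G : Type u} [Group G] (p : ℕ) (P : Subgroup G) :
    inducedFunctor (G := G) (zjFunctor.{u} p) P = centerThompsonOf p P := by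
  show (centerThompsonOf p (⊤ : Subgroup P)).map P.subtype = _
  rw [SolvCrit.map_centerThompson _ P.subtype_injective p, ← MonoidHom.range_eq_map, P.range_subtype]

/-- Glauberman's `ZJ` theorem on fusion, with stability of the constrained sections assumed. -/
theorem exists_mem_normalizer_centerThompson {G : Type u} [Group G] [Finite G] {p : ℕ}
    [Fact p.Prime] (hp : p ≠ 2)
    (hst : ∀ (K R : Subgroup G) [(R.subgroupOf K).Normal],
      CfsgLib.OddOrder.ZJ.QuadraticStable p (↥K ⧸ R.subgroupOf K))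
    (P : Sylow p G) (A : Set G) (hA : A ⊆ (P : Set G)) (g : G)
    (hAg : (fun a => g⁻¹ * a * g) '' A ⊆ (P : Set G)) :
    ∃ n ∈ normalizer (centerThompsonOf p (P : Subgroup G) : Set G),
      ∀ a ∈ A, n⁻¹ * a * n = g⁻¹ * a * g := by
  set W := zjFunctor.{u} p
  have hW : IsCharPFunctor.{u} p W := isCharPFunctor_zjFunctor p
  have h𝓦 : ∀ V ∈ ({W} : Set (∀ (Q : Type u) [Group Q], Subgroup Q)), IsCharPFunctor.{u} p V := by
    intro V hV; rw [Set.mem_singleton_iff] at hV; subst hV; exact hW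
  have h := familyFusion_section h𝓦 (G := G) (fun K R hR hc => ?_) G
    (involves_equiv (MulEquiv.refl G))
  · rw [show indFam {W} G = {inducedFunctor W} from Set.image_singleton] at h
    have hcc := fusControls_of_family (by simpa using isConjugacyFunctor_induced hW) h
      (isSylowIn_top P)
    have him : (fun a => g⁻¹ * a * g⁻¹⁻¹) '' A ⊆ ((P : Subgroup G) : Set G) := by
      rintro _ ⟨a, ha, rfl⟩
      have := hAg ⟨a, ha, rfl⟩
      simpa using this
    obtain ⟨x, hx, hxA⟩ := (famIn_singleton (inducedFunctor (G := G) W) ⊤ (P : Subgroup G) ▸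
      hcc A g⁻¹ trivial hA him).exists_mem_of_singleton
    have hx' := hx.2
    rw [inducedFunctor_zjFunctor] at hx'
    refine ⟨x⁻¹, inv_mem hx', fun a ha => ?_⟩
    simpa using hxA a ha
  · obtain ⟨S⟩ := (inferInstance : Nonempty (Sylow p (↥K ⧸ R.subgroupOf K)))
    refine familyControlsStrongFusionIn_iff.mpr ⟨_, isSylowIn_top S, fun X y _ hX hyX => ?_⟩
    have hn := CfsgLib.OddOrder.ZJ.centerThompsonOf_normal hp (hst K R) hc S
    refine Fus.single hX (M := ⊤ ⊓ Subgroup.normalizer
      ((inducedFunctor W (S : Subgroup (↥K ⧸ R.subgroupOf K)) : Subgroup _) :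
        Set (↥K ⧸ R.subgroupOf K))) ⟨_, ⟨W, rfl, rfl⟩, rfl⟩ ?_ (cjSet_subset_iff.mp hyX)
    refine ⟨trivial, ?_⟩
    rw [inducedFunctor_zjFunctor, Subgroup.normalizer_eq_top_iff.mpr hn]
    exact Subgroup.mem_top y

end CfsgLib.Transfer.ZJFusion
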