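import Cfsg.Agent.Transfer.NilpotentHall

/-!
# Normal complements to nilpotent Hall subgroups
-/

namespace CfsgLib.Transfer

open Subgroup
open Cfsg (pResidual HasNormalPComplement)

variable {G : Type*} [Group G]

/-- A nilpotent Hall subgroup without fusion has a normal complement. -/
theorem exists_normal_complement_of_no_fusion [Finite G] (H : Subgroup G)
    (hn : Group.IsNilpotent H) (hH : Nat.Coprime (Nat.card H) H.index)
    (hf : ∀ x ∈ H, ∀ y ∈ H, (∃ g : G, g * x * g⁻¹ = y) → ∃ h ∈ H, h * x * h⁻¹ = y) :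
    ∃ N : Subgroup G, N.Normal ∧ N.IsComplement' H := by
  classical
  have key : ∀ q : ℕ, q ∈ (Nat.card H).primeFactors → ∀ [Fact q.Prime],
      ¬ q ∣ Nat.card (pResidual q G) ∧
        (pResidual q G).index = q ^ (Nat.card H).factorization q := by
    intro q hq _
    obtain ⟨P, H₀, hPH, hH₀, hcen, hsup, -⟩ := exists_nilpotent_hall_decomposition (p := q) H hn hH
      (Nat.dvd_of_mem_primeFactors hq)
    have hfus : ControlsFusion (P : Subgroup G) (P : Subgroup G) := by
      intro x hx g hg
      obtain ⟨h, hh, he⟩ := hf x (hPH hx) _ (hPH hg) ⟨g, rfl⟩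
      rw [← hsup, ← SetLike.mem_coe, coe_mul_of_right_le_normalizer_left (P : Subgroup G) H₀
        (hcen.trans (centralizer_le_normalizer _))] at hh
      obtain ⟨a, ha, b, hb, rfl⟩ := hh
      refine ⟨a, ha, ?_⟩
      rw [← he]
      have := hcen hb x hx
      calc a * x * a⁻¹ = a * (x * b) * b⁻¹ * a⁻¹ := by group
        _ = a * b * x * (a * b)⁻¹ := by rw [this]; group
    have hnpc := hasNormalPComplement_of_controlsFusion_self P hfus
    refine ⟨hasNormalPComplement_iff.1 hnpc, ?_⟩
    have hc := isComplement'_of_isPGroup_quotient P (hasNormalPComplement_iff.1 hnpc)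
      (isPGroup_quotient_pResidual (p := q) (G := G))
    rw [hc.symm.index_eq_card, P.card_eq_multiplicity, ← card_mul_index H,
      Nat.factorization_mul Nat.card_pos.ne' index_ne_zero_of_finite]
    have : ¬ q ∣ H.index := fun hd => (Nat.prime_of_mem_primeFactors hq).not_dvd_one
      (hH ▸ Nat.dvd_gcd (Nat.dvd_of_mem_primeFactors hq) hd)
    simp [Nat.factorization_eq_zero_of_not_dvd this]
  set N : Subgroup G := ⨅ q : ((Nat.card H).primeFactors : Finset ℕ), pResidual (q : ℕ) G with hN
  haveI hNn : N.Normal := normal_iInf_normal fun q => inferInstance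
  have hdisj : N ⊓ H = ⊥ := by
    refine (eq_bot_iff_forall _).2 fun x hx => ?_
    by_contra hne
    obtain ⟨q, hq, hqd⟩ := Nat.exists_prime_and_dvd (mt orderOf_eq_one_iff.1 hne)
    haveI : Fact q.Prime := ⟨hq⟩
    have hqH : q ∈ (Nat.card H).primeFactors :=
      Nat.mem_primeFactors.2 ⟨hq, hqd.trans (H.orderOf_dvd_natCard hx.2), Nat.card_pos.ne'⟩
    exact (key q hqH).1 (hqd.trans ((pResidual q G).orderOf_dvd_natCard
      (mem_iInf.1 hx.1 ⟨q, hqH⟩)))
  have hidx : N.index ≤ Nat.card H := by
    refine le_trans (index_iInf_le _) (le_of_eq ?_)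
    conv_rhs => rw [← Nat.prod_factorization_pow_eq_self (Nat.card_pos (α := H)).ne']
    rw [Finsupp.prod, Nat.support_factorization]
    rw [← Finset.prod_coe_sort (Nat.card H).primeFactors fun q => q ^ (Nat.card H).factorization q]
    refine Finset.prod_congr rfl fun ⟨q, hq⟩ _ => ?_
    haveI : Fact q.Prime := ⟨Nat.prime_of_mem_primeFactors hq⟩
    exact (key q hq).2
  have hinj : Nat.card H ≤ N.index := by
    rw [index_eq_card]
    refine Nat.card_le_card_of_injective ((QuotientGroup.mk' N).comp H.subtype)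
      ((injective_iff_map_eq_one _).2 fun x hx => ?_)
    have : (x : G) ∈ N ⊓ H := ⟨(QuotientGroup.eq_one_iff _).1 hx, x.2⟩
    rw [hdisj, mem_bot] at this
    exact Subtype.ext this
  refine ⟨N, hNn, isComplement'_of_card_mul_and_disjoint ?_ (disjoint_iff.2 hdisj)⟩
  rw [le_antisymm hinj hidx, card_mul_index]

/-- A Hall subgroup central in its normalizer has no fusion, hence a normal complement. -/
theorem exists_normal_complement_of_normalizer_le_centralizer [Finite G] (H : Subgroup G)
    (hH : Nat.Coprime (Nat.card H) H.index)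
    (h : normalizer (H : Set G) ≤ centralizer (H : Set G)) :
    ∃ N : Subgroup G, N.Normal ∧ N.IsComplement' H := by
  have hc : IsMulCommutative H :=
    ⟨⟨fun a b => Subtype.ext (h (le_normalizer b.2) a a.2)⟩⟩
  have hn : Group.IsNilpotent H := by
    open scoped IsMulCommutative in infer_instance
  refine exists_normal_complement_of_no_fusion H hn hH fun x hx y hy ⟨g, hg⟩ => ⟨1, one_mem _, ?_⟩
  set C := centralizer ({y} : Set G) with hC
  have hHC : H ≤ C := fun a ha b hb => by
    rw [Set.mem_singleton_iff.1 hb]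
    exact congrArg Subtype.val (mul_comm' (⟨y, hy⟩ : H) ⟨a, ha⟩)
  set K := H.map (MulAut.conj g).toMonoidHom with hK
  have hKC : K ≤ C := by
    rintro _ ⟨a, ha, rfl⟩ b hb
    rw [Set.mem_singleton_iff.1 hb, ← hg]
    have := congrArg Subtype.val (mul_comm' (⟨x, hx⟩ : H) ⟨a, ha⟩)
    simp only [Subgroup.coe_mul] at this
    simp only [MulEquiv.coe_toMonoidHom, MulAut.conj_apply]
    calc g * x * g⁻¹ * (g * a * g⁻¹) = g * (x * a) * g⁻¹ := by group
      _ = g * (a * x) * g⁻¹ := by rw [this]
      _ = g * a * g⁻¹ * (g * x * g⁻¹) := by group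
  have hKn : Group.IsNilpotent K :=
    Group.isNilpotent_congr (H.equivMapOfInjective _ (MulAut.conj g).injective) |>.1 hn
  have hcard : Nat.card K = Nat.card H := card_map_of_injective (MulAut.conj g).injective
  obtain ⟨c, hc'⟩ := exists_map_conj_eq_of_nilpotent_hall (G := C) (K.subgroupOf C) (H.subgroupOf C)
    (Group.isNilpotent_congr (subgroupOfEquivOfLe hKC) |>.2 hKn)
    (Group.isNilpotent_congr (subgroupOfEquivOfLe hHC) |>.2 hn)
    (((Nat.card_congr (subgroupOfEquivOfLe hKC).toEquiv).trans hcard).trans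
      (Nat.card_congr (subgroupOfEquivOfLe hHC).toEquiv).symm)
    (by
      rw [Nat.card_congr (subgroupOfEquivOfLe hKC).toEquiv]
      have h1 : (K.subgroupOf C).index ∣ K.index := relIndex_dvd_index_of_le hKC
      refine Nat.Coprime.coprime_dvd_right h1 ?_
      rw [hcard, hK, index_map_of_bijective (f := (MulAut.conj g).toMonoidHom) (MulAut.conj g).bijective]
      exact hH)
  have h2 : K.map (MulAut.conj (c : G)).toMonoidHom = H := by
    have := congrArg (Subgroup.map C.subtype) hc'
    rw [map_subgroupOf_eq_of_le hHC] at this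
    rw [← this, ← map_subgroupOf_eq_of_le hKC, map_map, subgroupOf_map_subtype,
      inf_eq_left.2 hKC, map_map]
    rfl
  rw [hK, map_conj_map_conj] at h2
  have h3 := h (mem_normalizer_of_map_conj_eq h2) x hx
  have h4 : y * (c : G) = (c : G) * y := c.2 y rfl
  have h5 : x = y := by
    calc x = ((c : G) * g) * x * ((c : G) * g)⁻¹ := by rw [← h3]; group
      _ = (c : G) * y * (c : G)⁻¹ := by rw [← hg]; group
      _ = y := by rw [← h4]; group
  simp [h5]

end CfsgLib.Transfer
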