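import Cfsg.Agent.Transfer.Frobenius
import Cfsg.Agent.ConjFunctor.Basic
import Cfsg.Prelude.Def_TwoFusion

/-!
# Frobenius' criterion relative to a strongly closed subgroup

* `hasNormalPComplement_of_stronglyClosed`: `G` has a normal `p`-complement when `N_G(U)` has one
  for all `U ≤ D` with `C_D(U) ≤ U`, `D` strongly closed in a Sylow subgroup.
-/

set_option autoImplicit false
set_option linter.style.haveILetI false

namespace CfsgLib.StronglyClosedComplement

open Subgroup
open CfsgLib.Transfer hiding lt_inf_normalizer mem_map_conj_iff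
open CfsgLib.ConjFunctor
open Cfsg (HasNormalPComplement IsStronglyClosed pResidual)

variable {G : Type*} [Group G] [Finite G] {p : ℕ} [Fact p.Prime]

/-- Inside a subgroup with normal `p`-complement, a `p'`-element normalising a `p`-subgroup
centralises it. -/
theorem centralizes_of_le {M Q : Subgroup G} (hM : HasNormalPComplement p M) (hQM : Q ≤ M)
    (hQ : IsPGroup p Q) {g : G} (hgM : g ∈ M) (hg : g ∈ normalizer (Q : Set G))
    (hgp : Nat.Coprime (orderOf g) p) : g ∈ centralizer (Q : Set G) := by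
  have := mem_centralizer_of_hasNormalPComplement hM (Q := Q.subgroupOf M) hQ.comap_subtype
    (g := ⟨g, hgM⟩)
    (mem_normalizer_iff.2 fun a => by simpa [mem_subgroupOf] using mem_normalizer_iff.1 hg a)
    (by rwa [Subgroup.orderOf_mk])
  intro q hq
  exact congrArg Subtype.val (this ⟨q, hQM hq⟩ (mem_subgroupOf.2 hq))

/-- Frattini: `p'`-elements of `H` lie in the normal subgroup `C` when those normalising a Sylow
subgroup of `C` do. -/
theorem mem_of_frattini {H C T : Subgroup G} (hn : H ≤ normalizer (C : Set G))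
    (hT : IsSylowIn p T C)
    (h : ∀ m ∈ H, m ∈ normalizer (T : Set G) → Nat.Coprime (orderOf m) p → m ∈ C)
    (hCH : C ≤ H) {x : G} (hx : x ∈ H) (hxp : Nat.Coprime (orderOf x) p) : x ∈ C := by
  haveI : (C.subgroupOf H).Normal := (normal_subgroupOf_iff_le_normalizer hCH).2 hn
  set M := H ⊓ normalizer (T : Set G) with hM
  let f : M →* ↥H ⧸ C.subgroupOf H :=
    (QuotientGroup.mk' (C.subgroupOf H)).comp (inclusion (inf_le_left : M ≤ H))
  have hfker : pResidual p M ≤ f.ker := by
    rw [pResidual, closure_le]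
    intro m hm
    have hm' : Nat.Coprime (orderOf (m : G)) p := by rw [Subgroup.orderOf_coe]; exact hm
    exact (QuotientGroup.eq_one_iff _).2 (mem_subgroupOf.2 (h m m.2.1 m.2.2 hm'))
  have hfsurj : Function.Surjective f := by
    intro y
    obtain ⟨⟨y, hy⟩, rfl⟩ := QuotientGroup.mk'_surjective _ y
    have h1 : IsSylowIn p (y *• T) C := by
      have := hT.cj y
      rwa [cj_eq_of_mem_normalizer (hn hy)] at this
    obtain ⟨c, hc, hce⟩ := hT.exists_cj_eq h1
    rw [cj_cj] at hce
    refine ⟨⟨c * y, mul_mem (hCH hc) hy, mem_normalizer_iff_cj.2 hce⟩, ?_⟩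
    refine (QuotientGroup.eq_iff_div_mem).2 (mem_subgroupOf.2 ?_)
    simpa [div_eq_mul_inv] using hc
  have hQ : IsPGroup p (↥H ⧸ C.subgroupOf H) :=
    (isPGroup_quotient_pResidual (p := p) (G := M)).of_surjective (QuotientGroup.lift _ f hfker)
      fun y => by
        obtain ⟨m, rfl⟩ := hfsurj y
        exact ⟨QuotientGroup.mk m, rfl⟩
  obtain ⟨k, hk⟩ := IsPGroup.iff_orderOf.1 hQ (QuotientGroup.mk' _ ⟨x, hx⟩)
  have h1 := orderOf_map_dvd (QuotientGroup.mk' (C.subgroupOf H)) ⟨x, hx⟩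
  rw [Subgroup.orderOf_mk] at h1
  exact mem_subgroupOf.1 ((QuotientGroup.eq_one_iff _).1 (orderOf_eq_one_iff.1
    (Nat.eq_one_of_dvd_coprimes (hxp.pow_right k) h1 hk.dvd)))

/-- A strongly closed subgroup is normalised by the Sylow subgroup. -/
theorem conj_mem_of_isStronglyClosed {D S : Subgroup G} (hD : IsStronglyClosed D S) {s d : G}
    (hs : s ∈ S) (hd : d ∈ D) : s * d * s⁻¹ ∈ D :=
  hD.2 d hd s (mul_mem (mul_mem hs (hD.1 hd)) (inv_mem hs))

/-- The case in which the normalizers of all `U ≤ D` outside a central `Z ≤ D` have normal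
`p`-complements. -/
theorem hasNormalPComplement_of_central (S : Sylow p G) {D Z : Subgroup G}
    (hD : IsStronglyClosed D (S : Subgroup G)) (hZD : Z ≤ D)
    (hZc : ∀ z ∈ Z, ∀ g : G, g * z = z * g) (hDZ : ¬ D ≤ Z)
    (h : ∀ U : Subgroup G, U ≤ D → ¬ U ≤ Z → HasNormalPComplement p (normalizer (U : Set G))) :
    HasNormalPComplement p G := by
  have hZN : ∀ g : G, g *• Z = Z := fun g => by
    refine cj_eq_of_mem_normalizer (centralizer_le_normalizer' Z ?_)
    exact fun z hz => (hZc z hz g).symm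
  refine hasNormalPComplement_of_local S ?_
  suffices key : ∀ Q : Subgroup G, Q ≤ (S : Subgroup G) → Z ≤ Q → Extremal p (S : Subgroup G) Q →
      ∀ g ∈ normalizer (Q : Set G), Nat.Coprime (orderOf g) p → g ∈ centralizer (Q : Set G) by
    intro Q hQ g hg hgp q hq
    have hg' : g ∈ normalizer ((Q ⊔ Z : Subgroup G) : Set G) :=
      mem_normalizer_iff_cj.2 (by rw [Subgroup.map_sup, cj_eq_of_mem_normalizer hg, hZN])
    obtain ⟨a, ha1, ha2, -⟩ := exists_extremal_conj (isSylowIn_top S)
      (sup_le hQ (hZD.trans hD.1) : Q ⊔ Z ≤ (S : Subgroup G))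
    have hq' := key _ ha1 ((hZN a).ge.trans (cj_mono a le_sup_right)) ha2 (a * g * a⁻¹)
      (by rw [normalizer_cj]; exact conj_mem_cj a hg')
      (by rw [← MulAut.conj_apply, MulEquiv.orderOf_eq]; exact hgp)
      (a * q * a⁻¹) (conj_mem_cj a (mem_sup_left hq))
    have e : a * (q * g) * a⁻¹ = a * (g * q) * a⁻¹ := by
      calc a * (q * g) * a⁻¹ = (a * q * a⁻¹) * (a * g * a⁻¹) := by group
        _ = (a * g * a⁻¹) * (a * q * a⁻¹) := hq'
        _ = a * (g * q) * a⁻¹ := by group
    simpa using e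
  intro Q hQS hZQ hext g hg hgp
  have hQp : IsPGroup p Q := S.isPGroup'.to_le hQS
  by_cases hDQ : D ⊓ Q ≤ Z
  swap
  · refine centralizes_of_le (h _ inf_le_left hDQ) (fun q hq => ?_) hQp ?_ hg hgp
    · exact mem_normalizer_of_forall_conj_mem fun d hd => mem_inf.2
        ⟨conj_mem_of_isStronglyClosed hD (hQS hq) (mem_inf.1 hd).1,
          mul_mem (mul_mem hq (mem_inf.1 hd).2) (inv_mem hq)⟩
    · refine mem_normalizer_of_forall_conj_mem fun d hd => ?_
      have h1 : g * d * g⁻¹ ∈ Q := (mem_normalizer_iff.1 hg d).1 hd.2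
      exact ⟨hD.2 d hd.1 g (hQS h1), h1⟩
  -- the stabilizer of `Q > Z > 1`
  set H := normalizer (Q : Set G) with hH
  let C : Subgroup G :=
    { carrier := {c | c ∈ H ∧ ∀ q ∈ Q, ∃ z ∈ Z, c * q * c⁻¹ = z * q}
      one_mem' := ⟨one_mem _, fun q _ => ⟨1, one_mem _, by simp⟩⟩
      mul_mem' := by
        rintro a b ⟨ha, ha'⟩ ⟨hb, hb'⟩
        refine ⟨mul_mem ha hb, fun q hq => ?_⟩
        obtain ⟨z, hz, e⟩ := hb' q hq
        obtain ⟨z', hz', e'⟩ := ha' q hq
        refine ⟨z * z', mul_mem hz hz', ?_⟩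
        calc a * b * q * (a * b)⁻¹ = a * (b * q * b⁻¹) * a⁻¹ := by group
          _ = (a * z) * q * a⁻¹ := by rw [e]; group
          _ = z * (a * q * a⁻¹) := by rw [hZc z hz a]; group
          _ = z * z' * q := by rw [e']; group
      inv_mem' := by
        rintro a ⟨ha, ha'⟩
        refine ⟨inv_mem ha, fun q hq => ?_⟩
        obtain ⟨z, hz, e⟩ := ha' q hq
        refine ⟨z⁻¹, inv_mem hz, ?_⟩
        have e2 : a * (z⁻¹ * q) * a⁻¹ = q := by
          calc a * (z⁻¹ * q) * a⁻¹ = (a * z⁻¹) * q * a⁻¹ := by group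
            _ = z⁻¹ * (a * q * a⁻¹) := by rw [hZc _ (inv_mem hz) a]; group
            _ = q := by rw [e]; group
        calc a⁻¹ * q * a⁻¹⁻¹ = a⁻¹ * (a * (z⁻¹ * q) * a⁻¹) * a := by rw [e2]; group
          _ = z⁻¹ * q := by group }
  have hCH : C ≤ H := fun c hc => hc.1
  have hn : H ≤ normalizer (C : Set G) := by
    intro n hn'
    refine mem_normalizer_of_forall_conj_mem fun c hc => ⟨mul_mem (mul_mem hn' hc.1) (inv_mem hn'),
      fun q hq => ?_⟩
    obtain ⟨z, hz, e⟩ := hc.2 (n⁻¹ * q * n) ((mem_normalizer_iff''.1 hn' q).1 hq)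
    refine ⟨z, hz, ?_⟩
    calc n * c * n⁻¹ * q * (n * c * n⁻¹)⁻¹ = n * (c * (n⁻¹ * q * n) * c⁻¹) * n⁻¹ := by group
      _ = (n * z) * (n⁻¹ * q * n) * n⁻¹ := by rw [e]; group
      _ = z * q := by rw [hZc z hz n]; group
  have hDC : D ⊓ H ≤ C := by
    rintro d ⟨hd, hdH⟩
    refine ⟨hdH, fun q hq => ⟨d * q * d⁻¹ * q⁻¹, hDQ (mem_inf.2 ⟨?_, ?_⟩), by group⟩⟩
    · have h1 := conj_mem_of_isStronglyClosed hD (hQS hq) (inv_mem hd)
      simpa [mul_assoc] using mul_mem hd h1
    · exact mul_mem ((mem_normalizer_iff.1 hdH q).1 hq) (inv_mem hq)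
  have hV : ¬ D ⊓ H ≤ Z := by
    intro hle
    have hQD : Q < Q ⊔ D := lt_of_le_of_ne le_sup_left fun e => hDZ
      ((le_inf le_rfl (le_sup_right.trans e.ge)).trans hDQ)
    obtain ⟨x, hx, hxQ⟩ := SetLike.exists_of_lt
      (lt_inf_normalizer (S.isPGroup'.to_le (sup_le hQS hD.1)) hQD)
    obtain ⟨hx1, hxH⟩ := mem_inf.1 hx
    have hQN : Q ≤ normalizer (D : Set G) := fun q hq =>
      mem_normalizer_of_forall_conj_mem fun d hd => conj_mem_of_isStronglyClosed hD (hQS hq) hd
    rw [← SetLike.mem_coe, coe_mul_of_left_le_normalizer_right Q D hQN] at hx1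
    obtain ⟨q, hq, d, hd, rfl⟩ := Set.mem_mul.1 hx1
    have hdH : d ∈ H := by
      simpa using mul_mem (inv_mem (le_normalizer hq : q ∈ H)) hxH
    exact hxQ (mul_mem hq (hZQ (hle ⟨hd, hdH⟩)))
  have hT : IsSylowIn p ((S : Subgroup G) ⊓ H ⊓ C) C :=
    ((extremal_iff S.isPGroup').1 hext).inf_of_normal hCH hn
  have hgC : g ∈ C := by
    refine mem_of_frattini hn hT (fun m hm hmT hmp => ⟨hm, fun q hq => ?_⟩) hCH hg hgp
    have hmV : m ∈ normalizer ((D ⊓ H : Subgroup G) : Set G) := by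
      refine mem_normalizer_of_forall_conj_mem fun d hd => ?_
      have h1 := (mem_normalizer_iff.1 hmT d).1 ⟨⟨hD.1 hd.1, hd.2⟩, hDC hd⟩
      exact ⟨hD.2 d hd.1 m h1.1.1, h1.1.2⟩
    have hQV : Q ≤ normalizer ((D ⊓ H : Subgroup G) : Set G) := fun q hq =>
      mem_normalizer_of_forall_conj_mem fun d hd => mem_inf.2
        ⟨conj_mem_of_isStronglyClosed hD (hQS hq) (mem_inf.1 hd).1,
          mul_mem (mul_mem (le_normalizer hq) (mem_inf.1 hd).2) (inv_mem (le_normalizer hq))⟩
    have := centralizes_of_le (h _ inf_le_left hV) hQV hQp hmV hm hmp q hq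
    exact ⟨1, one_mem _, by rw [one_mul, ← this, mul_inv_cancel_right]⟩
  intro q hq
  obtain ⟨z, hz, e⟩ := hgC.2 q hq
  have hpow : ∀ n : ℕ, g ^ n * q * (g ^ n)⁻¹ = z ^ n * q := by
    intro n
    induction n with
    | zero => simp
    | succ n ih =>
      calc g ^ (n + 1) * q * (g ^ (n + 1))⁻¹ = g ^ n * (g * q * g⁻¹) * (g ^ n)⁻¹ := by group
        _ = (g ^ n * z) * q * (g ^ n)⁻¹ := by rw [e]; group
        _ = z * (g ^ n * q * (g ^ n)⁻¹) := by rw [hZc z hz]; group
        _ = z ^ (n + 1) * q := by rw [ih, pow_succ']; group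
  have hz1 : z = 1 := by
    have h1 := hpow (orderOf g)
    rw [pow_orderOf_eq_one, one_mul, inv_one, mul_one, right_eq_mul] at h1
    obtain ⟨k, hk⟩ := IsPGroup.iff_orderOf.1 S.isPGroup' ⟨z, hD.1 (hZD hz)⟩
    rw [Subgroup.orderOf_mk] at hk
    exact orderOf_eq_one_iff.1 (Nat.eq_one_of_dvd_coprimes (hgp.pow_right k)
      (orderOf_dvd_of_pow_eq_one h1) hk.dvd)
  rw [hz1, one_mul, mul_inv_eq_iff_eq_mul] at e
  exact e.symm

/-- Frobenius' normal `p`-complement criterion relative to a strongly closed subgroup. -/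
theorem hasNormalPComplement_of_stronglyClosed (S : Sylow p G) {D : Subgroup G}
    (hD : IsStronglyClosed D (S : Subgroup G))
    (h : ∀ U : Subgroup G, U ≤ D → D ⊓ centralizer (U : Set G) ≤ U →
      HasNormalPComplement p (normalizer (U : Set G))) :
    HasNormalPComplement p G := by
  suffices key : ∀ n : ℕ, ∀ U : Subgroup G, U ≤ D → Nat.card G < Nat.card U + n →
      HasNormalPComplement p (normalizer (U : Set G)) by
    have := key (Nat.card G + 1) ⊥ bot_le (by omega)
    rw [normalizer_eq_top_iff.2 inferInstance] at this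
    exact (hasNormalPComplement_congr topEquiv).1 this
  intro n
  induction n with
  | zero =>
    intro U _ hlt
    have := card_le_card_group U
    omega
  | succ n ih =>
  intro U₀ hU₀ hlt
  obtain ⟨a, ha1, hext, -⟩ := exists_extremal_conj (isSylowIn_top S) (hU₀.trans hD.1)
  set U := a *• U₀ with hUdef
  have hUD : U ≤ D := by
    rintro _ ⟨u, hu, rfl⟩
    exact hD.2 u (hU₀ hu) a (ha1 (conj_mem_cj a hu))
  rw [← card_cj a U₀, ← hUdef] at hlt
  suffices hU : HasNormalPComplement p (normalizer (U : Set G)) by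
    rw [hUdef, normalizer_cj] at hU
    exact (hasNormalPComplement_congr
      ((normalizer (U₀ : Set G)).equivMapOfInjective _ (MulAut.conj a).injective)).2 hU
  clear_value U
  clear hUdef ha1
  by_cases hcen : D ⊓ centralizer (U : Set G) ≤ U
  · exact h U hUD hcen
  set N := normalizer (U : Set G) with hN
  set C := centralizer (U : Set G) with hC
  have hCN : C ≤ N := centralizer_le_normalizer' U
  have hn : N ≤ normalizer (C : Set G) := by
    intro m hm
    refine mem_normalizer_of_forall_conj_mem fun c hc u hu => ?_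
    have h1 := hc (m⁻¹ * u * m) ((mem_normalizer_iff''.1 hm u).1 hu)
    calc u * (m * c * m⁻¹) = m * ((m⁻¹ * u * m) * c) * m⁻¹ := by group
      _ = m * (c * (m⁻¹ * u * m)) * m⁻¹ := by rw [h1]
      _ = m * c * m⁻¹ * u := by group
  have hT : IsSylowIn p ((S : Subgroup G) ⊓ N ⊓ C) C :=
    ((extremal_iff S.isPGroup').1 hext).inf_of_normal hCN hn
  rw [inf_assoc, inf_eq_right.2 hCN] at hT
  -- larger subgroups
  have hbig : ∀ W : Subgroup G, W ≤ D → ¬ W ≤ U →
      HasNormalPComplement p (normalizer ((U ⊔ W : Subgroup G) : Set G)) := by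
    intro W hWD hWU
    refine ih _ (sup_le hUD hWD) ?_
    have h1 : Nat.card U < Nat.card ↥(U ⊔ W) := lt_of_not_ge fun hge =>
      hWU (le_sup_right.trans (eq_of_le_of_card_ge le_sup_left hge).ge)
    omega
  -- the centralizer
  have hCcompl : HasNormalPComplement p C := by
    let SC : Sylow p C := (hT.2.1.comap_subtype (K := C)).toSylow hT.2.2
    refine hasNormalPComplement_of_central SC (D := D.subgroupOf C)
      (Z := (D ⊓ U).subgroupOf C) ⟨fun x hx => ?_, fun x hx g hg => ?_⟩ (comap_mono inf_le_left)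
      (fun z hz g => Subtype.ext (g.2 (z : G) hz.2).symm) (fun hle => ?_) fun W hW hWZ => ?_
    · exact ⟨hD.1 hx, x.2⟩
    · exact hD.2 _ hx g hg.1
    · exact hcen fun x hx => (hle (show (⟨x, hx.2⟩ : C) ∈ D.subgroupOf C from hx.1)).2
    · have hW1 : ¬ W.map C.subtype ≤ U := fun hle => hWZ fun w hw =>
        ⟨hW hw, hle (mem_map_of_mem _ hw)⟩
      refine (hasNormalPComplement_congr ((normalizer (W : Set C)).equivMapOfInjective _
        C.subtype_injective)).2 (hasNormalPComplement_of_le ?_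
          (hbig (W.map C.subtype) (map_le_iff_le_comap.2 hW) hW1))
      rintro _ ⟨c, hc, rfl⟩
      refine mem_normalizer_iff_cj.2 ?_
      rw [Subgroup.map_sup,
        cj_eq_of_mem_normalizer (g := C.subtype c) (centralizer_le_normalizer' U c.2),
        cj_eq_of_mem_normalizer (g := C.subtype c)
          (le_normalizer_map C.subtype (mem_map_of_mem _ hc))]
  -- `p'`-elements of `N` centralise `U`
  have hmem : ∀ x ∈ N, Nat.Coprime (orderOf x) p → x ∈ C := by
    intro x hx hxp
    refine mem_of_frattini hn hT (fun m hm hmT hmp => ?_) hCN hx hxp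
    set V := D ⊓ C with hV
    have hmV : m ∈ normalizer ((U ⊔ V : Subgroup G) : Set G) := by
      refine mem_normalizer_iff_cj.2 ?_
      rw [Subgroup.map_sup, cj_eq_of_mem_normalizer hm]
      congr 1
      refine cj_eq_of_mem_normalizer (mem_normalizer_of_forall_conj_mem fun d hd => ?_)
      have h1 := (mem_normalizer_iff.1 hmT d).1 ⟨hD.1 hd.1, hd.2⟩
      exact ⟨hD.2 d hd.1 m h1.1, h1.2⟩
    exact centralizes_of_le (hbig V inf_le_left hcen) (le_sup_left.trans le_normalizer)
      (S.isPGroup'.to_le (hUD.trans hD.1)) hmV hm hmp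
  rw [hasNormalPComplement_iff] at hCcompl ⊢
  intro hd
  apply hCcompl
  rw [← card_map_of_injective N.subtype_injective] at hd
  rw [← card_map_of_injective C.subtype_injective]
  refine hd.trans (card_dvd_of_le ?_)
  rw [map_subtype_pResidual, map_subtype_pResidual]
  exact closure_mono fun g hg => ⟨hmem g hg.1 hg.2, hg.2⟩

end CfsgLib.StronglyClosedComplement
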