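import Cfsg.Agent.Transfer.Tate

/-!
# Nilpotent Hall subgroups: Wielandt's conjugacy and the complement criterion
-/

namespace CfsgLib.Transfer

open Subgroup
open Cfsg (pResidual HasNormalPComplement)

universe u

variable {G : Type u} [Group G] {p : ℕ}

/-- In a nilpotent group whose index is prime to its order, the Sylow subgroups are Sylow in the
whole group; here `H = P × H₀`. -/
theorem exists_nilpotent_hall_decomposition [Finite G] [Fact p.Prime] (H : Subgroup G)
    (hn : Group.IsNilpotent H) (hH : Nat.Coprime (Nat.card H) H.index) (hp : p ∣ Nat.card H) :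
    ∃ (P : Sylow p G) (H₀ : Subgroup G), (P : Subgroup G) ≤ H ∧ H₀ ≤ H ∧
      H₀ ≤ centralizer (P : Set G) ∧ (P : Subgroup G) ⊔ H₀ = H ∧
      Nat.card H₀ * Nat.card (P : Subgroup G) = Nat.card H := by
  haveI := hn
  let S : Sylow p H := default
  haveI : (S : Subgroup H).Normal :=
    S.normal_of_normalizerCondition (Group.normalizerCondition_of_isNilpotent (G := H))
  have hc := isComplement'_of_isPGroup_quotient S
    (hasNormalPComplement_iff.1 hasNormalPComplement_of_isNilpotent) isPGroup_quotient_pResidual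
  have hidx : ¬ p ∣ H.index := (Nat.Prime.coprime_iff_not_dvd Fact.out).1
    (Nat.Coprime.coprime_dvd_left hp hH)
  let P : Sylow p G := (S.isPGroup'.map H.subtype).toSylow (by
    rw [← relIndex_mul_index (map_subtype_le (S : Subgroup H))]
    intro hd
    rcases (Fact.out : p.Prime).dvd_mul.1 hd with hd | hd
    · rw [relIndex, subgroupOf, comap_map_eq_self_of_injective H.subtype_injective] at hd
      exact S.not_dvd_index hd
    · exact hidx hd)
  have hP : (P : Subgroup G) = (S : Subgroup H).map H.subtype := IsPGroup.toSylow_coe _ _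
  refine ⟨P, (pResidual p H).map H.subtype, hP ▸ map_subtype_le _, map_subtype_le _, ?_, ?_, ?_⟩
  · rintro _ ⟨b, hb, rfl⟩ a ha
    change a ∈ (P : Subgroup G) at ha
    rw [hP] at ha
    obtain ⟨a, ha, rfl⟩ := ha
    exact congrArg Subtype.val
      (commute_of_normal_of_disjoint _ _ inferInstance inferInstance hc.disjoint.symm a b ha hb).eq
  · rw [hP, ← Subgroup.map_sup, sylow_sup_pResidual, ← MonoidHom.range_eq_map, range_subtype]
  · rw [hP, card_map_of_injective H.subtype_injective, card_map_of_injective H.subtype_injective]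
    exact hc.card_mul

/-- A factor complementary to the order of a Sylow subgroup is prime to `p`. -/
theorem not_dvd_of_card_mul_sylow [Finite G] [Fact p.Prime] (P : Sylow p G) {m : ℕ}
    (h : m * Nat.card (P : Subgroup G) ∣ Nat.card G) : ¬ p ∣ m := by
  intro hd
  refine P.not_dvd_index (hd.trans ?_)
  rw [← card_mul_index (P : Subgroup G), mul_comm m] at h
  exact (Nat.mul_dvd_mul_iff_left Nat.card_pos).1 h

/-- **Wielandt**: nilpotent Hall subgroups of the same order are conjugate. -/
theorem exists_map_conj_eq_of_nilpotent_hall_aux : ∀ (n : ℕ) (G : Type u) [Group G] [Finite G]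
    (H K : Subgroup G), Nat.card H = n → Nat.card K = n → Group.IsNilpotent H →
    Group.IsNilpotent K → Nat.Coprime n H.index →
    ∃ g : G, H.map (MulAut.conj g).toMonoidHom = K := by
  intro n
  induction n using Nat.strong_induction_on with
  | _ n ih =>
  intro G _ _ H K hHn hKn hH hK hco
  by_cases hn1 : n = 1
  · rw [hn1] at hHn hKn
    refine ⟨1, ?_⟩
    rw [card_eq_one.1 hHn, card_eq_one.1 hKn, Subgroup.map_bot]
  obtain ⟨p, hp, hpn⟩ := Nat.exists_prime_and_dvd hn1
  haveI : Fact p.Prime := ⟨hp⟩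
  have hidx : H.index = K.index := by
    apply Nat.eq_of_mul_eq_mul_left (hHn ▸ Nat.card_pos : 0 < n)
    conv_lhs => rw [← hHn, card_mul_index]
    conv_rhs => rw [← hKn, card_mul_index]
  obtain ⟨P, H₀, hPH, hH₀H, hH₀C, hHsup, hHcard⟩ :=
    exists_nilpotent_hall_decomposition (p := p) H hH (by rwa [hHn]) (hHn ▸ hpn)
  obtain ⟨Q, K₀, hQK, hK₀K, hK₀C, hKsup, hKcard⟩ :=
    exists_nilpotent_hall_decomposition (p := p) K hK (by rwa [hKn, ← hidx]) (hKn ▸ hpn)
  obtain ⟨g, hg⟩ := MulAction.exists_smul_eq G Q P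
  have hg' : (Q : Subgroup G).map (MulAut.conj g).toMonoidHom = (P : Subgroup G) := by
    rw [← hg, Sylow.coe_subgroup_smul]; rfl
  set C := centralizer ((P : Subgroup G) : Set G) with hC
  let K₁ := K₀.map (MulAut.conj g).toMonoidHom
  have hK₁C : K₁ ≤ C := by
    rintro _ ⟨b, hb, rfl⟩ a ha
    rw [SetLike.mem_coe, ← hg'] at ha
    obtain ⟨a, ha, rfl⟩ := ha
    rw [← map_mul, ← map_mul]
    exact congrArg _ (hK₀C hb a ha)
  have hPpos : 1 < Nat.card (P : Subgroup G) := by
    rw [P.card_eq_multiplicity]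
    refine Nat.one_lt_pow (fun h0 => ?_) hp.one_lt
    exact Nat.Prime.factorization_pos_of_dvd hp Nat.card_pos.ne'
      (hpn.trans (hHn ▸ card_subgroup_dvd_card H)) |>.ne' h0
  have hK₁card : Nat.card K₁ = Nat.card H₀ := by
    apply Nat.eq_of_mul_eq_mul_right (zero_lt_one.trans hPpos)
    rw [hHcard, hHn, card_map_of_injective (MulAut.conj g).injective]
    conv_lhs => rw [← hg', card_map_of_injective (MulAut.conj g).injective]
    rw [hKcard, hKn]
  have hlt : Nat.card H₀ < n := by
    rw [← hHn, ← hHcard]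
    exact lt_mul_of_one_lt_right Nat.card_pos hPpos
  have hnH : Group.IsNilpotent H₀ := by
    haveI := hH
    exact Group.isNilpotent_congr (subgroupOfEquivOfLe hH₀H) |>.1 inferInstance
  have hnK : Group.IsNilpotent K₁ := by
    haveI := hK
    haveI : Group.IsNilpotent K₀ :=
      Group.isNilpotent_congr (subgroupOfEquivOfLe hK₀K) |>.1 inferInstance
    exact Group.isNilpotent_congr (K₀.equivMapOfInjective _ (MulAut.conj g).injective) |>.1
      inferInstance
  have hCco : Nat.Coprime (Nat.card H₀) (H₀.subgroupOf C).index := by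
    have hd : Nat.card H₀ ∣ n := hHn ▸ card_dvd_of_le hH₀H
    have h1 : (H₀.subgroupOf C).index ∣ H₀.index := by
      rw [← relIndex_mul_index hH₀C]; exact dvd_mul_right _ _
    refine Nat.Coprime.coprime_dvd_right h1 ?_
    have h2 : H₀.index = Nat.card (P : Subgroup G) * H.index := by
      apply Nat.eq_of_mul_eq_mul_left (Nat.card_pos (α := H₀))
      rw [card_mul_index, ← mul_assoc, hHcard, card_mul_index]
    rw [h2]
    refine Nat.Coprime.mul_right ?_ (Nat.Coprime.coprime_dvd_left hd hco)
    -- `H₀` has order prime to `p`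
    obtain ⟨k, hk⟩ := IsPGroup.iff_card.1 P.isPGroup'
    rw [hk]
    refine (Nat.Coprime.pow_right _ (coprime_prime_iff.2 fun hdvd => ?_))
    exact not_dvd_of_card_mul_sylow P (hHcard ▸ card_subgroup_dvd_card H) hdvd
  obtain ⟨c, hc⟩ := ih _ hlt C (H₀.subgroupOf C) (K₁.subgroupOf C)
    (Nat.card_congr (subgroupOfEquivOfLe hH₀C).toEquiv)
    ((Nat.card_congr (subgroupOfEquivOfLe hK₁C).toEquiv).trans hK₁card)
    (Group.isNilpotent_congr (subgroupOfEquivOfLe hH₀C) |>.2 hnH)
    (Group.isNilpotent_congr (subgroupOfEquivOfLe hK₁C) |>.2 hnK) hCco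
  have hcP : (P : Subgroup G).map (MulAut.conj (c : G)).toMonoidHom = P :=
    map_conj_eq_of_mem_normalizer (centralizer_le_normalizer _ c.2)
  have hcH : H₀.map (MulAut.conj (c : G)).toMonoidHom = K₁ := by
    have := congrArg (Subgroup.map C.subtype) hc
    rw [map_subgroupOf_eq_of_le hK₁C] at this
    rw [← this, ← map_subgroupOf_eq_of_le hH₀C, map_map, subgroupOf_map_subtype,
      inf_eq_left.2 hH₀C, map_map]
    rfl
  refine ⟨g⁻¹ * c, ?_⟩
  rw [← hHsup, Subgroup.map_sup, ← map_conj_map_conj, ← map_conj_map_conj H₀, hcP, hcH, ← hKsup,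
    ← hg', map_conj_map_conj, map_conj_map_conj, inv_mul_cancel]
  congr 1 <;> (ext x; rw [mem_map_conj_iff]; simp)

/-- **Wielandt**: two nilpotent subgroups of equal order, prime to their index, are conjugate. -/
theorem exists_map_conj_eq_of_nilpotent_hall [Finite G] (H K : Subgroup G)
    (hH : Group.IsNilpotent H) (hK : Group.IsNilpotent K) (hcard : Nat.card H = Nat.card K)
    (hco : Nat.Coprime (Nat.card H) H.index) :
    ∃ g : G, H.map (MulAut.conj g).toMonoidHom = K :=
  exists_map_conj_eq_of_nilpotent_hall_aux _ G H K rfl hcard.symm hH hK hco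

end CfsgLib.Transfer
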