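import Cfsg.Agent.Transfer.NormalPComplement
import Mathlib.GroupTheory.Subgroup.Centralizer
import Mathlib.GroupTheory.Transfer

/-!
# Abelian Sylow subgroups with few automorphisms
-/

namespace CfsgLib.Transfer

open Subgroup
open Cfsg (HasNormalPComplement)

variable {G : Type*} [Group G] {p : ℕ}

/-- If an abelian Sylow `p`-subgroup `P` has no normal complement, some prime `q ≠ p` divides
`|G|` and `|P| - |D|` for a proper subgroup `D` of `P`. -/
theorem exists_prime_dvd_sub_of_not_hasNormalPComplement [Finite G] [Fact p.Prime] (P : Sylow p G)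
    (hc : IsMulCommutative (P : Subgroup G)) (hnot : ¬ HasNormalPComplement p G) :
    ∃ q D : ℕ, q.Prime ∧ q ≠ p ∧ q ∣ Nat.card G ∧ D ∣ Nat.card (P : Subgroup G) ∧
      D < Nat.card (P : Subgroup G) ∧ q ∣ Nat.card (P : Subgroup G) - D := by
  classical
  set N := normalizer ((P : Subgroup G) : Set G) with hN
  set C := (centralizer ((P : Subgroup G) : Set G)).subgroupOf N with hC
  have hne : C.index ≠ 1 := fun h => hnot ⟨P, _, inferInstance,
    MonoidHom.ker_transferSylow_isComplement' P (subgroupOf_eq_top.1 (index_eq_one.1 h))⟩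
  obtain ⟨q, hq, hqC⟩ := Nat.exists_prime_and_dvd hne
  haveI : Fact q.Prime := ⟨hq⟩
  have hPN : (P : Subgroup G) ≤ N := le_normalizer
  have hPC : ((P.subtype hPN : Sylow p N) : Subgroup N) ≤ C := fun x hx a ha =>
    congrArg Subtype.val (mul_comm' (⟨a, ha⟩ : (P : Subgroup G)) ⟨x, mem_subgroupOf.1 hx⟩)
  have hqp : q ≠ p := fun h => by
    subst h
    exact (P.subtype hPN).not_dvd_index (hqC.trans (index_dvd_of_le hPC))
  let Q : Sylow q N := default
  have hQC : ¬ (Q : Subgroup N) ≤ C := fun h => Q.not_dvd_index (hqC.trans (index_dvd_of_le h))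
  obtain ⟨g, hgQ, hgC⟩ := SetLike.not_le_iff_exists.1 hQC
  let ρ : zpowers g →* MulAut (P : Subgroup G) :=
    ((P : Subgroup G).normalizerMonoidHom).comp (zpowers g).subtype
  letI : MulAction (zpowers g) (P : Subgroup G) := MulAction.compHom _ ρ
  have hZ : IsPGroup q (zpowers g) := Q.isPGroup'.to_le (zpowers_le.2 hgQ)
  let D : Subgroup (P : Subgroup G) :=
    { carrier := MulAction.fixedPoints (zpowers g) (P : Subgroup G)
      mul_mem' := fun {a b} ha hb z => by
        change ρ z (a * b) = a * b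
        rw [map_mul]; exact congrArg₂ _ (ha z) (hb z)
      one_mem' := fun z => map_one (ρ z)
      inv_mem' := fun {a} ha z => by
        change ρ z a⁻¹ = a⁻¹
        rw [map_inv]; exact congrArg _ (ha z) }
  have hDtop : D ≠ ⊤ := by
    intro h
    apply hgC
    intro a ha
    have h1 : ρ ⟨g, mem_zpowers g⟩ ⟨a, ha⟩ = ⟨a, ha⟩ :=
      (h ▸ mem_top (⟨a, ha⟩ : (P : Subgroup G)) : (⟨a, ha⟩ : (P : Subgroup G)) ∈ D) _
    have h2 : (g : G) * a * (g : G)⁻¹ = a := congrArg Subtype.val h1
    exact (mul_inv_eq_iff_eq_mul.1 h2).symm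
  refine ⟨q, Nat.card D, hq, hqp, hqC.trans ((index_dvd_card _).trans (card_subgroup_dvd_card N)),
    card_subgroup_dvd_card D, ?_, ?_⟩
  · exact lt_of_le_of_ne (Nat.card_le_card_of_injective _ D.subtype_injective)
      fun h => hDtop (eq_top_of_card_eq D h)
  · exact (Nat.modEq_iff_dvd' (Nat.card_le_card_of_injective _ D.subtype_injective)).1
      (hZ.card_modEq_card_fixedPoints (α := (P : Subgroup G))).symm

end CfsgLib.Transfer
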