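import Cfsg.Agent.S0601
import Cfsg.Agent.S0607
import Cfsg.Agent.S0608
import Cfsg.Agent.PLocal.Constraint
import Cfsg.Agent.PLocal.PSolvable

/-!
# Thompson factorization from stability
-/

set_option autoImplicit false
open scoped commutatorElement

namespace CfsgLib.Transfer.ThompsonFactor

open Subgroup Cfsg

variable {G : Type*} [Group G] [Finite G] {p : ℕ} [Fact p.Prime]

theorem isThompsonFactorizable (hO : pPrimeCore p G = ⊥)
    (hc : centralizer (pCore p G : Set G) ≤ pCore p G)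
    (hst : ∀ (W : Subgroup G) [W.Normal], IsElementaryAbelian p W → IsPStableOn p W) : IsThompsonFactorizable p G := by
  refine Cfsg.Agent.S0608.result hO |>.2 ?_
  obtain ⟨hn, hV, hD⟩ := Cfsg.Agent.S0601.result (p := p) hc
  set V : Subgroup G := ⨆ S : Sylow p G,
    omegaOne p ((S : Subgroup G) ⊓ centralizer ((S : Subgroup G) : Set G)) with hVdef
  haveI := hn
  refine sSup_le fun A hA => ?_
  rw [← commutator_eq_bot_iff_le_centralizer, commutator_comm]
  by_contra hne
  obtain ⟨h1, h2, h3⟩ := Cfsg.Agent.S0607.result V hV A hA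
  refine h3 hne ?_
  set B := ⁅V, A⁆ ⊔ (A ⊓ centralizer ((⁅V, A⁆ : Subgroup G) : Set G)) with hB
  rw [commutator_comm, commutator_eq_bot_iff_le_centralizer]
  intro b hb
  have hq : ⁅⁅V, zpowers b⁆, zpowers b⁆ = ⊥ :=
    le_bot_iff.1 (h2 ▸ commutator_mono (commutator_mono le_rfl (zpowers_le.2 hb)) (zpowers_le.2 hb))
  have h := hst V hV b hq
  rw [(PLocal.pCore_quotient_eq_bot_iff _).2 hD, mem_bot] at h
  exact (QuotientGroup.eq_one_iff b).1 h

/-- Thompson factorization in a solvable group, in the element form. -/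
theorem exists_factor [Group.IsSolvable G]
    (hF : ∀ N : Subgroup G, N.Normal → Nat.Coprime (Nat.card N) p → N = ⊥)
    (hst : ∀ (W : Subgroup G) [W.Normal], IsElementaryAbelian p W → IsPStableOn p W)
    (P : Sylow p G) (g : G) :
    ∃ a ∈ normalizer (thompsonSubgroupOf p (P : Subgroup G) : Set G),
      ∃ c ∈ centralizer {x : G | x ∈ (P : Subgroup G) ∧ (∀ y ∈ (P : Subgroup G), x * y = y * x) ∧
        x ^ p = 1}, g = a * c := by
  have hO : pPrimeCore p G = ⊥ := sSup_eq_bot.2 fun N hN => hF N hN.1 hN.2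
  obtain ⟨x, hx, c, hc, n, hn, h⟩ := isThompsonFactorizable hO
    (PLocal.centralizer_pCore_le PLocal.isPSolvable_of_isSolvable hO) hst P g⁻¹
  rw [hO, mem_bot] at hx
  refine ⟨n⁻¹, inv_mem hn, c⁻¹, inv_mem (centralizer_le ?_ hc), ?_⟩
  · rintro y ⟨hy, hyc, hyp⟩
    exact subset_closure ⟨⟨hy, fun z hz => (hyc z hz).symm⟩, hyp⟩
  · rw [eq_comm, ← inv_inj, mul_inv_rev, inv_inv, inv_inv, h, hx, one_mul]

end CfsgLib.Transfer.ThompsonFactor
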