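import Cfsg.Agent.OddOrder.BG4.Basic

/-!
# Normal elementary abelian subgroups of order `p⁴`

For odd `p`, a `p`-group with an elementary abelian subgroup of order `p⁴` has a normal one. In an
induction on the order, the normal one `A` of a maximal subgroup is compared with a conjugate by
means of a normal series `W < B` inside a maximal normal elementary abelian subgroup `B`.
-/

set_option autoImplicit false

namespace CfsgLib.Transfer.RankFour

open Subgroup
open scoped commutatorElement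

universe u

variable {R : Type u} [Group R] {p : ℕ}

theorem commutator_mul_left_eq {x y b : R} (h : Commute x ⁅y, b⁆) :
    ⁅x * y, b⁆ = ⁅y, b⁆ * ⁅x, b⁆ := by
  calc ⁅x * y, b⁆ = x * ⁅y, b⁆ * x⁻¹ * ⁅x, b⁆ := by
        simp only [commutatorElement_def]; group
    _ = ⁅y, b⁆ * ⁅x, b⁆ := by rw [h.eq, mul_inv_cancel_right]

/-- `e ↦ ⁅e, b⁆` counts `A` against its values and its kernel; with equality it is onto. -/
theorem card_le_of_commutator [Finite R] {A W D : Subgroup R} {b : R}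
    (hWA : W ≤ centralizer (A : Set R)) (hW : ∀ u ∈ W, ∀ v ∈ W, Commute u v)
    (h : ∀ e ∈ A, ⁅e, b⁆ ∈ W) (hD : A ⊓ centralizer {b} ≤ D) :
    Nat.card A ≤ Nat.card W * Nat.card D ∧
      (Nat.card W * Nat.card D ≤ Nat.card A → ∀ w ∈ W, ∃ e ∈ A, ⁅e, b⁆ = w) := by
  let f : A →* W := MonoidHom.mk' (fun e => ⟨⁅(e : R), b⁆, h e e.2⟩) fun x y => Subtype.ext (by
    show ⁅(x : R) * y, b⁆ = ⁅(x : R), b⁆ * ⁅(y : R), b⁆
    rw [commutator_mul_left_eq (show Commute (x : R) ⁅(y : R), b⁆ from hWA (h y y.2) x x.2)]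
    exact hW _ (h y y.2) _ (h x x.2))
  have hk : Nat.card f.ker ≤ Nat.card D := Nat.card_le_card_of_injective
    (fun x : f.ker => (⟨((x : A) : R), hD ⟨(x : A).2, fun y hy => by
      have hx : f x = 1 := x.2
      have := congrArg Subtype.val hx
      rw [Set.mem_singleton_iff.mp hy]
      exact (commutatorElement_eq_one_iff_mul_comm.mp this).symm⟩⟩ : D))
    (fun x y hxy => Subtype.ext (Subtype.ext (congrArg (fun t : D => (t : R)) hxy)))
  have hA : Nat.card A = Nat.card f.range * Nat.card f.ker := by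
    rw [← index_ker, mul_comm]
    exact (card_mul_index f.ker).symm
  refine ⟨hA ▸ Nat.mul_le_mul (card_le_card_group f.range) hk, fun hle w hw => ?_⟩
  have hr : Nat.card f.range = Nat.card W := by
    refine le_antisymm (card_le_card_group f.range) ?_
    refine Nat.le_of_mul_le_mul_right ?_ (Nat.card_pos (α := D))
    exact hle.trans (hA.le.trans (Nat.mul_le_mul_left _ hk))
  obtain ⟨e, he⟩ := (f.range.eq_top_of_card_eq hr).ge (mem_top (⟨w, hw⟩ : W))
  exact ⟨e, e.2, congrArg Subtype.val he⟩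

theorem commute_of_elementary {A : Subgroup R} (hA : Cfsg.IsElementaryAbelian p A) {x y : R}
    (hx : x ∈ A) (hy : y ∈ A) : Commute x y :=
  haveI := hA.1
  setLike_mul_comm hx hy

variable [Finite R] [hp : Fact p.Prime]

/-- A normal step of index `p` in a `p`-group is central. -/
theorem commutator_mem_of_index (hR : IsPGroup p R) {W B : Subgroup R} [W.Normal] [B.Normal]
    (hWB : W ≤ B) (hc : Nat.card B = Nat.card W * p) {g b : R} (hb : b ∈ B) : ⁅g, b⁆ ∈ W := by
  haveI : (B.map (QuotientGroup.mk' W)).Normal :=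
    (inferInstance : B.Normal).map _ (QuotientGroup.mk'_surjective W)
  have hcard : Nat.card (B.map (QuotientGroup.mk' W)) = p := by
    have h1 : W.relIndex B = Nat.card (B.map (QuotientGroup.mk' W)) := by
      rw [← relIndex_bot_left, ← Subgroup.map_bot (QuotientGroup.mk' W), relIndex_map_map,
        QuotientGroup.ker_mk', bot_sup_eq, sup_eq_left.mpr hWB]
    have h2 := relIndex_mul_relIndex ⊥ W B bot_le hWB
    rw [relIndex_bot_left, relIndex_bot_left, hc, h1] at h2
    exact Nat.eq_of_mul_eq_mul_left (Nat.card_pos (α := W)) h2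
  have h := CfsgLib.OddOrder.BG4.le_center_of_normal_card_prime (hR.to_quotient W) hcard
    (mem_map_of_mem _ hb)
  rw [← QuotientGroup.eq_one_iff, ← QuotientGroup.mk'_apply, map_commutatorElement,
    commutatorElement_eq_one_iff_mul_comm]
  exact mem_center_iff.mp h _

theorem card_le_inf_centralizer_mul (A : Subgroup R) {V : Subgroup R}
    (h : (centralizer (V : Set R)).index ≤ p) :
    Nat.card A ≤ Nat.card ↥(A ⊓ centralizer (V : Set R)) * p := by
  have hrel : (centralizer (V : Set R)).relIndex A ≤ p :=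
    ((relIndex_le_of_le_right le_top (by simpa using index_ne_zero_of_finite)).trans_eq
      (relIndex_top_right _)).trans h
  have := relIndex_mul_relIndex ⊥ (A ⊓ centralizer (V : Set R)) A bot_le inf_le_left
  rw [relIndex_bot_left, relIndex_bot_left, inf_relIndex_left] at this
  rw [← this]
  exact Nat.mul_le_mul_left _ hrel

/-- How an elementary abelian subgroup of order `p⁴` acts on a normal series `W < B`. -/
theorem action_facts (hR : IsPGroup p R) {W B : Subgroup R} [W.Normal] [B.Normal]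
    (hWB : W ≤ B) (hW : Nat.card W = p ^ 2) (hB : Cfsg.IsElementaryAbelian p B)
    (hB3 : Nat.card B = p ^ 3)
    (hΩ : ∀ x ∈ centralizer (B : Set R), x ^ p = 1 → x ∈ B)
    {A : Subgroup R} (hA : Cfsg.IsElementaryAbelian p A) (hA4 : Nat.card A = p ^ 4) :
    A ≤ centralizer (W : Set R) ∧ W ≤ A ∧
      ∀ b ∈ B, b ∉ W → ∀ w ∈ W, ∃ e ∈ A, ⁅e, b⁆ = w := by
  have hcommB : ∀ x ∈ B, ∀ y ∈ B, Commute x y := fun x hx y hy =>
    commute_of_elementary hB hx hy
  have hcommA : ∀ x ∈ A, ∀ y ∈ A, Commute x y := fun x hx y hy =>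
    commute_of_elementary hA hx hy
  have hp2 : p ^ 2 < p ^ 3 := Nat.pow_lt_pow_right hp.out.one_lt (by norm_num)
  have hgen : ∀ b ∈ B, b ∉ W → W ⊔ zpowers b = B := by
    intro b hb hbW
    refine eq_of_le_of_card_ge (sup_le hWB (zpowers_le.2 hb)) ?_
    have hlt : W < W ⊔ zpowers b :=
      lt_of_le_of_ne le_sup_left fun h => hbW (h ▸ (le_sup_right : zpowers b ≤ _) (mem_zpowers b))
    obtain ⟨k, hk⟩ := IsPGroup.iff_card.1 (hR.to_subgroup (W ⊔ zpowers b))
    have h1 : Nat.card W < Nat.card ↥(W ⊔ zpowers b) :=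
      Set.ncard_lt_ncard (SetLike.coe_ssubset_coe.mpr hlt) (Set.toFinite _)
    rw [hW, hk] at h1
    rw [hB3, hk]
    exact Nat.pow_le_pow_right hp.out.pos ((Nat.pow_lt_pow_iff_right hp.out.one_lt).1 h1)
  have hker : ∀ b ∈ B, b ∉ W →
      (A ⊓ centralizer (W : Set R)) ⊓ centralizer {b} ≤ A ⊓ B := by
    intro b hb hbW x hx
    refine ⟨hx.1.1, hΩ x ?_ (hA.2 x hx.1.1)⟩
    have : B ≤ centralizer {x} := by
      rw [← hgen b hb hbW, sup_le_iff, zpowers_le]
      refine ⟨fun w hw y hy => ?_, fun y hy => ?_⟩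
      · rw [Set.mem_singleton_iff.1 hy]; exact (hx.1.2 w hw).symm
      · rw [Set.mem_singleton_iff.1 hy]; exact (hx.2 b rfl).symm
    exact fun y hy => (this hy x rfl).symm
  obtain ⟨b, hb, hbW⟩ : ∃ b ∈ B, b ∉ W := SetLike.not_le_iff_exists.1 fun h => by
    have := card_le_of_le h
    omega
  set A1 := A ⊓ centralizer (W : Set R)
  have hWA1 : W ≤ centralizer (A1 : Set R) := le_centralizer_iff.1 inf_le_right
  have hWc : ∀ u ∈ W, ∀ v ∈ W, Commute u v := fun u hu v hv => hcommB u (hWB hu) v (hWB hv)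
  have hbW' : ∀ g : R, ∀ x ∈ B, ⁅g, x⁆ ∈ W := fun g x hx =>
    commutator_mem_of_index hR hWB (by rw [hB3, hW, pow_succ]) hx
  obtain ⟨hcount, hsurj⟩ := card_le_of_commutator (D := A ⊓ B) hWA1 hWc
    (fun e _ => hbW' e b hb) (hker b hb hbW)
  rw [hW] at hcount hsurj
  have hEB : A ⊓ B ≠ B := by
    intro h
    have hBA : B ≤ A := inf_eq_right.1 h
    have hAB : A ≤ B := fun x hx => hΩ x (fun y hy => hcommA y (hBA hy) x hx) (hA.2 x hx)
    have := card_le_of_le hAB
    rw [hA4, hB3, Nat.pow_le_pow_iff_right hp.out.one_lt] at this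
    omega
  obtain ⟨k, hk⟩ := IsPGroup.iff_card.1 (hR.to_subgroup (A ⊓ B))
  have hk2 : k ≤ 2 := by
    have h1 : Nat.card ↥(A ⊓ B) < Nat.card B := Set.ncard_lt_ncard
      (SetLike.coe_ssubset_coe.mpr (lt_of_le_of_ne inf_le_right hEB)) (Set.toFinite _)
    rw [hk, hB3, Nat.pow_lt_pow_iff_right hp.out.one_lt] at h1
    omega
  by_cases hAW : A ≤ centralizer (W : Set R)
  · have hA1 : A1 = A := inf_eq_left.2 hAW
    rw [hA1] at hcount hsurj
    rw [hA4, hk, ← pow_add, Nat.pow_le_pow_iff_right hp.out.one_lt] at hcount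
    have hE : Nat.card ↥(A ⊓ B) = p ^ 2 := by rw [hk, show k = 2 by omega]
    refine ⟨hAW, ?_, fun c hc hcW => ?_⟩
    · by_contra hnot
      obtain ⟨d, hd, hdW⟩ : ∃ d ∈ A ⊓ B, d ∉ W := SetLike.not_le_iff_exists.1 fun h =>
        hnot ((eq_of_le_of_card_ge h (by rw [hE, hW])) ▸ inf_le_left)
      have hle : A ≤ centralizer (B : Set R) := by
        rw [← hgen d hd.2 hdW, le_centralizer_iff, sup_le_iff, zpowers_le]
        exact ⟨le_centralizer_iff.1 hAW, fun y hy => hcommA y hy d hd.1⟩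
      have h1 : A ≤ B := fun x hx => hΩ x (hle hx) (hA.2 x hx)
      have := card_le_of_le h1
      rw [hA4, hB3, Nat.pow_le_pow_iff_right hp.out.one_lt] at this
      omega
    · obtain ⟨-, h⟩ := card_le_of_commutator (D := A ⊓ B) (hA1 ▸ hWA1) hWc
        (fun e _ => hbW' e c hc) (hA1 ▸ hker c hc hcW)
      exact h (by rw [hW, hE, hA4, ← pow_add])
  exfalso
  have hk1 : k ≤ 1 := by
    by_contra hk1
    have hE : Nat.card ↥(A ⊓ B) = p ^ 2 := by rw [hk, show k = 2 by omega]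
    -- `A` fixes `A ⊓ B`, so the commutators of `W` lie in the part fixed by `A`
    have hW0 : ¬ A ⊓ B ≤ W := fun h =>
      hAW fun a ha w hw => hcommA w
        (((eq_of_le_of_card_ge h (by rw [hE, hW])).ge hw).1) a ha
    obtain ⟨d, hd, hdW⟩ := SetLike.not_le_iff_exists.1 hW0
    obtain ⟨Z, hZn, hZW, hZ⟩ := CfsgLib.OddOrder.BG4.exists_normal_card_le hR W 1
      (hW ▸ Nat.pow_le_pow_right hp.out.pos (by norm_num))
    haveI := hZn
    rw [pow_one] at hZ
    have hZc := CfsgLib.OddOrder.BG4.le_center_of_normal_card_prime hR hZ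
    obtain ⟨w, hw, hwE⟩ := SetLike.not_le_iff_exists.1 fun h : W ≤ A ⊓ B =>
      hW0 (eq_of_le_of_card_ge h (by rw [hE, hW])).ge
    have hB' : A ⊓ B ⊔ zpowers w = B := by
      refine eq_of_le_of_card_ge (sup_le inf_le_right (zpowers_le.2 (hWB hw))) ?_
      have hlt : A ⊓ B < A ⊓ B ⊔ zpowers w := lt_of_le_of_ne le_sup_left fun h =>
        hwE (h ▸ (le_sup_right : zpowers w ≤ _) (mem_zpowers w))
      obtain ⟨j, hj⟩ := IsPGroup.iff_card.1 (hR.to_subgroup (A ⊓ B ⊔ zpowers w))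
      have h1 : Nat.card ↥(A ⊓ B) < Nat.card ↥(A ⊓ B ⊔ zpowers w) :=
        Set.ncard_lt_ncard (SetLike.coe_ssubset_coe.mpr hlt) (Set.toFinite _)
      rw [hE, hj] at h1
      rw [hB3, hj]
      exact Nat.pow_le_pow_right hp.out.pos ((Nat.pow_lt_pow_iff_right hp.out.one_lt).1 h1)
    obtain ⟨hc, -⟩ := card_le_of_commutator (A := A) (b := w) (D := A ⊓ B)
      (fun z hz a _ => mem_center_iff.1 (hZc hz) a) (fun u hu v hv => hWc u (hZW hu) v (hZW hv))
      (fun e _ => commutator_mem_of_index hR hZW (by rw [hW, hZ, sq]) hw) (fun x hx => by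
        refine ⟨hx.1, hΩ x (fun y hy => ?_) (hA.2 x hx.1)⟩
        have : B ≤ centralizer {x} := by
          rw [← hB', sup_le_iff, zpowers_le]
          refine ⟨fun v hv z hz => ?_, fun z hz => ?_⟩
          · rw [Set.mem_singleton_iff.1 hz]; exact hcommA x hx.1 v hv.1
          · rw [Set.mem_singleton_iff.1 hz]; exact (hx.2 w rfl).symm
        exact (this hy x rfl).symm)
    rw [hA4, hZ, hE, ← pow_succ', Nat.pow_le_pow_iff_right hp.out.one_lt] at hc
    omega
  have hA1card : Nat.card A ≤ Nat.card A1 * p := card_le_inf_centralizer_mul A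
    (CfsgLib.OddOrder.BG4.index_centralizer_le hR (fun v hv => hB.2 v (hWB hv)) hW.le)
  rw [hA4, show p ^ 4 = p ^ 3 * p by ring] at hA1card
  replace hA1card := Nat.le_of_mul_le_mul_right hA1card hp.out.pos
  have hWD : p ^ 2 * Nat.card ↥(A ⊓ B) ≤ p ^ 3 := by
    rw [hk, ← pow_add]
    exact Nat.pow_le_pow_right hp.out.pos (by omega)
  obtain ⟨e, he, hne⟩ := SetLike.not_le_iff_exists.1 hAW
  refine hne fun u hu => ?_
  obtain ⟨e', he', he'u⟩ := hsurj (hWD.trans hA1card) u hu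
  have h1 : e * e' = e' * e := hcommA e he e' he'.1
  have h2 : ⁅e', b⁆ * e = e * ⁅e', b⁆ := by
    set w := ⁅e, b⁆ with hw
    have hwe' : Commute e' w := (he'.2 w (hbW' e b hb)).symm
    have hl : ⁅e' * e, b⁆ = w * ⁅e', b⁆ := commutator_mul_left_eq hwe'
    have hr : ⁅e * e', b⁆ = e * ⁅e', b⁆ * e⁻¹ * w := by
      rw [hw]; simp only [commutatorElement_def]; group
    rw [h1, hl, hWc w (hbW' e b hb) _ (hbW' e' b hb)] at hr
    calc ⁅e', b⁆ * e = e * ⁅e', b⁆ * e⁻¹ * e := by rw [← mul_right_cancel hr]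
      _ = e * ⁅e', b⁆ := inv_mul_cancel_right _ _
  rwa [he'u] at h2

/-- Two elementary abelian subgroups of order `p⁴` normalizing each other coincide, in the absence
of a larger normal elementary abelian subgroup. -/
theorem eq_of_mutual (hp2 : p ≠ 2) (hR : IsPGroup p R) {W B : Subgroup R} [W.Normal] [B.Normal]
    (hWB : W ≤ B) (hW : Nat.card W = p ^ 2) (hB : Cfsg.IsElementaryAbelian p B)
    (hB3 : Nat.card B = p ^ 3)
    (hΩ : ∀ x ∈ centralizer (B : Set R), x ^ p = 1 → x ∈ B)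
    {A A' : Subgroup R} (hA : Cfsg.IsElementaryAbelian p A) (hA4 : Nat.card A = p ^ 4)
    (hA' : Cfsg.IsElementaryAbelian p A') (hA'4 : Nat.card A' = p ^ 4)
    (hn : A ≤ normalizer (A' : Set R)) (hn' : A' ≤ normalizer (A : Set R)) : A = A' := by
  obtain ⟨hAW, hWA, hs⟩ := action_facts hR hWB hW hB hB3 hΩ hA hA4
  obtain ⟨hA'W, hWA', hs'⟩ := action_facts hR hWB hW hB hB3 hΩ hA' hA'4
  have hc1 : ∀ {X : Subgroup R}, Cfsg.IsElementaryAbelian p X → ∀ x ∈ X, ∀ y ∈ X, Commute x y :=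
    fun hX x hx y hy => commute_of_elementary hX hx hy
  have hexp : ∀ a ∈ A, ∀ a' ∈ A', (a * a') ^ p = 1 := by
    intro a ha a' ha'
    set L := A ⊔ A'
    have hmem : ⁅a', a⁆ ∈ A ⊓ A' := by
      constructor
      · rw [commutatorElement_def]
        exact A.mul_mem ((mem_normalizer_iff.1 (hn' ha') a).1 ha) (A.inv_mem ha)
      · rw [commutatorElement_def, mul_assoc, mul_assoc, ← mul_assoc a]
        exact A'.mul_mem ha' ((mem_normalizer_iff.1 (hn ha) _).1 (A'.inv_mem ha'))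
    have hL : L ≤ centralizer {⁅a', a⁆} := by
      refine sup_le (fun x hx y hy => ?_) fun x hx y hy => ?_
      · rw [Set.mem_singleton_iff.1 hy]; exact hc1 hA _ hmem.1 x hx
      · rw [Set.mem_singleton_iff.1 hy]; exact hc1 hA' _ hmem.2 x hx
    have := CfsgLib.OddOrder.BG4.mul_pow_eq_one (R := L) hp2
      (x := ⟨a, le_sup_left (b := A') ha⟩) (y := ⟨a', le_sup_right (a := A) ha'⟩)
      (fun z => Subtype.ext (hL z.2 _ rfl)) (Subtype.ext (hA.2 a ha)) (Subtype.ext (hA'.2 a' ha'))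
    exact congrArg Subtype.val this
  have hcommB : ∀ x ∈ B, ∀ y ∈ B, Commute x y := hc1 hB
  obtain ⟨b₀, hb₀, hb₀W⟩ : ∃ b ∈ B, b ∉ W := SetLike.not_le_iff_exists.1 fun h => by
    have := card_le_of_le h
    rw [hW, hB3, Nat.pow_le_pow_iff_right hp.out.one_lt] at this
    omega
  have hgen : W ⊔ zpowers b₀ = B := by
    refine eq_of_le_of_card_ge (sup_le hWB (zpowers_le.2 hb₀)) ?_
    have hlt : W < W ⊔ zpowers b₀ :=
      lt_of_le_of_ne le_sup_left fun h => hb₀W (h ▸ (le_sup_right : zpowers b₀ ≤ _) (mem_zpowers b₀))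
    obtain ⟨k, hk⟩ := IsPGroup.iff_card.1 (hR.to_subgroup (W ⊔ zpowers b₀))
    have h1 : Nat.card W < Nat.card ↥(W ⊔ zpowers b₀) :=
      Set.ncard_lt_ncard (SetLike.coe_ssubset_coe.mpr hlt) (Set.toFinite _)
    rw [hW, hk] at h1
    rw [hB3, hk]
    exact Nat.pow_le_pow_right hp.out.pos ((Nat.pow_lt_pow_iff_right hp.out.one_lt).1 h1)
  have hcW : ∀ g : R, ∀ x ∈ B, ⁅g, x⁆ ∈ W := fun g x hx =>
    commutator_mem_of_index hR hWB (by rw [hB3, hW, pow_succ]) hx
  -- an element of exponent `p` moving `b₀` as `a` does differs from `a` by an element of `B`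
  have hsplit : ∀ a ∈ A, ∀ a' ∈ A', ⁅a, b₀⁆ = ⁅a', b₀⁆ → a⁻¹ * a' ∈ B := by
    intro a ha a' ha' heq
    refine hΩ _ ?_ (hexp a⁻¹ (A.inv_mem ha) a' ha')
    have hx : a⁻¹ * a' ∈ centralizer (W : Set R) := mul_mem (inv_mem (hAW ha)) (hA'W ha')
    rw [← zpowers_le, le_centralizer_iff, ← hgen, sup_le_iff, zpowers_le]
    refine ⟨le_centralizer_iff.1 (zpowers_le.2 hx), ?_⟩
    have h0 : (a⁻¹ * a') * b₀ = b₀ * (a⁻¹ * a') := by
      rw [commutatorElement_def, commutatorElement_def] at heq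
      have h3 : a * b₀ * a⁻¹ = a' * b₀ * a'⁻¹ := mul_right_cancel heq
      calc a⁻¹ * a' * b₀ = a⁻¹ * (a' * b₀ * a'⁻¹) * a' := by group
        _ = a⁻¹ * (a * b₀ * a⁻¹) * a' := by rw [h3]
        _ = b₀ * (a⁻¹ * a') := by group
    exact mem_centralizer_iff.2 fun y hy => by
      obtain ⟨n, rfl⟩ := mem_zpowers_iff.1 hy
      exact (Commute.zpow_left (show Commute (a⁻¹ * a') b₀ from h0) n).eq
  have hswap : ∀ a : R, ∀ e : R, ∀ x ∈ B, ∀ c ∈ B, a ∈ centralizer (W : Set R) →
      e ∈ centralizer (W : Set R) → a * e = e * a →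
      Commute (a * x) (e * c) → ⁅e, x⁆ = ⁅a, c⁆ := by
    intro a e x hx c hc ha he hae hcomm
    have e1 : e * x = ⁅e, x⁆ * x * e := by rw [commutatorElement_def]; group
    have e2 : a * c = ⁅a, c⁆ * c * a := by rw [commutatorElement_def]; group
    set u := ⁅e, x⁆
    set v := ⁅a, c⁆
    have hu : u ∈ W := hcW e x hx
    have hv : v ∈ W := hcW a c hc
    have hxe : x * e = u⁻¹ * (e * x) := by rw [e1]; group
    have hca : c * a = v⁻¹ * (a * c) := by rw [e2]; group
    have h := hcomm.eq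
    rw [show a * x * (e * c) = a * (x * e) * c by group, hxe,
      show e * c * (a * x) = e * (c * a) * x by group, hca] at h
    have hu' : a * u⁻¹ = u⁻¹ * a := (ha u⁻¹ (W.inv_mem hu)).symm
    have hv' : e * v⁻¹ = v⁻¹ * e := (he v⁻¹ (W.inv_mem hv)).symm
    simp only [← mul_assoc] at h
    rw [hu', hv'] at h
    simp only [mul_assoc] at h
    rw [hcommB x hx c hc, ← mul_assoc a e, hae, mul_assoc] at h
    simpa using mul_right_cancel h
  symm
  refine eq_of_le_of_card_ge (fun a' ha' => ?_) (by rw [hA4, hA'4])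
  obtain ⟨a, ha, hab⟩ := hs b₀ hb₀ hb₀W _ (hcW a' b₀ hb₀)
  set x := a⁻¹ * a' with hxdef
  have hx : x ∈ B := hsplit a ha a' ha' hab
  have ha'x : a' = a * x := by rw [hxdef]; group
  by_cases hxW : x ∈ W
  · exact ha'x ▸ A.mul_mem ha (hWA hxW)
  exfalso
  have hsub : W ≤ zpowers ⁅a, b₀⁆ := by
    intro w hw
    obtain ⟨e, he, rfl⟩ := hs x hx hxW w hw
    obtain ⟨e', he', hee⟩ := hs' b₀ hb₀ hb₀W _ (hcW e b₀ hb₀)
    have hc : e⁻¹ * e' ∈ B := hsplit e he e' he' hee.symm
    have hcomm : Commute (a * x) (e * (e⁻¹ * e')) := by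
      rw [← ha'x, mul_inv_cancel_left]; exact hc1 hA' a' ha' e' he'
    rw [hswap a e x hx _ hc (hAW ha) (hAW he) (hc1 hA a ha e he) hcomm]
    obtain ⟨w₁, hw₁, y, hy, hwy⟩ := mem_sup_of_normal_left.1 (hgen.ge hc)
    obtain ⟨n, rfl⟩ := mem_zpowers_iff.1 hy
    refine mem_zpowers_iff.2 ⟨n, ?_⟩
    rw [← hwy]
    -- conjugation by `a` is multiplicative
    have hconj : a * b₀ ^ n * a⁻¹ = (⁅a, b₀⁆ * b₀) ^ n := by
      rw [show ⁅a, b₀⁆ * b₀ = a * b₀ * a⁻¹ by rw [commutatorElement_def]; group, conj_zpow]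
    rw [(hcommB _ (hWB (hcW a b₀ hb₀)) _ hb₀).mul_zpow] at hconj
    symm
    calc ⁅a, w₁ * b₀ ^ n⁆ = (a * w₁) * b₀ ^ n * a⁻¹ * (b₀ ^ n)⁻¹ * w₁⁻¹ := by
          rw [commutatorElement_def]; group
      _ = w₁ * (a * b₀ ^ n * a⁻¹) * (b₀ ^ n)⁻¹ * w₁⁻¹ := by
          rw [← (hAW ha w₁ hw₁)]; group
      _ = w₁ * ⁅a, b₀⁆ ^ n * w₁⁻¹ := by rw [hconj]; group
      _ = ⁅a, b₀⁆ ^ n := by
          rw [(hcommB _ (hWB hw₁) _ (B.zpow_mem (hWB (hcW a b₀ hb₀)) n)).eq, mul_inv_cancel_right]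
  have h1 := card_le_of_le hsub
  rw [hW, Nat.card_zpowers] at h1
  have h2 : orderOf ⁅a, b₀⁆ ≤ p :=
    Nat.le_of_dvd hp.out.pos (orderOf_dvd_of_pow_eq_one (hB.2 _ (hWB (hcW a b₀ hb₀))))
  have h3 : p < p ^ 2 := by
    calc p = p ^ 1 := (pow_one p).symm
      _ < p ^ 2 := Nat.pow_lt_pow_right hp.out.one_lt (by norm_num)
  omega

/-- **Rank four**: for odd `p`, an elementary abelian subgroup of order `p⁴` forces a normal one. -/
theorem exists_normal_elem_card_four (hp2 : p ≠ 2) (hR : IsPGroup p R) {E : Subgroup R}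
    (hE : Cfsg.IsElementaryAbelian p E) (hE4 : Nat.card E = p ^ 4) :
    ∃ A : Subgroup R, A.Normal ∧ Cfsg.IsElementaryAbelian p A ∧ Nat.card A = p ^ 4 := by
  suffices key : ∀ (n : ℕ) (R : Type u) [Group R] [Finite R], Nat.card R = n → IsPGroup p R →
      ∀ E : Subgroup R, Cfsg.IsElementaryAbelian p E → Nat.card E = p ^ 4 →
        ∃ A : Subgroup R, A.Normal ∧ Cfsg.IsElementaryAbelian p A ∧ Nat.card A = p ^ 4 from
    key _ R rfl hR E hE hE4
  intro n
  induction n using Nat.strong_induction_on with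
  | h n ih =>
    intro R _ _ hn hR E hE hE4
    subst hn
    rcases eq_top_or_exists_le_coatom E with rfl | ⟨M, hM, hEM⟩
    · exact ⟨⊤, inferInstance, hE, hE4⟩
    haveI := hR.isNilpotent
    haveI hMn : M.Normal := NormalizerCondition.normal_of_coatom _
      Group.normalizerCondition_of_isNilpotent hM
    have hlt : Nat.card M < Nat.card R :=
      Set.ncard_univ R ▸ Set.ncard_lt_ncard ((Set.ssubset_univ_iff).2 fun h =>
        hM.1 (SetLike.coe_injective (h.trans Subgroup.coe_top.symm))) (Set.toFinite _)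
    have hEM' : Nat.card (E.subgroupOf M) = p ^ 4 := by
      rw [Nat.card_congr (subgroupOfEquivOfLe hEM).toEquiv, hE4]
    obtain ⟨A₀, hA₀n, hA₀, hA₀4⟩ := ih _ hlt M rfl (hR.to_subgroup M) (E.subgroupOf M)
      ⟨⟨⟨fun x y => Subtype.ext (Subtype.ext (commute_of_elementary hE x.2 y.2))⟩⟩,
        fun x hx => Subtype.ext (hE.2 _ hx)⟩ hEM'
    set A := A₀.map M.subtype with hAdef
    have hA : Cfsg.IsElementaryAbelian p A := by
      refine ⟨⟨⟨?_⟩⟩, ?_⟩
      · rintro ⟨_, x, hx, rfl⟩ ⟨_, y, hy, rfl⟩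
        exact Subtype.ext (congrArg (Subtype.val (p := fun z => z ∈ M))
          (commute_of_elementary hA₀ hx hy))
      · rintro _ ⟨x, hx, rfl⟩
        exact congrArg Subtype.val (hA₀.2 x hx)
    have hA4 : Nat.card A = p ^ 4 := by
      rw [hAdef, Nat.card_congr (equivMapOfInjective A₀ _ M.subtype_injective).symm.toEquiv, hA₀4]
    have hMA : M ≤ normalizer (A : Set R) := by
      have := le_normalizer_map (H := A₀) M.subtype
      rw [normalizer_eq_top, ← MonoidHom.range_eq_map, range_subtype] at this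
      exact this
    have hAM : A ≤ M := map_subtype_le _
    obtain ⟨B, -, hBn, hB, hmax⟩ := CfsgLib.OddOrder.BG4.exists_maximalNormalElem (R := R)
      (B₀ := ⊥) (CfsgLib.OddOrder.BG4.isElementaryAbelian_bot (p := p))
    haveI := hBn
    by_cases h4 : p ^ 4 ≤ Nat.card B
    · obtain ⟨C, hC, hCB, hcard⟩ := CfsgLib.OddOrder.BG4.exists_normal_card_le hR B 4 h4
      exact ⟨C, hC, ⟨⟨⟨fun a b => Subtype.ext
        (commute_of_elementary hB (hCB a.2) (hCB b.2))⟩⟩,
        fun a ha => hB.2 a (hCB ha)⟩, hcard⟩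
    have hΩ : ∀ x ∈ centralizer (B : Set R), x ^ p = 1 → x ∈ B := fun x hx hxp =>
      CfsgLib.OddOrder.BG4.mem_of_commute_maximalNormalElem hp2 hR hB hmax hx hxp
    obtain ⟨m, hm⟩ := CfsgLib.OddOrder.BG4.card_elementary_eq_pow (A := B) hB.2
    have hm3 : m ≤ 3 := by
      rw [hm, Nat.pow_le_pow_iff_right hp.out.one_lt] at h4
      omega
    have hB3 : Nat.card B = p ^ 3 := by
      rw [hm]
      by_contra hne
      have hm2 : m ≤ 2 := by
        rcases (by omega : m ≤ 2 ∨ m = 3) with h | h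
        · exact h
        · exact absurd (by rw [h]) hne
      have h1 := card_le_inf_centralizer_mul A (CfsgLib.OddOrder.BG4.index_centralizer_le hR hB.2
        (hm ▸ Nat.pow_le_pow_right hp.out.pos hm2))
      have h2 : Nat.card ↥(A ⊓ centralizer (B : Set R)) ≤ p ^ 2 :=
        (card_le_of_le (K := B) fun x (hx : x ∈ A ⊓ centralizer (B : Set R)) => hΩ x hx.2 (hA.2 x hx.1)).trans
          (hm ▸ Nat.pow_le_pow_right hp.out.pos hm2)
      have h3 := h1.trans (Nat.mul_le_mul_right p h2)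
      rw [hA4, ← pow_succ, Nat.pow_le_pow_iff_right hp.out.one_lt] at h3
      omega
    obtain ⟨W, hWn, hWB, hW⟩ := CfsgLib.OddOrder.BG4.exists_normal_card_le hR B 2
      (hB3 ▸ Nat.pow_le_pow_right hp.out.pos (by norm_num))
    haveI := hWn
    refine ⟨A, normalizer_eq_top_iff.1 (top_unique fun g _ => ?_), hA, hA4⟩
    set A' := A.map (MulAut.conj g).toMonoidHom with hA'def
    have hA'M : A' ≤ M := by
      rintro _ ⟨x, hx, rfl⟩
      exact hMn.conj_mem x (hAM hx) g
    have hMA' : M ≤ normalizer (A' : Set R) := by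
      refine fun x hx => ?_
      have h1 : g⁻¹ * x * g ∈ normalizer (A : Set R) := hMA (by simpa using hMn.conj_mem x hx g⁻¹)
      have h2 := le_normalizer_map (H := A) (MulAut.conj g).toMonoidHom ⟨_, h1, rfl⟩
      have h3 : (MulAut.conj g).toMonoidHom (g⁻¹ * x * g) = x := by simp [mul_assoc]
      rwa [h3] at h2
    have hA' : Cfsg.IsElementaryAbelian p A' := by
      refine ⟨⟨⟨?_⟩⟩, ?_⟩
      · rintro ⟨_, x, hx, rfl⟩ ⟨_, y, hy, rfl⟩
        exact Subtype.ext (show MulAut.conj g x * MulAut.conj g y =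
          MulAut.conj g y * MulAut.conj g x by
          rw [← map_mul, commute_of_elementary hA hx hy, map_mul])
      · rintro _ ⟨x, hx, rfl⟩
        rw [← map_pow, hA.2 x hx, map_one]
    have hA'4 : Nat.card A' = p ^ 4 := by
      rw [hA'def, Nat.card_congr (equivMapOfInjective A _ (MulAut.conj g).injective).symm.toEquiv,
        hA4]
    have heq := eq_of_mutual hp2 hR hWB hW hB hB3 hΩ hA hA4 hA' hA'4
      (hAM.trans hMA') (hA'M.trans hMA)
    refine mem_normalizer_iff.2 fun x => ⟨fun hx => ?_, fun hx => ?_⟩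
    · rw [heq]; exact ⟨x, hx, by simp⟩
    · rw [heq] at hx
      obtain ⟨y, hy, hyx⟩ := hx
      have : y = x := by simpa using hyx
      exact this ▸ hy

end CfsgLib.Transfer.RankFour
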