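import Mathlib.GroupTheory.Commutator.Basic
import Mathlib.GroupTheory.PGroup
import Mathlib.GroupTheory.Abelianization.Defs
import Mathlib.Data.Nat.Choose.Dvd
import Mathlib.Tactic

/-!
# The power formula in class at most three

`(x * y) ^ k = x ^ k * y ^ k * c ^ C(k,2) * d ^ C(k,3) * e ^ (C(k,2) + 2 C(k,3))` with
`y x = x y c`, `c x = x c d`, `c y = y c e` and `d`, `e` central; consequences for `Ω₁`.
-/

namespace CfsgLib.Transfer.SmallClass

open Subgroup
open scoped commutatorElement

variable {R : Type*} [Group R] {x y c d e : R}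

theorem mul_pow_swap (hd : ∀ z, Commute d z) (h : c * x = x * c * d) (m : ℕ) :
    c ^ m * x = x * c ^ m * d ^ m := by
  induction m with
  | zero => simp
  | succ m ih =>
    calc c ^ (m + 1) * x = c ^ m * (c * x) := by rw [pow_succ, mul_assoc]
      _ = (c ^ m * x) * (c * d) := by rw [h]; group
      _ = x * c ^ m * (d ^ m * c) * d := by rw [ih]; group
      _ = x * c ^ m * (c * d ^ m) * d := by rw [((hd c).pow_left m).eq]
      _ = x * c ^ (m + 1) * d ^ (m + 1) := by rw [pow_succ c, pow_succ d]; group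

theorem pow_mul_swap (he : ∀ z, Commute e z) (hc : y * x = x * y * c) (h : c * y = y * c * e)
    (k : ℕ) : y ^ k * x = x * y ^ k * c ^ k * e ^ k.choose 2 := by
  induction k with
  | zero => simp
  | succ k ih =>
    have hy : c * y ^ k = y ^ k * c * e ^ k := by
      clear ih
      induction k with
      | zero => simp
      | succ k ih =>
        calc c * y ^ (k + 1) = (c * y ^ k) * y := by rw [pow_succ, mul_assoc]
          _ = y ^ k * c * (e ^ k * y) := by rw [ih]; group
          _ = y ^ k * c * (y * e ^ k) := by rw [((he y).pow_left k).eq]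
          _ = y ^ k * (c * y) * e ^ k := by group
          _ = y ^ (k + 1) * c * e ^ (k + 1) := by rw [h, pow_succ y, pow_succ' e]; group
    calc y ^ (k + 1) * x = y * (y ^ k * x) := by rw [pow_succ', mul_assoc]
      _ = (y * x) * y ^ k * c ^ k * e ^ k.choose 2 := by rw [ih]; group
      _ = x * y * (c * y ^ k) * c ^ k * e ^ k.choose 2 := by rw [hc]; group
      _ = x * (y * y ^ k) * c * (e ^ k * c ^ k) * e ^ k.choose 2 := by rw [hy]; group
      _ = x * y ^ (k + 1) * c * (c ^ k * e ^ k) * e ^ k.choose 2 := by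
          rw [← pow_succ' y, ((he (c ^ k)).pow_left k).eq]
      _ = x * y ^ (k + 1) * (c * c ^ k) * (e ^ k * e ^ k.choose 2) := by group
      _ = x * y ^ (k + 1) * c ^ (k + 1) * e ^ (k + 1).choose 2 := by
          rw [← pow_succ', ← pow_add, Nat.choose_succ_succ', Nat.choose_one_right]

theorem mul_pow_formula (hd : ∀ z, Commute d z) (he : ∀ z, Commute e z)
    (hc : y * x = x * y * c) (hcx : c * x = x * c * d) (hcy : c * y = y * c * e) (k : ℕ) :
    (x * y) ^ k = x ^ k * y ^ k * c ^ k.choose 2 * d ^ k.choose 3 *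
      e ^ (k.choose 2 + 2 * k.choose 3) := by
  induction k with
  | zero => simp
  | succ k ih =>
    set A := k.choose 2
    set B := k.choose 3
    set F := A + 2 * B with hF
    have hcc : Commute (d ^ B * e ^ F) (x * y) :=
      (((hd _).pow_left _).mul_left ((he _).pow_left _))
    calc (x * y) ^ (k + 1) = x ^ k * y ^ k * c ^ A * ((d ^ B * e ^ F) * (x * y)) := by
          rw [pow_succ, ih]; group
      _ = x ^ k * y ^ k * (c ^ A * x) * y * (d ^ B * e ^ F) := by rw [hcc.eq]; group
      _ = x ^ k * (y ^ k * x) * c ^ A * (d ^ A * y) * (d ^ B * e ^ F) := by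
          rw [mul_pow_swap hd hcx]; group
      _ = x ^ k * x * y ^ k * c ^ k * (e ^ A * c ^ A) * y * (d ^ A * d ^ B) * e ^ F := by
          rw [pow_mul_swap he hc hcy, ((hd y).pow_left A).eq, show k.choose 2 = A from rfl]; group
      _ = x ^ (k + 1) * y ^ k * (c ^ k * c ^ A) * (e ^ A * y) * (d ^ A * d ^ B) * e ^ F := by
          rw [((he (c ^ A)).pow_left A).eq, pow_succ x]; group
      _ = x ^ (k + 1) * y ^ k * (c ^ (k + A) * y) * e ^ A * d ^ (A + B) * e ^ F := by
          rw [((he y).pow_left A).eq, ← pow_add, ← pow_add]; group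
      _ = x ^ (k + 1) * (y ^ k * y) * c ^ (k + A) * (e ^ (k + A) * e ^ A * d ^ (A + B)) * e ^ F := by
          rw [mul_pow_swap he hcy]; group
      _ = x ^ (k + 1) * y ^ (k + 1) * c ^ (k + A) * d ^ (A + B) * (e ^ (k + A) * e ^ A * e ^ F) := by
          rw [← pow_succ y, (((he (d ^ (A + B))).pow_left (k + A)).mul_left
            ((he (d ^ (A + B))).pow_left A)).eq]
          group
      _ = _ := by
          rw [← pow_add, ← pow_add, Nat.choose_succ_succ' k 1, Nat.choose_succ_succ' k 2,
            Nat.choose_one_right]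
          congr 2
          simp only [hF, A, B, Nat.reduceAdd]
          omega

/-- In class at most three the double commutators are central. -/
theorem central_of_class_three (hcl : ⁅⁅commutator R, (⊤ : Subgroup R)⁆, (⊤ : Subgroup R)⁆ = ⊥)
    {d : R} (hd : d ∈ ⁅commutator R, (⊤ : Subgroup R)⁆) (z : R) : Commute d z :=
  commutatorElement_eq_one_iff_commute.1 (by
    rw [← mem_bot, ← hcl]
    exact commutator_mem_commutator hd (mem_top z))

variable {p : ℕ} [Fact p.Prime]

/-- The hypothesis "class at most two and `p` odd, or class at most three and `p > 3`". -/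
def Small (R : Type*) [Group R] (p : ℕ) : Prop :=
  (p ≠ 2 ∧ ⁅commutator R, (⊤ : Subgroup R)⁆ = ⊥) ∨
    (3 < p ∧ ⁅⁅commutator R, (⊤ : Subgroup R)⁆, (⊤ : Subgroup R)⁆ = ⊥)

theorem Small.class_three (h : Small R p) :
    ⁅⁅commutator R, (⊤ : Subgroup R)⁆, (⊤ : Subgroup R)⁆ = ⊥ :=
  h.elim (fun h => by rw [h.2, commutator_bot_left]) (·.2)

theorem Small.ne_two (h : Small R p) : p ≠ 2 :=
  h.elim (·.1) fun h => by omega

theorem exists_data (h : Small R p) (x y : R) : ∃ c d e : R,
    c ∈ commutator R ∧ d ∈ ⁅commutator R, (⊤ : Subgroup R)⁆ ∧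
    e ∈ ⁅commutator R, (⊤ : Subgroup R)⁆ ∧ (∀ z, Commute d z) ∧ (∀ z, Commute e z) ∧
    y * x = x * y * c ∧ c * x = x * c * d ∧ c * y = y * c * e := by
  have hc : ⁅y⁻¹, x⁻¹⁆ ∈ commutator R := by
    rw [commutator_def]
    exact commutator_mem_commutator (mem_top _) (mem_top _)
  have hd := fun w : R => commutator_mem_commutator (inv_mem hc) (mem_top w⁻¹)
  refine ⟨⁅y⁻¹, x⁻¹⁆, ⁅⁅y⁻¹, x⁻¹⁆⁻¹, x⁻¹⁆, ⁅⁅y⁻¹, x⁻¹⁆⁻¹, y⁻¹⁆, hc, hd x, hd y,
    central_of_class_three h.class_three (hd x), central_of_class_three h.class_three (hd y),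
    ?_, ?_, ?_⟩ <;> simp only [commutatorElement_def] <;> group

/-- The elements of order dividing `p` form a subgroup. -/
theorem mul_pow_eq_one (h : Small R p) {x y : R} (hx : x ^ p = 1) (hy : y ^ p = 1) :
    (x * y) ^ p = 1 := by
  obtain ⟨c, d, e, hcm, hdm, hem, hd, he, hc, hcx, hcy⟩ := exists_data h x y
  have hp : p.Prime := Fact.out
  have hdp : d ^ p = 1 := by
    have h1 : ∀ k : ℕ, c * x ^ k = x ^ k * c * d ^ k := by
      intro k
      induction k with
      | zero => simp
      | succ k ih =>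
        calc c * x ^ (k + 1) = (c * x ^ k) * x := by rw [pow_succ, mul_assoc]
          _ = x ^ k * c * (d ^ k * x) := by rw [ih]; group
          _ = x ^ k * (c * x) * d ^ k := by rw [((hd x).pow_left k).eq]; group
          _ = x ^ (k + 1) * c * d ^ (k + 1) := by rw [hcx, pow_succ x, pow_succ' d]; group
    simpa [hx] using h1 p
  have hep : e ^ p = 1 := by
    have h1 : ∀ k : ℕ, c * y ^ k = y ^ k * c * e ^ k := by
      intro k
      induction k with
      | zero => simp
      | succ k ih =>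
        calc c * y ^ (k + 1) = (c * y ^ k) * y := by rw [pow_succ, mul_assoc]
          _ = y ^ k * c * (e ^ k * y) := by rw [ih]; group
          _ = y ^ k * (c * y) * e ^ k := by rw [((he y).pow_left k).eq]; group
          _ = y ^ (k + 1) * c * e ^ (k + 1) := by rw [hcy, pow_succ y, pow_succ' e]; group
    simpa [hy] using h1 p
  have h2 : p ∣ p.choose 2 :=
    hp.dvd_choose_self two_ne_zero (lt_of_le_of_ne hp.two_le h.ne_two.symm)
  have he2 : e ^ p.choose 2 = 1 := by
    obtain ⟨k, hk⟩ := h2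
    rw [hk, pow_mul, hep, one_pow]
  have hcp : c ^ p = 1 := by
    simpa [hy, he2] using pow_mul_swap he hc hcy p
  have hc2 : c ^ p.choose 2 = 1 := by
    obtain ⟨k, hk⟩ := h2
    rw [hk, pow_mul, hcp, one_pow]
  have h3 : d ^ p.choose 3 = 1 ∧ e ^ (2 * p.choose 3) = 1 := by
    rcases h with ⟨_, h⟩ | ⟨hp3, _⟩
    · rw [h, mem_bot] at hdm hem
      simp [hdm, hem]
    · obtain ⟨k, hk⟩ := hp.dvd_choose_self (k := 3) (by norm_num) hp3
      rw [hk, ← mul_assoc, mul_comm 2 p, mul_assoc, pow_mul, pow_mul e, hdp, hep]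
      simp
  rw [mul_pow_formula hd he hc hcx hcy, hx, hy, pow_add, hc2, h3.1, he2, h3.2]
  simp

theorem pow_eq_one_of_mem_closure (h : Small R p) {g : R}
    (hg : g ∈ closure {x : R | x ^ p = 1}) : g ^ p = 1 := by
  induction hg using closure_induction with
  | mem x hx => exact hx
  | one => exact one_pow p
  | mul a b _ _ ha hb => exact mul_pow_eq_one h ha hb
  | inv a _ ha => rw [inv_pow, ha, inv_one]

theorem mul_pow_eq_of_derived (h : Small R p)
    (hder : commutator R ≤ closure {x : R | x ^ p = 1}) (x y : R) :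
    (x * y) ^ p = x ^ p * y ^ p := by
  obtain ⟨c, d, e, hcm, hdm, hem, hd, he, hc, hcx, hcy⟩ := exists_data h x y
  have hp : p.Prime := Fact.out
  have hle : ⁅commutator R, (⊤ : Subgroup R)⁆ ≤ commutator R := commutator_le_left _ _
  have hpow : ∀ z ∈ commutator R, ∀ n, p ∣ n → z ^ n = 1 := fun z hz n ⟨k, hk⟩ => by
    rw [hk, pow_mul, pow_eq_one_of_mem_closure h (hder hz), one_pow]
  have h2 : p ∣ p.choose 2 :=
    hp.dvd_choose_self two_ne_zero (lt_of_le_of_ne hp.two_le h.ne_two.symm)
  have h3 : d ^ p.choose 3 = 1 ∧ e ^ (2 * p.choose 3) = 1 := by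
    rcases h with ⟨_, h⟩ | ⟨hp3, _⟩
    · rw [h, mem_bot] at hdm hem
      simp [hdm, hem]
    · have := hp.dvd_choose_self (k := 3) (by norm_num) hp3
      exact ⟨hpow d (hle hdm) _ this, hpow e (hle hem) _ (this.mul_left 2)⟩
  rw [mul_pow_formula hd he hc hcx hcy, pow_add, hpow c hcm _ h2, h3.1, hpow e (hle hem) _ h2, h3.2]
  simp

end CfsgLib.Transfer.SmallClass
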