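import Cfsg.Agent.Transfer.QuadraticAbelian
import Cfsg.Agent.Transfer.Frobenius
import Cfsg.Agent.PLocal.PSolvable
import Cfsg.Agent.Coprime.Action

/-!
# Minimal counterexample to a normal `p`-complement criterion

For a condition `Cond G S` on a group and a Sylow subgroup, with the hereditary properties listed in
`Functor`, every minimal counterexample is constrained, stable, with trivial `p'`-core.
-/

set_option autoImplicit false

namespace CfsgLib.Transfer.Skeleton

open Subgroup Cfsg
open scoped commutatorElement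

universe u

/-- The hereditary properties used by the reduction. -/
structure Functor (p : ℕ) (Cond : ∀ (G : Type u) [Group G], Subgroup G → Prop) : Prop where
  sub : ∀ (G : Type u) [Group G] [Finite G] (S : Sylow p G) (H : Subgroup G),
    Cond G S → (S : Subgroup G) ≤ H → Cond H ((S : Subgroup G).subgroupOf H)
  quot : ∀ (G : Type u) [Group G] [Finite G] (S : Sylow p G) (N : Subgroup G) [N.Normal],
    (Nat.card N).Coprime p → Cond G S → Cond (G ⧸ N) ((S : Subgroup G).map (QuotientGroup.mk' N))
  norm : ∀ (G : Type u) [Group G] [Finite G] (S : Sylow p G),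
    Cond G S → HasNormalPComplement p (normalizer ((S : Subgroup G) : Set G))
  witness : ∀ (G H : Type u) [Group G] [Finite G] [Group H] [Finite H] (f : H →* G),
    Function.Injective f → ∀ R : Sylow p H, (R : Subgroup H) ≠ ⊥ → ¬ Cond H R →
    ∃ W : Subgroup G, W ≤ (R : Subgroup H).map f ∧ W ≠ ⊥ ∧
      normalizer (((R : Subgroup H).map f : Subgroup G) : Set G) ≤ normalizer (W : Set G) ∧
      ¬ HasNormalPComplement p ((normalizer (W : Set G)).comap f)

/-- What is known about a minimal counterexample. -/
structure Critical (p : ℕ) (Cond : ∀ (G : Type u) [Group G], Subgroup G → Prop) (G : Type u)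
    [Group G] (S : Sylow p G) : Prop where
  not_pnil : ¬ HasNormalPComplement p G
  cond : Cond G S
  proper : ∀ H : Subgroup G, (S : Subgroup G) ≤ H → H ≠ ⊤ → HasNormalPComplement p H
  core : pPrimeCore p G = ⊥
  constrained : centralizer (pCore p G : Set G) ≤ pCore p G
  stable : OddOrder.ZJ.QuadraticStable p G

variable {p : ℕ} [Fact p.Prime]

theorem mem_sup_iff_of_le_normalizer {G : Type u} [Group G] {A Y : Subgroup G}
    (h : A ≤ normalizer (Y : Set G)) {x : G} : x ∈ A ⊔ Y ↔ ∃ a ∈ A, ∃ y ∈ Y, a * y = x := by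
  rw [← SetLike.mem_coe, coe_mul_of_left_le_normalizer_right A Y h]
  exact Set.mem_mul

theorem hasNormalPComplement_of_map {G : Type u} [Group G] [Finite G] {H : Type u} [Group H]
    [Finite H] (f : G →* H) (hf : Function.Surjective f) {M : Subgroup H}
    (h : HasNormalPComplement p (M.comap f)) : HasNormalPComplement p M :=
  hasNormalPComplement_of_surjective h (f.subgroupComap M)
    (MonoidHom.subgroupComap_surjective_of_surjective f M hf)

theorem hasNormalPComplement_of_critical (hp2 : p ≠ 2)
    {Cond : ∀ (G : Type u) [Group G], Subgroup G → Prop} (F : Functor p Cond)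
    (hcrit : ∀ (G : Type u) [Group G] [Finite G] (S : Sylow p G), Critical p Cond G S → False) :
    ∀ (n : ℕ) (G : Type u) [Group G] [Finite G], Nat.card G ≤ n → ∀ S : Sylow p G, Cond G S →
      HasNormalPComplement p G := by
  intro n
  induction n with
  | zero => intro G _ _ h; exact absurd h (Nat.not_le.2 Nat.card_pos)
  | succ n ih =>
  intro G _ _ hn S hS
  by_contra hG
  -- proper overgroups of `S`
  have hsub : ∀ H : Subgroup G, (S : Subgroup G) ≤ H → H ≠ ⊤ → HasNormalPComplement p H := by
    intro H hSH hH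
    have hlt : Nat.card H < Nat.card G := lt_of_le_of_ne
      (card_le_card_group H) fun h => hH ((card_eq_iff_eq_top H).1 h)
    refine ih H (by omega) (S.subtype hSH) ?_
    rw [Sylow.coe_subtype]
    exact F.sub G S H hS hSH
  -- trivial `p'`-core
  have hO : pPrimeCore p G = ⊥ := by
    by_contra hne
    set M := pPrimeCore p G with hM
    haveI : M.Normal := inferInstance
    have hlt : Nat.card (G ⧸ M) < Nat.card G := by
      rw [← card_mul_index M, ← index_eq_card]
      exact lt_mul_of_one_lt_left (Nat.pos_of_ne_zero index_ne_zero_of_finite)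
        ((one_lt_card_iff_ne_bot M).2 hne)
    have hcop := PLocal.coprime_card_pPrimeCore p G
    refine hG (hasNormalPComplement_of_quotient M
      ((Fact.out : p.Prime).coprime_iff_not_dvd.1 hcop.symm) ?_)
    refine ih _ (by omega) (S.mapSurjective (QuotientGroup.mk'_surjective M)) ?_
    rw [Sylow.coe_mapSurjective]
    exact F.quot G S M hcop hS
  -- `O_p(G)` is nontrivial
  have hQne : pCore p G ≠ ⊥ := by
    obtain ⟨Q₀, hQ₀⟩ : ∃ Q : Subgroup G, IsPGroup p Q ∧ Q ≠ ⊥ ∧
        ¬ HasNormalPComplement p (normalizer (Q : Set G)) := by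
      by_contra h
      push Not at h
      exact hG (hasNormalPComplement_of_normalizers h)
    obtain ⟨Q, ⟨hQp, hQ1, hQn⟩, hmax⟩ := Set.exists_max_image
      {Q : Subgroup G | IsPGroup p Q ∧ Q ≠ ⊥ ∧ ¬ HasNormalPComplement p (normalizer (Q : Set G))}
      (fun Q => (Nat.card (normalizer (Q : Set G))).factorization p) (Set.toFinite _) ⟨Q₀, hQ₀⟩
    intro hcore
    set N := normalizer (Q : Set G) with hN
    have hNtop : N ≠ ⊤ := by
      intro h
      haveI := normalizer_eq_top_iff.1 h
      exact hQ1 (le_bot_iff.1 (hcore ▸ PLocal.le_pCore hQp))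
    let R : Sylow p N := default
    set R' := (R : Subgroup N).map N.subtype with hR'
    obtain ⟨S₀, hS₀⟩ := (R.isPGroup'.map N.subtype).exists_le_sylow
    by_cases hfull : R' = (S₀ : Subgroup G)
    · -- `N` contains a Sylow subgroup
      obtain ⟨g, hg⟩ := MulAction.exists_smul_eq G S₀ S
      have hg' : ((S₀ : Subgroup G).map (MulAut.conj g).toMonoidHom) = (S : Subgroup G) := by
        rw [← hg, Sylow.coe_subgroup_smul]
        rfl
      set K := N.map (MulAut.conj g).toMonoidHom with hK
      have hSK : (S : Subgroup G) ≤ K := by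
        rw [← hg', ← hfull]
        exact map_mono (map_subtype_le _)
      have hKtop : K ≠ ⊤ := fun h => hNtop (by
        rw [← (map_injective (f := (MulAut.conj g).toMonoidHom) (MulAut.conj g).injective).eq_iff,
          Subgroup.map_top_of_surjective _ (MulAut.conj g).surjective]
        exact h)
      exact hQn ((hasNormalPComplement_congr (N.equivMapOfInjective _ (MulAut.conj g).injective)).2
        (hsub K hSK hKtop))
    · have hlt' : Nat.card N < Nat.card G := lt_of_le_of_ne
        (card_le_card_group N) fun h => hNtop ((card_eq_iff_eq_top N).1 h)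
      have hcond : ¬ Cond N R := fun h => hQn (ih N (by omega) R h)
      have hRne : (R : Subgroup N) ≠ ⊥ := by
        intro h
        refine hQn (hasNormalPComplement_of_not_dvd_card fun hd => ?_)
        have h2 := R.card_eq_multiplicity
        rw [h, card_bot] at h2
        have h3 : 1 ≤ (Nat.card N).factorization p :=
          ((Fact.out : p.Prime).dvd_iff_one_le_factorization Nat.card_pos.ne').1 hd
        have h4 := Nat.one_lt_pow (by omega : (Nat.card N).factorization p ≠ 0)
          (Fact.out : p.Prime).one_lt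
        omega
      obtain ⟨W, hWR, hW1, hRW, hWn⟩ := F.witness G N N.subtype N.subtype_injective R hRne hcond
      have hWp : IsPGroup p W := (R.isPGroup'.map N.subtype).to_le hWR
      have hWN : ¬ HasNormalPComplement p (normalizer (W : Set G)) := fun h => hWn
        (hasNormalPComplement_of_injective h (N.subtype.subgroupComap (normalizer (W : Set G)))
          fun a b hab => Subtype.ext (N.subtype_injective (congrArg Subtype.val hab :)))
      have hle := hmax W ⟨hWp, hW1, hWN⟩
      -- a larger `p`-subgroup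
      have hRlt : R' < (S₀ : Subgroup G) := lt_of_le_of_ne hS₀ hfull
      haveI := S₀.isPGroup'.isNilpotent
      have hne' : R'.subgroupOf (S₀ : Subgroup G) ≠ ⊤ := fun h =>
        hfull (le_antisymm hS₀ (subgroupOf_eq_top.1 h))
      obtain ⟨y, hy, hyR⟩ := SetLike.exists_of_lt
        (Group.normalizerCondition_of_isNilpotent (G := (S₀ : Subgroup G)) _ (lt_top_iff_ne_top.2 hne'))
      set T := (S₀ : Subgroup G) ⊓ normalizer (R' : Set G) with hT
      have hRT : R' < T := by
        refine lt_of_le_of_ne (le_inf hS₀ le_normalizer) fun h => hyR ?_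
        rw [mem_subgroupOf, h]
        refine ⟨y.2, mem_normalizer_fintype fun r hr => ?_⟩
        exact (mem_normalizer_iff.1 hy ⟨r, hS₀ hr⟩).1 hr
      have hTW : T ≤ normalizer (W : Set G) := inf_le_right.trans hRW
      obtain ⟨a, ha⟩ := IsPGroup.iff_card.1 (S₀.isPGroup'.to_le (inf_le_left : T ≤ S₀))
      have hc : Nat.card R' < Nat.card T := lt_of_le_of_ne (card_le_of_le hRT.le)
        fun h => hRT.ne (eq_of_le_of_card_ge hRT.le h.ge)
      rw [card_map_of_injective N.subtype_injective, R.card_eq_multiplicity, ha,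
        Nat.pow_lt_pow_iff_right (Fact.out : p.Prime).one_lt] at hc
      have hd := card_dvd_of_le hTW
      rw [ha, (Fact.out : p.Prime).pow_dvd_iff_le_factorization Nat.card_pos.ne'] at hd
      omega
  -- the quotient by `O_p(G)`
  have hQp := PLocal.isPGroup_pCore p G
  set Q := pCore p G with hQ
  set π := QuotientGroup.mk' Q with hπ
  have hπs : Function.Surjective π := QuotientGroup.mk'_surjective Q
  have hQS : Q ≤ (S : Subgroup G) := PLocal.pCore_le_sylow S
  let SX : Sylow p (G ⧸ Q) := S.mapSurjective hπs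
  have hSbar : (SX : Subgroup (G ⧸ Q)) = (S : Subgroup G).map π := Sylow.coe_mapSurjective hπs S
  have hSne : (SX : Subgroup (G ⧸ Q)) ≠ ⊥ := by
    intro h
    rw [hSbar, Subgroup.map_eq_bot_iff, QuotientGroup.ker_mk'] at h
    have hSQ : (S : Subgroup G) = Q := le_antisymm h hQS
    have h2 := F.norm G S hS
    rw [hSQ, normalizer_eq_top] at h2
    exact hG ((hasNormalPComplement_congr Subgroup.topEquiv).1 h2)
  have hQlt : Nat.card (G ⧸ Q) < Nat.card G := by
    rw [← card_mul_index Q, ← index_eq_card]
    exact lt_mul_of_one_lt_left (Nat.pos_of_ne_zero index_ne_zero_of_finite)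
      ((one_lt_card_iff_ne_bot Q).2 hQne)
  have hX : HasNormalPComplement p (G ⧸ Q) := by
    by_contra hXn
    have hcond : ¬ Cond (G ⧸ Q) SX := fun h => hXn (ih _ (by omega) SX h)
    obtain ⟨W, hWS, hW1, hNW, hWn⟩ := F.witness (G ⧸ Q) (G ⧸ Q) (MonoidHom.id _)
      Function.injective_id SX hSne hcond
    rw [Subgroup.map_id] at hWS hNW
    rw [Subgroup.comap_id] at hWn
    have hWp : IsPGroup p W := SX.isPGroup'.to_le hWS
    set M := (normalizer (W : Set (G ⧸ Q))).comap π with hM
    have hSM : (S : Subgroup G) ≤ M := by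
      rw [hM, ← map_le_iff_le_comap, ← hSbar]
      exact le_normalizer.trans hNW
    refine hWn (hasNormalPComplement_of_map π hπs (hsub M hSM fun h => hW1 ?_))
    have htop : normalizer (W : Set (G ⧸ Q)) = ⊤ := by
      rw [← Subgroup.map_comap_eq_self_of_surjective hπs (normalizer (W : Set (G ⧸ Q))), ← hM, h,
        Subgroup.map_top_of_surjective _ hπs]
    haveI := normalizer_eq_top_iff.1 htop
    exact le_bot_iff.1 (PLocal.pCore_quotient_pCore_eq_bot p G ▸ PLocal.le_pCore hWp)
  -- its normal complement
  set L := pResidual p (G ⧸ Q) with hL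
  have hLp : ¬ p ∣ Nat.card L := hasNormalPComplement_iff.1 hX
  have hLq : IsPGroup p ((G ⧸ Q) ⧸ L) := isPGroup_quotient_pResidual
  have hcopL : (Nat.card L).Coprime p :=
    Nat.Coprime.symm ((Fact.out : p.Prime).coprime_iff_not_dvd.2 hLp)
  have hC : centralizer (Q : Set G) ≤ Q := by
    refine PLocal.centralizer_pCore_le ?_ hO
    refine PLocal.isPSolvable_of_extension Q (PLocal.isPSolvable_of_isPGroup hQp) ?_
    exact PLocal.isPSolvable_of_extension L (PLocal.isPSolvable_of_coprime hcopL)
      (PLocal.isPSolvable_of_isPGroup hLq)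
  have hLne : L ≠ ⊥ := by
    intro h
    have h1 : IsPGroup p (G ⧸ Q) := fun x => by
      obtain ⟨k, hk⟩ := hLq (QuotientGroup.mk' L x)
      refine ⟨k, ?_⟩
      rw [← map_pow] at hk
      have h3 : x ^ p ^ k ∈ L := (QuotientGroup.eq_one_iff _).1 hk
      rwa [h, mem_bot] at h3
    refine hG (hasNormalPComplement_of_isPGroup fun g => ?_)
    obtain ⟨k, hk⟩ := h1 (π g)
    have h2 : g ^ p ^ k ∈ Q := (QuotientGroup.eq_one_iff _).1 hk
    obtain ⟨j, hj⟩ := hQp ⟨_, h2⟩
    refine ⟨k + j, ?_⟩
    rw [pow_add, pow_mul]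
    simpa using congrArg Subtype.val hj
  -- subgroups of `L` normalised by `SX` are all or nothing
  have hmin : ∀ Y : Subgroup (G ⧸ Q), Y ≤ L → (SX : Subgroup (G ⧸ Q)) ≤ normalizer (Y : Set (G ⧸ Q)) →
      Y ≠ ⊥ → Y = L := by
    intro Y hYL hYn hY1
    set M := ((SX : Subgroup (G ⧸ Q)) ⊔ Y).comap π with hM
    by_cases hMtop : M = ⊤
    · refine le_antisymm hYL fun l hl => ?_
      have hl' : l ∈ (SX : Subgroup (G ⧸ Q)) ⊔ Y := by
        rw [← Subgroup.map_comap_eq_self_of_surjective hπs ((SX : Subgroup (G ⧸ Q)) ⊔ Y), ← hM,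
          hMtop, Subgroup.map_top_of_surjective _ hπs]
        exact mem_top l
      obtain ⟨s, hs, y, hy, rfl⟩ := (mem_sup_iff_of_le_normalizer hYn).1 hl'
      have hsL : s ∈ L := by
        have := mul_mem hl (inv_mem (hYL hy))
        rwa [mul_inv_cancel_right] at this
      have hs1 : s = 1 := by
        have h3 := inf_eq_bot_of_not_dvd_card hLp SX.isPGroup'
        rw [← mem_bot, ← h3]
        exact ⟨hsL, hs⟩
      rwa [hs1, one_mul]
    · exfalso
      have hSM : (S : Subgroup G) ≤ M := by
        rw [hM, ← map_le_iff_le_comap, ← hSbar]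
        exact le_sup_left
      have hMn := hsub M hSM hMtop
      refine hY1 (le_bot_iff.1 fun y hy => ?_)
      obtain ⟨g, hg⟩ := hπs y
      have hgM : g ∈ M := by
        rw [hM, mem_comap, hg]
        exact mem_sup_right hy
      have hyord : Nat.Coprime (orderOf y) p :=
        hcopL.coprime_dvd_left (L.orderOf_dvd_natCard (hYL hy))
      obtain ⟨a, ha⟩ := hQp ⟨_, (QuotientGroup.eq_one_iff (g ^ orderOf y)).1
        (show π (g ^ orderOf y) = 1 by rw [map_pow, hg, pow_orderOf_eq_one])⟩
      set g' := g ^ p ^ a with hg'def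
      have hg'ord : Nat.Coprime (orderOf g') p := by
        refine hyord.coprime_dvd_left (orderOf_dvd_of_pow_eq_one ?_)
        rw [← pow_mul, mul_comm, pow_mul]
        simpa using congrArg Subtype.val ha
      have hg'Q : g' ∈ centralizer (Q : Set G) := by
        have hQM : Q ≤ M := hQS.trans hSM
        intro q hq
        have hcen := mem_centralizer_of_hasNormalPComplement hMn (Q := Q.subgroupOf M) hQp.comap_subtype
          (g := ⟨g', pow_mem hgM _⟩)
          (by rw [normalizer_eq_top]; exact mem_top _) (by rwa [Subgroup.orderOf_mk])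
        exact congrArg Subtype.val (hcen ⟨q, hQM hq⟩ (mem_subgroupOf.2 hq))
      have h1 : y ^ p ^ a = 1 := by
        rw [← hg, ← map_pow]
        exact (QuotientGroup.eq_one_iff _).2 (hC hg'Q)
      exact mem_bot.2 (orderOf_eq_one_iff.1 (Nat.eq_one_of_dvd_coprimes
        (Nat.Coprime.pow_right a hyord) dvd_rfl (orderOf_dvd_of_pow_eq_one h1)))
  -- `L` is abelian
  haveI hLc : IsMulCommutative L := by
    obtain ⟨q, hq, hqd⟩ := Nat.exists_prime_and_dvd ((one_lt_card_iff_ne_bot L).2 hLne).ne'
    haveI : Fact q.Prime := ⟨hq⟩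
    have hcop : (Nat.card (SX : Subgroup (G ⧸ Q))).Coprime (Nat.card L) := by
      obtain ⟨k, hk⟩ := IsPGroup.iff_card.1 SX.isPGroup'
      rw [hk]
      exact Nat.Coprime.pow_left k hcopL.symm
    haveI := SX.isPGroup'.isNilpotent
    obtain ⟨Pq, hPq⟩ := Coprime.exists_invariant_sylow
      (A := (SX : Subgroup (G ⧸ Q))) (G := L) le_normalizer_of_normal hcop
      (Or.inl inferInstance) q
    set Y := (Pq : Subgroup L).map L.subtype with hY
    have hPne : (Pq : Subgroup L) ≠ ⊥ := Pq.ne_bot_of_dvd_card hqd
    have hYne : Y ≠ ⊥ := by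
      rw [hY, ne_eq, Subgroup.map_eq_bot_iff_of_injective _ L.subtype_injective]
      exact hPne
    have hYL : Y = L := hmin Y (map_subtype_le _) hPq hYne
    haveI : Nontrivial Y := (nontrivial_iff_ne_bot Y).2 hYne
    haveI := (Pq.isPGroup'.map L.subtype).center_nontrivial
    set Z := (center L).map L.subtype with hZ
    haveI : Z.Normal := ConjAct.normal_of_characteristic_of_normal
    have hZne : Z ≠ ⊥ := by
      obtain ⟨c, hc⟩ := exists_ne (1 : center Y)
      intro h
      have hcL : ((c : Y) : G ⧸ Q) ∈ Z := by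
        refine ⟨⟨_, hYL.le (c : Y).2⟩, mem_center_iff.2 fun l => ?_, rfl⟩
        exact Subtype.ext (congrArg Subtype.val
          (mem_center_iff.1 c.2 ⟨l, hYL.ge l.2⟩) :)
      rw [h, mem_bot] at hcL
      exact hc (Subtype.ext (Subtype.ext hcL))
    have hZL : Z = L := hmin Z (map_subtype_le _) le_normalizer_of_normal hZne
    refine ⟨⟨fun a b => ?_⟩⟩
    obtain ⟨c, hc, hca⟩ := hZL.ge a.2
    obtain rfl : c = a := Subtype.ext hca
    exact (mem_center_iff.1 hc b).symm
  -- stability
  set K := L.comap π with hK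
  have hst : OddOrder.ZJ.QuadraticStable p G := by
    refine QuadAb.quadraticStable_of_series hp2 Q K hQp ?_ hcopL ?_ ?_
    · intro a ha b hb
      rw [← QuotientGroup.eq_one_iff]
      show π ⁅a, b⁆ = 1
      rw [map_commutatorElement, commutatorElement_eq_one_iff_mul_comm]
      exact congrArg Subtype.val (mul_comm' (⟨π a, ha⟩ : L) ⟨π b, hb⟩)
    · intro a ha
      rw [← QuotientGroup.eq_one_iff]
      show π (a ^ Nat.card L) = 1
      rw [map_pow]
      exact congrArg Subtype.val (pow_card_eq_one' (x := (⟨π a, ha⟩ : L)))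
    · intro x
      obtain ⟨g, rfl⟩ := QuotientGroup.mk'_surjective K x
      obtain ⟨k, hk⟩ := hLq (QuotientGroup.mk' L (π g))
      refine ⟨k, ?_⟩
      rw [← map_pow, ← map_pow] at hk
      rw [← map_pow]
      exact (QuotientGroup.eq_one_iff _).2 ((QuotientGroup.eq_one_iff (π (g ^ p ^ k))).1 hk)
  exact hcrit G S ⟨hG, hS, hsub, hO, hC, hst⟩

end CfsgLib.Transfer.Skeleton
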